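import Mathlib.GroupTheory.Sylow
import Mathlib.GroupTheory.GroupAction.MultipleTransitivity
import Mathlib.GroupTheory.SpecificGroups.Cyclic
import Cfsg.Prelude.Def_LieExceptional
import Cfsg.Agent.Lib.SEmb.Counting
import Cfsg.Agent.Lib.Solvable.SchurZassenhaus
import Cfsg.Agent.Lib.Frobenius.Theorem

/-!
# CIT groups with a trivial intersection Sylow 2-subgroup

A finite simple group in which involution centralisers are 2-groups and whose Sylow 2-subgroups
meet trivially is a Zassenhaus group on the cosets of a Sylow normaliser.  The proof only counts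
involutions swapping a pair of points.
-/

set_option autoImplicit false

namespace CfsgLib.CIT

open MulAction CfsgLib.SEmb

variable {G : Type*} [Group G]

/-- Every involution centraliser is a 2-group. -/
def IsCIT (G : Type*) [Group G] : Prop :=
  ∀ t : G, orderOf t = 2 → IsPGroup 2 (Subgroup.centralizer ({t} : Set G))

/-- Sylow 2-subgroups in the orbit of `S` meet trivially. -/
def IsTI (S : Sylow 2 G) : Prop :=
  ∀ g : G, g ∉ Subgroup.normalizer ((S : Subgroup G) : Set G) →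
    ∀ x ∈ (S : Subgroup G), g⁻¹ * x * g ∈ (S : Subgroup G) → x = 1

theorem eq_one_of_commute_invol [Finite G] (hC : IsCIT G) {u h : G} (hu : orderOf u = 2)
    (hc : Commute u h) (hodd : Odd (orderOf h)) : h = 1 := by
  obtain ⟨k, hk⟩ := IsPGroup.iff_orderOf.mp (hC u hu)
    ⟨h, Subgroup.mem_centralizer_singleton_iff.mpr hc.eq.symm⟩
  rw [Subgroup.orderOf_mk] at hk
  rcases Nat.eq_zero_or_pos k with rfl | hk0
  · simpa using hk
  · exact absurd hodd (Nat.not_odd_iff_even.mpr (hk ▸ (Nat.even_pow.mpr ⟨even_two, hk0.ne'⟩)))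

theorem eq_zero_of_odd_two_pow {k : ℕ} (h : Odd (2 ^ k)) : k = 0 := by
  by_contra hk
  exact Nat.not_even_iff_odd.mpr h (Nat.even_pow.mpr ⟨even_two, hk⟩)

theorem odd_card_of_no_invol [Finite G] {D : Subgroup G}
    (h : ∀ t ∈ D, orderOf t ≠ 2) : Odd (Nat.card D) := by
  rw [← Nat.not_even_iff_odd]
  intro he
  obtain ⟨⟨t, ht⟩, ho⟩ := exists_prime_orderOf_dvd_card' 2 (even_iff_two_dvd.mp he)
  rw [Subgroup.orderOf_mk] at ho
  exact h t ht ho

theorem odd_orderOf_of_mem [Finite G] {D : Subgroup G} (hD : Odd (Nat.card D)) {h : G}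
    (hh : h ∈ D) : Odd (orderOf h) :=
  hD.of_dvd_nat (Subgroup.orderOf_dvd_natCard D hh)

section

variable (S : Sylow 2 G)

local notation "BB" => Subgroup.normalizer ((S : Subgroup G) : Set G)
local notation "Ω" => G ⧸ Subgroup.normalizer ((S : Subgroup G) : Set G)

theorem le_sylow_of_le_normalizer {P : Subgroup G} (hP : IsPGroup 2 P) (hle : P ≤ BB) :
    P ≤ (S : Subgroup G) :=
  le_sup_left.trans (S.3 (hP.to_sup_of_normal_right' S.2 hle) le_sup_right).le

theorem mem_sylow_of_invol {t : G} (ht : orderOf t = 2) (htB : t ∈ BB) : t ∈ (S : Subgroup G) := by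
  refine le_sylow_of_le_normalizer S (P := Subgroup.zpowers t) ?_
    (Subgroup.zpowers_le.mpr htB) (Subgroup.mem_zpowers t)
  exact IsPGroup.of_card (n := 1) (by rw [Nat.card_zpowers, ht, pow_one])

theorem exists_conj_stab (a : Ω) : ∃ g : G, ∀ x : G, x • a = a ↔ g⁻¹ * x * g ∈ BB := by
  induction a using QuotientGroup.induction_on with
  | _ g => exact ⟨g, fun x => smul_mk_eq_iff x g⟩

/-- The odd part `e` of the order of the normaliser. -/
noncomputable abbrev oddPart : ℕ := (S : Subgroup G).relIndex BB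

theorem card_normalizer : oddPart S * Nat.card S = Nat.card BB := by
  rw [mul_comm, ← Nat.card_congr (Subgroup.subgroupOfEquivOfLe
    (Subgroup.le_normalizer (H := (S : Subgroup G)))).toEquiv]
  exact Subgroup.card_mul_index _

variable [Finite G]

theorem odd_oddPart : Odd (oddPart S) := by
  have h : oddPart S ∣ (S : Subgroup G).index :=
    ⟨(BB).index, (Subgroup.relIndex_mul_index Subgroup.le_normalizer).symm⟩
  refine Nat.not_even_iff_odd.mp fun he => S.not_dvd_index ?_
  exact (even_iff_two_dvd.mp he).trans h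

theorem card_le_oddPart {a : Ω} {D : Subgroup G} (hD : ∀ d ∈ D, d • a = a)
    (hodd : Odd (Nat.card D)) : Nat.card D ≤ oddPart S := by
  obtain ⟨g, hg⟩ := exists_conj_stab S a
  refine Nat.le_of_mul_le_mul_right ?_ (Nat.card_pos (α := (S : Subgroup G)))
  rw [card_normalizer S, ← Nat.card_prod]
  refine Nat.card_le_card_of_injective (fun p => (⟨g⁻¹ * (p.1 : G) * g * (p.2 : G),
    mul_mem ((hg _).mp (hD _ p.1.2)) (Subgroup.le_normalizer p.2.2)⟩ : BB)) ?_
  rintro ⟨⟨d, hd⟩, ⟨s, hs⟩⟩ ⟨⟨d', hd'⟩, ⟨s', hs'⟩⟩ h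
  have he : g⁻¹ * d * g * s = g⁻¹ * d' * g * s' := congrArg Subtype.val h
  have h2 : g⁻¹ * (d'⁻¹ * d) * g ∈ (S : Subgroup G) := by
    have : g⁻¹ * (d'⁻¹ * d) * g = s' * s⁻¹ := by
      rw [eq_mul_inv_iff_mul_eq]
      calc g⁻¹ * (d'⁻¹ * d) * g * s = g⁻¹ * d'⁻¹ * g * (g⁻¹ * d * g * s) := by group
        _ = s' := by rw [he]; group
    rw [this]; exact mul_mem hs' (inv_mem hs)
  obtain ⟨k, hk⟩ := IsPGroup.iff_orderOf.mp S.2 ⟨_, h2⟩
  rw [Subgroup.orderOf_mk] at hk
  have ho : orderOf (g⁻¹ * (d'⁻¹ * d) * g) = orderOf (d'⁻¹ * d) := by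
    have := Invol.orderOf_conj g⁻¹ (d'⁻¹ * d)
    rwa [inv_inv] at this
  have ho2 : Odd (2 ^ k) := hk ▸ ho.symm ▸ odd_orderOf_of_mem hodd (mul_mem (inv_mem hd') hd)
  obtain rfl : k = 0 := eq_zero_of_odd_two_pow ho2
  rw [ho, pow_zero, orderOf_eq_one_iff, inv_mul_eq_one] at hk
  subst hk
  simpa using he

theorem eq_one_of_inverts_fix {a : Ω} {u h : G} (hu : orderOf u = 2) (hua : u • a = a)
    (hha : h • a = a) (hodd : Odd (orderOf h)) (hinv : u * h * u⁻¹ = h⁻¹) : h = 1 := by
  obtain ⟨g, hg⟩ := exists_conj_stab S a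
  have hg' := inv_inv g ▸ fun x : G => Invol.orderOf_conj g⁻¹ x
  have hu' : g⁻¹ * u * g ∈ (S : Subgroup G) :=
    mem_sylow_of_invol S (by rw [hg', hu]) ((hg u).mp hua)
  have h2 : g⁻¹ * (h * h) * g ∈ (S : Subgroup G) := by
    have hn := ((Subgroup.mem_normalizer_iff.mp ((hg h).mp hha)) _).mp hu'
    have := mul_mem hn (inv_mem hu')
    have e : h * h = h * u * h⁻¹ * u⁻¹ := by
      rw [show h * u * h⁻¹ * u⁻¹ = h * (u * h⁻¹ * u⁻¹) by group,
        show u * h⁻¹ * u⁻¹ = (u * h * u⁻¹)⁻¹ by group, hinv, inv_inv]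
    rw [e]
    simpa [mul_assoc] using this
  obtain ⟨k, hk⟩ := IsPGroup.iff_orderOf.mp S.2 ⟨_, h2⟩
  rw [Subgroup.orderOf_mk, hg', ← pow_two, (Nat.coprime_two_right.mpr hodd).orderOf_pow] at hk
  obtain rfl : k = 0 := eq_zero_of_odd_two_pow (hk ▸ hodd : Odd (2 ^ k))
  simpa using hk

end

section

variable {S : Sylow 2 G}

local notation "BB" => Subgroup.normalizer ((S : Subgroup G) : Set G)
local notation "Ω" => G ⧸ Subgroup.normalizer ((S : Subgroup G) : Set G)

variable [Finite G] (hC : IsCIT G) (hTI : IsTI S) (hne : Subgroup.normalizer ((S : Subgroup G) : Set G) ≠ (⊤ : Subgroup G)) (hev : 2 ∣ Nat.card G)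
include hC hTI hne hev

theorem stronglyEmbedded : Cfsg.IsStronglyEmbedded BB := by
  refine ⟨hne, ?_, fun g hg => odd_card_of_no_invol ?_⟩
  · rw [even_iff_two_dvd]
    exact (Sylow.dvd_card_of_dvd_card S hev).trans (Subgroup.card_dvd_of_le Subgroup.le_normalizer)
  · rintro t ⟨htB, y, hy, rfl⟩ ht
    rw [MulEquiv.coe_toMonoidHom, MulAut.conj_apply] at ht htB
    have hyS : y ∈ (S : Subgroup G) :=
      mem_sylow_of_invol S (by rwa [Invol.orderOf_conj] at ht) hy
    have := hTI g hg _ (mem_sylow_of_invol S ht htB) (by simpa [mul_assoc] using hyS)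
    rw [this, orderOf_one] at ht
    omega

theorem odd_stab_pair {a b : Ω} (hab : a ≠ b) :
    Odd (Nat.card (stabilizer G a ⊓ stabilizer G b : Subgroup G)) :=
  odd_card_of_no_invol fun _ ht ho =>
    hab (point_unique (stronglyEmbedded hC hTI hne hev) ho ht.1 ht.2)

theorem le_card_fix : oddPart S ≤
    Nat.card (Swap (QuotientGroup.mk 1 : Ω) (QuotientGroup.mk 1 : Ω)) := by
  obtain ⟨⟨t, htS⟩, ht⟩ := exists_prime_orderOf_dvd_card' 2 (Sylow.dvd_card_of_dvd_card S hev)
  rw [Subgroup.orderOf_mk] at ht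
  let f : BB → Swap (QuotientGroup.mk 1 : Ω) (QuotientGroup.mk 1 : Ω) := fun b =>
    ⟨(b : G) * t * (b : G)⁻¹, by rw [Invol.orderOf_conj, ht],
      (smul_one_eq_iff _).mpr (mul_mem (mul_mem b.2 (Subgroup.le_normalizer htS)) (inv_mem b.2))⟩
  choose r hr using fun v : Set.range f => v.2
  refine Nat.le_of_mul_le_mul_right ?_ (Nat.card_pos (α := (S : Subgroup G)))
  rw [card_normalizer S, ← Nat.card_prod]
  have hmem : ∀ b : BB, ((r ⟨f b, b, rfl⟩ : BB) : G)⁻¹ * (b : G) ∈ (S : Subgroup G) := by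
    intro b
    have h : ((r ⟨f b, b, rfl⟩ : BB) : G) * t * ((r ⟨f b, b, rfl⟩ : BB) : G)⁻¹ =
        (b : G) * t * (b : G)⁻¹ := congrArg Subtype.val (hr ⟨f b, b, rfl⟩)
    refine le_sylow_of_le_normalizer S (P := Subgroup.centralizer ({t} : Set G) ⊓ BB)
      ((hC t ht).to_le inf_le_left) inf_le_right (Subgroup.mem_inf.mpr ⟨?_, mul_mem (inv_mem (r ⟨f b, b, rfl⟩).2) b.2⟩)
    refine Subgroup.mem_centralizer_singleton_iff.mpr ?_
    generalize ((r ⟨f b, b, rfl⟩ : BB) : G) = c at h
    calc c⁻¹ * (b : G) * t = c⁻¹ * ((b : G) * t * (b : G)⁻¹) * (b : G) := by group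
      _ = t * (c⁻¹ * (b : G)) := by rw [← h]; group
  refine Nat.card_le_card_of_injective (fun b => (f b, ⟨_, hmem b⟩)) fun b c h => ?_
  simp only [Prod.mk.injEq, Subtype.mk.injEq] at h
  obtain ⟨h1, h2⟩ := h
  have h3 : (⟨f b, b, rfl⟩ : Set.range f) = ⟨f c, c, rfl⟩ := Subtype.ext h1
  rw [h3] at h2
  exact Subtype.ext (mul_left_cancel h2)

theorem card_swap_eq {a b : Ω} (hab : a ≠ b) :
    Nat.card (Swap a b) = oddPart S ∧
      Nat.card (stabilizer G a ⊓ stabilizer G b : Subgroup G) = oddPart S ∧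
      ∀ u : G, orderOf u = 2 → u • a = b →
        ∀ d ∈ stabilizer G a ⊓ stabilizer G b, u * d * u⁻¹ = d⁻¹ := by
  have hH := stronglyEmbedded hC hTI hne hev
  have h1 : oddPart S ≤ Nat.card (Swap a b) := by
    rw [card_swap hH a b, card_swap_self_eq hH a (QuotientGroup.mk 1)]
    exact le_card_fix hC hTI hne hev
  have h2 := card_le_oddPart S (fun d (hd : d ∈ stabilizer G a ⊓ stabilizer G b) => hd.1)
    (odd_stab_pair hC hTI hne hev hab)
  have key : ∀ u : G, orderOf u = 2 → u • a = b → ∃ f : Swap a b → (stabilizer G a ⊓ stabilizer G b : Subgroup G),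
      Function.Injective f ∧ ∀ w, (f w : G) = u * w.1 := by
    intro u hu hua
    refine ⟨fun w => ⟨u * w.1, ?_, ?_⟩, fun w w' h => ?_, fun w => rfl⟩
    · show (u * w.1) • a = a
      rw [mul_smul, w.2.2, (smul_invol_eq_iff hu a b).mp hua]
    · show (u * w.1) • b = b
      rw [mul_smul, (smul_invol_eq_iff w.2.1 a b).mp w.2.2, hua]
    · exact Subtype.ext (mul_left_cancel (congrArg Subtype.val h))
  have hpos : 0 < oddPart S := (odd_oddPart S).pos
  obtain ⟨⟨u0, hu0, hu0a⟩⟩ := (Nat.card_pos_iff.mp (hpos.trans_le h1)).1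
  obtain ⟨f, hf, -⟩ := key u0 hu0 hu0a
  have h3 := Nat.card_le_card_of_injective f hf
  refine ⟨by omega, by omega, fun u hu hua d hd => ?_⟩
  obtain ⟨f, hf, hfv⟩ := key u hu hua
  obtain ⟨w, hw⟩ := (hf.bijective_of_nat_card_le (by omega)).2 ⟨d, hd⟩
  have hdv : d = u * w.1 := (congrArg Subtype.val hw).symm.trans (hfv w)
  rw [hdv, mul_inv_rev, Invol.inv_eq_self w.2.1, Invol.inv_eq_self hu, ← mul_assoc,
    Invol.mul_self_eq_one hu, one_mul]

theorem stab_pair_comm {a b : Ω} (hab : a ≠ b) {d d' : G}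
    (hd : d ∈ stabilizer G a ⊓ stabilizer G b) (hd' : d' ∈ stabilizer G a ⊓ stabilizer G b) :
    Commute d d' := by
  obtain ⟨hs, -, hinv⟩ := card_swap_eq hC hTI hne hev hab
  obtain ⟨⟨u, hu, hua⟩⟩ :=
    (Nat.card_pos_iff.mp (hs.symm ▸ (odd_oddPart S).pos)).1
  have h := hinv u hu hua _ (mul_mem hd hd')
  rw [show u * (d * d') * u⁻¹ = u * d * u⁻¹ * (u * d' * u⁻¹) by group, hinv u hu hua d hd,
    hinv u hu hua d' hd'] at h
  have h' := congrArg (·⁻¹) h
  simp only [mul_inv_rev, inv_inv] at h'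
  exact h'.symm

theorem fix_pair (he : 1 < oddPart S) {a b c : Ω} (hab : a ≠ b)
    (hc : ∀ h ∈ stabilizer G a ⊓ stabilizer G b, h • c = c) : c = a ∨ c = b := by
  classical
  have : Fintype Ω := Fintype.ofFinite _
  obtain ⟨hsw, hcard, hinv⟩ := card_swap_eq hC hTI hne hev hab
  set D := stabilizer G a ⊓ stabilizer G b with hDdef
  let F : Set Ω := {x | ∀ h ∈ D, h • x = x}
  have haF : a ∈ F := fun h hh => hh.1
  have hbF : b ∈ F := fun h hh => hh.2
  have hDodd : Odd (Nat.card D) := hcard.symm ▸ odd_oddPart S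
  obtain ⟨h0, hh0, hh01⟩ : ∃ h ∈ D, h ≠ 1 := by
    by_contra hcon
    push Not at hcon
    rw [(Subgroup.eq_bot_iff_forall D).mpr hcon, Subgroup.card_bot] at hcard
    omega
  let P : G → Prop := fun k => orderOf k = 2 ∧ ∀ h ∈ D, k * h * k⁻¹ = h⁻¹
  have hpres : ∀ k, P k → ∀ x ∈ F, k • x ∈ F ∧ k • x ≠ x := by
    intro k hk x hx
    refine ⟨fun h hh => ?_, fun e => hh01 (eq_one_of_inverts_fix S hk.1 e (hx _ hh0)
      (odd_orderOf_of_mem hDodd hh0) (hk.2 _ hh0))⟩
    have h1 : h * k = k * h⁻¹ := by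
      have := hk.2 h⁻¹ (inv_mem hh)
      rw [inv_inv] at this
      exact (mul_inv_eq_iff_eq_mul.mp this).symm
    rw [← mul_smul, h1, mul_smul, hx _ (inv_mem hh)]
  have hP : ∀ y ∈ F, a ≠ y → ∀ k : G, orderOf k = 2 → k • a = y → P k := by
    intro y hy hay k hk hka
    exact ⟨hk, fun h hh => (card_swap_eq hC hTI hne hev hay).2.2 k hk hka h ⟨hh.1, hy h hh⟩⟩
  let e1 : {k : G // P k} ≃ Σ y : {y : Ω // y ∈ F ∧ a ≠ y}, Swap a y.1 :=
    { toFun := fun k => ⟨⟨k.1 • a, (hpres _ k.2 a haF).1, (hpres _ k.2 a haF).2.symm⟩,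
        k.1, k.2.1, rfl⟩
      invFun := fun p => ⟨p.2.1, hP p.1.1 p.1.2.1 p.1.2.2 p.2.1 p.2.2.1 p.2.2.2⟩
      left_inv := fun k => rfl
      right_inv := fun p => by
        obtain ⟨⟨y, hy⟩, k, hk, hka⟩ := p
        exact Sigma.subtype_ext (Subtype.ext hka) rfl }
  have hK : Nat.card {k : G // P k} = (F.ncard - 1) * oddPart S := by
    rw [Nat.card_congr e1, Nat.card_sigma, Finset.sum_congr rfl
      (fun y _ => (card_swap_eq hC hTI hne hev y.2.2).1), Finset.sum_const, Finset.card_univ,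
      smul_eq_mul, ← Nat.card_eq_fintype_card]
    congr 1
    rw [← Set.ncard_sdiff_singleton_of_mem haF, ← Nat.card_coe_set_eq]
    exact Nat.card_congr (Equiv.subtypeEquivRight fun y => by
      simp [Set.mem_sdiff, eq_comm])
  obtain ⟨⟨u, hu, hua⟩⟩ := (Nat.card_pos_iff.mp (hsw.symm ▸ (odd_oddPart S).pos)).1
  have hPu : P u := hP b hbF hab u hu hua
  let M := Subgroup.centralizer (D : Set G)
  have hMF : ∀ m ∈ M, ∀ x ∈ F, m • x ∈ F := by
    intro m hm x hx h hh
    rw [← mul_smul, Subgroup.mem_centralizer_iff.mp hm h hh, mul_smul, hx h hh]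
  have hModd : Odd (Nat.card M) := odd_card_of_no_invol fun t ht ho =>
    hh01 (eq_one_of_commute_invol hC ho (Subgroup.mem_centralizer_iff.mp ht h0 hh0).symm
      (odd_orderOf_of_mem hDodd hh0))
  have hMu : ∀ m ∈ M, u * m * u⁻¹ ∈ M := by
    intro m hm
    rw [Subgroup.mem_centralizer_iff]
    intro h hh
    have h1 : h = u * h⁻¹ * u⁻¹ := by
      have := hPu.2 h⁻¹ (inv_mem hh)
      rw [inv_inv] at this; exact this.symm
    rw [h1, show u * h⁻¹ * u⁻¹ * (u * m * u⁻¹) = u * (h⁻¹ * m) * u⁻¹ by group,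
      Subgroup.mem_centralizer_iff.mp hm h⁻¹ (inv_mem hh)]
    group
  have hMinv : ∀ m ∈ M, u * m * u⁻¹ = m⁻¹ := by
    let ψ : M → M := fun m => ⟨(m : G)⁻¹ * (u * m * u⁻¹), mul_mem (inv_mem m.2) (hMu _ m.2)⟩
    have hψ : Function.Injective ψ := by
      intro m n h
      have h' : (m : G)⁻¹ * (u * m * u⁻¹) = (n : G)⁻¹ * (u * n * u⁻¹) := congrArg Subtype.val h
      have hc : Commute u ((n : G) * (m : G)⁻¹) := by
        refine (mul_inv_eq_iff_eq_mul.mp ?_)
        calc u * ((n : G) * (m : G)⁻¹) * u⁻¹ = (u * n * u⁻¹) * (u * m * u⁻¹)⁻¹ := by group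
          _ = (n : G) * ((n : G)⁻¹ * (u * n * u⁻¹)) * (u * m * u⁻¹)⁻¹ := by group
          _ = (n : G) * (m : G)⁻¹ := by rw [← h']; group
      have := eq_one_of_commute_invol hC hu hc
        (odd_orderOf_of_mem hModd (mul_mem n.2 (inv_mem m.2)))
      exact Subtype.ext (mul_inv_eq_one.mp this).symm
    intro m hm
    obtain ⟨n, hn⟩ := (Finite.injective_iff_surjective.mp hψ) ⟨m, hm⟩
    have hn' : (n : G)⁻¹ * (u * n * u⁻¹) = m := congrArg Subtype.val hn
    have huu := Invol.mul_self_eq_one hu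
    rw [← hn', Invol.inv_eq_self hu]
    simp only [mul_inv_rev, inv_inv, Invol.inv_eq_self hu, mul_assoc]
    rw [huu, mul_one]
  let e2 : M ≃ {k : G // P k} :=
    { toFun := fun m => ⟨u * m, by
        have hi := hMinv m m.2
        have hinv' : ∀ h ∈ D, u * (m : G) * h * (u * (m : G))⁻¹ = h⁻¹ := by
          intro h hh
          rw [show u * (m : G) * h * (u * (m : G))⁻¹ = u * ((m : G) * h) * (m : G)⁻¹ * u⁻¹ by group,
            ← Subgroup.mem_centralizer_iff.mp m.2 h hh, ← hPu.2 h hh]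
          group
        refine ⟨Invol.orderOf_eq_two (fun e => ?_) ?_, hinv'⟩
        · have hx := hinv' h0 hh0
          rw [e, one_mul, inv_one, mul_one, eq_inv_iff_mul_eq_one, ← pow_two] at hx
          have := orderOf_dvd_of_pow_eq_one hx
          obtain ⟨j, hj⟩ := odd_orderOf_of_mem hDodd hh0
          rcases (Nat.dvd_prime Nat.prime_two).mp this with h' | h'
          · exact hh01 (orderOf_eq_one_iff.mp h')
          · omega
        · rw [show u * (m : G) * (u * (m : G)) = (u * (m : G) * u⁻¹) * (u * u) * (m : G) by group,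
            hi, Invol.mul_self_eq_one hu, mul_one, inv_mul_cancel]⟩
      invFun := fun k => ⟨u * k.1, Subgroup.mem_centralizer_iff.mpr fun h hh => by
        have h1 := k.2.2 h hh
        have h2 := hPu.2 h⁻¹ (inv_mem hh)
        rw [inv_inv] at h2
        calc h * (u * k.1) = u * h⁻¹ * u⁻¹ * (u * k.1) := by rw [h2]
          _ = u * (k.1 * h * k.1⁻¹) * k.1 := by rw [h1]; group
          _ = u * k.1 * h := by group⟩
      left_inv := fun m => Subtype.ext (by
        show u * (u * (m : G)) = m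
        rw [← mul_assoc, Invol.mul_self_eq_one hu, one_mul])
      right_inv := fun k => Subtype.ext (by
        show u * (u * k.1) = k.1
        rw [← mul_assoc, Invol.mul_self_eq_one hu, one_mul]) }
  have hM : Nat.card M = (F.ncard - 1) * oddPart S := (Nat.card_congr e2).trans hK
  have hDM : D ≤ M := fun d hd => Subgroup.mem_centralizer_iff.mpr fun h hh =>
    (stab_pair_comm hC hTI hne hev hab hh hd).eq
  have horb : ∀ x ∈ F, (orbit M x).ncard = F.ncard - 1 := by
    intro x hx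
    have hst : Nat.card (stabilizer M x) = oddPart S := by
      rw [← Subgroup.card_map_of_injective (f := M.subtype) Subtype.val_injective]
      refine le_antisymm (card_le_oddPart S (a := x) ?_ ?_) ?_
      · rintro _ ⟨m, hm, rfl⟩; exact hm
      · exact hModd.of_dvd_nat (Subgroup.card_dvd_of_le (Subgroup.map_subtype_le _))
      · rw [← hcard]
        refine Subgroup.card_le_of_le fun d hd => ⟨⟨d, hDM hd⟩, ?_, rfl⟩
        exact hx d hd
    have h := (stabilizer M x).card_mul_index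
    rw [index_stabilizer, hst, hM, mul_comm (F.ncard - 1)] at h
    exact Nat.eq_of_mul_eq_mul_left (odd_oddPart S).pos h
  have hsub : ∀ x ∈ F, orbit M x ⊆ F := by
    rintro x hx _ ⟨m, rfl⟩
    exact hMF m m.2 x hx
  have htwo : F.ncard ≤ 2 := by
    have h1 := horb a haF
    have hpos : 0 < F.ncard := (Set.ncard_pos).mpr ⟨a, haF⟩
    obtain ⟨z, hzF, hz⟩ := Set.exists_mem_notMem_of_ncard_lt_ncard
      (s := orbit M a) (t := F) (by omega)
    have hdis : Disjoint (orbit M a) (orbit M z) := by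
      rw [Set.disjoint_left]
      intro w hw hw'
      exact hz (orbit_eq_iff.mp ((orbit_eq_iff.mpr hw').symm.trans (orbit_eq_iff.mpr hw)))
    have h2 := Set.ncard_le_ncard (Set.union_subset (hsub a haF) (hsub z hzF))
    rw [Set.ncard_union_eq hdis, h1, horb z hzF] at h2
    omega
  by_contra hcab
  push Not at hcab
  have h3 : ({c, a, b} : Set Ω).ncard = 3 := Set.ncard_eq_three.mpr ⟨c, a, b, hcab.1, hcab.2, hab, rfl⟩
  have := Set.ncard_le_ncard (show ({c, a, b} : Set Ω) ⊆ F by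
    rintro x (rfl | rfl | rfl) <;> first | exact hc | exact haF | exact hbF)
  omega

theorem exists_smul_eq_of_ne (he : 1 < oddPart S) {b c : Ω} (hb : (QuotientGroup.mk 1 : Ω) ≠ b)
    (hc : (QuotientGroup.mk 1 : Ω) ≠ c) :
    ∃ s : G, s • (QuotientGroup.mk 1 : Ω) = QuotientGroup.mk 1 ∧ s • b = c := by
  set a : Ω := QuotientGroup.mk 1
  have hle : ∀ {y : Ω}, stabilizer G a ⊓ stabilizer G y ≤ BB := fun hd =>
    (smul_one_eq_iff _).mp hd.1
  obtain ⟨-, h1, -⟩ := card_swap_eq hC hTI hne hev hb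
  obtain ⟨-, h2, -⟩ := card_swap_eq hC hTI hne hev hc
  set D := stabilizer G a ⊓ stabilizer G b
  have hcop : (Nat.card S).Coprime (Nat.card D) := by
    rw [h1]
    obtain ⟨n, hn⟩ := IsPGroup.iff_card.mp S.2
    rw [hn]
    exact (Nat.coprime_two_left.mpr (odd_oddPart S)).pow_left n
  have hsup : (S : Subgroup G) ⊔ D = BB := by
    refine Subgroup.eq_of_le_of_card_ge (sup_le Subgroup.le_normalizer hle) ?_
    refine Nat.le_of_dvd Nat.card_pos ?_
    rw [← card_normalizer S, mul_comm, ← h1]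
    exact hcop.mul_dvd_of_dvd_of_dvd (Subgroup.card_dvd_of_le le_sup_left)
      (Subgroup.card_dvd_of_le le_sup_right)
  have hsolv : Group.IsSolvable (S : Subgroup G) := by
    have := S.2.isNilpotent
    infer_instance
  obtain ⟨s, hs, hconj⟩ := CfsgLib.Solvable.exists_conj_eq_of_coprime (N := (S : Subgroup G))
    (B := D) (B' := stabilizer G a ⊓ stabilizer G c) hle (hsup.symm ▸ hle)
    (by rw [h2, h1]) hcop (Or.inl hsolv)
  have hsa : s • a = a := (smul_one_eq_iff _).mpr (Subgroup.le_normalizer hs)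
  refine ⟨s, hsa, ?_⟩
  have hfix : ∀ h ∈ stabilizer G a ⊓ stabilizer G c, h • s • b = s • b := by
    intro h hh
    rw [← hconj] at hh
    obtain ⟨d, hd, rfl⟩ := Subgroup.mem_map.mp hh
    show (s * d * s⁻¹) • s • b = s • b
    rw [smul_smul, inv_mul_cancel_right, mul_smul, show d • b = b from hd.2]
  rcases fix_pair hC hTI hne hev he hc hfix with h | h
  · exact absurd (smul_left_cancel s (hsa.trans h.symm)) hb
  · exact h

theorem isMultiplyPretransitive_two (he : 1 < oddPart S) :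
    IsMultiplyPretransitive G Ω 2 := by
  rw [is_two_pretransitive_iff]
  intro a b c d hab hcd
  obtain ⟨g, hg⟩ := exists_smul_eq G a (QuotientGroup.mk 1 : Ω)
  obtain ⟨g', hg'⟩ := exists_smul_eq G c (QuotientGroup.mk 1 : Ω)
  obtain ⟨s, hs1, hs2⟩ := exists_smul_eq_of_ne hC hTI hne hev he (b := g • b) (c := g' • d)
    (fun e => hab (smul_left_cancel g (hg.trans e)))
    (fun e => hcd (smul_left_cancel g' (hg'.trans e)))
  exact ⟨g'⁻¹ * s * g, by rw [mul_smul, mul_smul, hg, hs1, inv_smul_eq_iff, hg'],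
    by rw [mul_smul, mul_smul, hs2, inv_smul_smul]⟩

theorem eq_one_of_fix_three (he : 1 < oddPart S) {g : G} {a b c : Ω} (hab : a ≠ b) (hbc : b ≠ c)
    (hac : a ≠ c) (ha : g • a = a) (hb : g • b = b) (hc : g • c = c) : g = 1 := by
  by_contra hg
  have hgo := odd_orderOf_of_mem (odd_stab_pair hC hTI hne hev hab) (show g ∈ stabilizer G a ⊓ stabilizer G b from ⟨ha, hb⟩)
  let M := Subgroup.centralizer ({g} : Set G) ⊓ stabilizer G a
  have hMo : Odd (Nat.card M) := odd_card_of_no_invol fun t ht ho =>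
    hg (eq_one_of_commute_invol hC ho (Subgroup.mem_centralizer_singleton_iff.mp ht.1) hgo)
  have hM := card_le_oddPart S (fun d (hd : d ∈ M) => hd.2) hMo
  have hle : ∀ y : Ω, a ≠ y → g • y = y → stabilizer G a ⊓ stabilizer G y = M := by
    intro y hy hgy
    refine Subgroup.eq_of_le_of_card_ge (fun d hd => ⟨?_, hd.1⟩) ?_
    · refine Subgroup.mem_centralizer_singleton_iff.mpr ?_
      exact (stab_pair_comm hC hTI hne hev hy hd ⟨ha, hgy⟩).eq
    · rw [(card_swap_eq hC hTI hne hev hy).2.1]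
      exact hM
  rcases fix_pair hC hTI hne hev he hab (c := c) (fun h hh => by
      rw [hle b hab hb, ← hle c hac hc] at hh; exact hh.2) with h | h
  · exact hac h.symm
  · exact hbc h.symm

end

/-- A simple CIT group with a trivial intersection Sylow 2-subgroup is a Zassenhaus group. -/
theorem isZassenhausGroup_of_isTI [Finite G] [IsSimpleGroup G]
    (hab : ∃ a b : G, a * b ≠ b * a) (hev : 2 ∣ Nat.card G) (hC : IsCIT G) (S : Sylow 2 G)
    (hTI : IsTI S) :
    Cfsg.IsZassenhausGroup G (G ⧸ Subgroup.normalizer ((S : Subgroup G) : Set G)) := by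
  have hSbot : (S : Subgroup G) ≠ ⊥ := S.ne_bot_of_dvd_card hev
  have hne : Subgroup.normalizer ((S : Subgroup G) : Set G) ≠ ⊤ := by
    intro htop
    rcases (Subgroup.normalizer_eq_top_iff.mp htop).eq_bot_or_eq_top with h | h
    · exact hSbot h
    · obtain ⟨a, b, hab⟩ := hab
      have hp : IsPGroup 2 G := by
        have h2 := S.2
        rw [h] at h2
        exact h2.of_equiv Subgroup.topEquiv
      have : Nontrivial (Subgroup.center G) := hp.center_nontrivial
      rcases (inferInstance : (Subgroup.center G).Normal).eq_bot_or_eq_top with hz | hz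
      · exact (Subgroup.nontrivial_iff_ne_bot _).mp this hz
      · exact hab ((Subgroup.mem_center_iff.mp (hz ▸ Subgroup.mem_top a)) b).symm
  have he : 1 < oddPart S := by
    refine lt_of_le_of_ne (odd_oddPart S).pos fun h1 => ?_
    have hBS : (S : Subgroup G) = Subgroup.normalizer ((S : Subgroup G) : Set G) :=
      Subgroup.le_normalizer.antisymm (Subgroup.relIndex_eq_one.mp h1.symm)
    have hF : Cfsg.IsFrobeniusComplement (S : Subgroup G) := by
      refine ⟨hSbot, hBS ▸ hne, fun g hg => (Subgroup.eq_bot_iff_forall _).mpr ?_⟩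
      rintro x ⟨hx, hx'⟩
      refine hTI g (hBS ▸ hg) x hx ?_
      obtain ⟨y, hy, rfl⟩ := Subgroup.mem_map.mp hx'
      simpa [mul_assoc] using hy
    obtain ⟨N, -, hN, hc⟩ := CfsgLib.Frobenius.exists_kernel_subgroup hF
    rcases hN.eq_bot_or_eq_top with rfl | rfl
    · exact hne (hBS.symm.trans (Subgroup.isComplement'_bot_left.mp hc))
    · exact hSbot (Subgroup.isComplement'_top_left.mp hc)
  have h2 := isMultiplyPretransitive_two hC hTI hne hev he
  obtain ⟨g0, hg0⟩ : ∃ g : G, g ∉ Subgroup.normalizer ((S : Subgroup G) : Set G) := by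
    by_contra h
    push Not at h
    exact hne ((Subgroup.eq_top_iff' _).mpr h)
  have hpt : (QuotientGroup.mk 1 : G ⧸ Subgroup.normalizer ((S : Subgroup G) : Set G)) ≠
      QuotientGroup.mk g0 := fun e => hg0 (by simpa using QuotientGroup.eq.mp e)
  refine ⟨⟨fun {g g'} h => ?_⟩, h2, fun g a b c => eq_one_of_fix_three hC hTI hne hev he, ?_, ?_⟩
  · have hk : g⁻¹ * g' ∈ (Subgroup.normalizer ((S : Subgroup G) : Set G)).normalCore := by
      rw [Subgroup.normalCore_eq_ker, MonoidHom.mem_ker]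
      ext x
      rw [map_mul, Equiv.Perm.mul_apply, Equiv.Perm.one_apply, MulAction.toPermHom_apply,
        MulAction.toPermHom_apply, MulAction.toPerm_apply, MulAction.toPerm_apply, ← h x,
        inv_smul_smul]
    rcases (inferInstance : (Subgroup.normalizer ((S : Subgroup G) : Set G)).normalCore.Normal
      ).eq_bot_or_eq_top with h' | h'
    · rw [h'] at hk; exact inv_mul_eq_one.mp hk
    · exact absurd (top_le_iff.mp (h' ▸ Subgroup.normalCore_le _)) hne
  · have hD := (card_swap_eq hC hTI hne hev hpt).2.1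
    obtain ⟨⟨d, hd⟩, hd1⟩ := (Subgroup.ne_bot_iff_exists_ne_one).mp
      (fun e => by rw [e, Subgroup.card_bot] at hD; omega :
        stabilizer G (QuotientGroup.mk 1 : G ⧸ Subgroup.normalizer ((S : Subgroup G) : Set G))
          ⊓ stabilizer G (QuotientGroup.mk g0) ≠ ⊥)
    exact ⟨d, fun e => hd1 (Subtype.ext e), _, _, hpt, hd.1, hd.2⟩
  · intro N hN htr
    rcases hN.eq_bot_or_eq_top with rfl | rfl
    · obtain ⟨⟨n, hn⟩, hne'⟩ := htr.exists_smul_eq
        (QuotientGroup.mk 1 : G ⧸ Subgroup.normalizer ((S : Subgroup G) : Set G))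
        (QuotientGroup.mk g0)
      rw [Subgroup.mem_bot] at hn
      subst hn
      exact absurd (by simpa [Subgroup.smul_def] using hne') hpt
    · refine ⟨QuotientGroup.mk 1, fun hbot => ?_⟩
      obtain ⟨⟨t, htS⟩, ht⟩ := exists_prime_orderOf_dvd_card' 2 (Sylow.dvd_card_of_dvd_card S hev)
      rw [Subgroup.orderOf_mk] at ht
      have : (⟨t, Subgroup.mem_top t⟩ : (⊤ : Subgroup G)) ∈ stabilizer (⊤ : Subgroup G)
          (QuotientGroup.mk 1 : G ⧸ Subgroup.normalizer ((S : Subgroup G) : Set G)) :=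
        (smul_one_eq_iff t).mpr (Subgroup.le_normalizer htS)
      have := hbot.le this
      rw [Subgroup.mem_bot, Subtype.ext_iff] at this
      exact Invol.ne_one_of_invol ht this

end CfsgLib.CIT
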