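import Mathlib.GroupTheory.Nilpotent
import Mathlib.GroupTheory.Sylow
import Mathlib.GroupTheory.GroupAction.MultipleTransitivity
import Mathlib.GroupTheory.Abelianization.Defs
import Cfsg.Agent.Lib.CIT.TISylow
import Cfsg.Agent.Lib.Invol.StronglyEmbedded
import Cfsg.Agent.Lib.OddOrder.Fitting
import Cfsg.Agent.Lib.OddOrder.PiCore
import Cfsg.Agent.Lib.NilpPerm.Bound
import Cfsg.Agent.Lib.Solvable.SchurZassenhaus
import Cfsg.Agent.Lib.Frobenius.Theorem
import Cfsg.Agent.S0346

/-!
# Simple CN groups are CIT groups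

If an involution `z` of a simple CN group commutes with a nontrivial element of odd order, then
the normaliser of `O = O(C(z))` is strongly embedded and the group is a Zassenhaus group on its
cosets whose degree minus one is `|C(z)|`, which is not a prime power.
-/

set_option autoImplicit false

namespace CfsgLib.CIT.CNR

open MulAction CfsgLib.SEmb Subgroup
open scoped Pointwise

variable {G : Type*} [Group G] [Finite G]

/-- The elements of odd order in the centraliser of `t`. -/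
def oddCent (t : G) : Subgroup G := Cfsg.piCoreOf {p | p ≠ 2} (centralizer ({t} : Set G))

/-- The elements of 2-power order in the centraliser of `t`. -/
def twoCent (t : G) : Subgroup G := Cfsg.piCoreOf {2} (centralizer ({t} : Set G))

theorem odd_card_oddCent (t : G) : Odd (Nat.card (oddCent t)) := by
  rw [← Nat.not_even_iff_odd]
  intro h
  exact OddOrder.piCoreOf_isPiSubgroup {p | p ≠ 2} _ 2 Nat.prime_two (even_iff_two_dvd.mp h) rfl

theorem isPGroup_twoCent (t : G) : IsPGroup 2 (twoCent t) := by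
  refine IsPGroup.of_card (n := (Nat.card (twoCent t)).primeFactorsList.length) ?_
  refine Nat.eq_prime_pow_of_unique_prime_dvd Nat.card_pos.ne' fun hd hdvd => ?_
  exact OddOrder.piCoreOf_isPiSubgroup {2} _ _ hd hdvd

theorem commute_of_oddCent {t x : G} (hx : x ∈ oddCent t) : Commute x t :=
  mem_centralizer_singleton_iff.mp (OddOrder.piCoreOf_le _ _ hx)

theorem odd_of_oddCent {t x : G} (hx : x ∈ oddCent t) : Odd (orderOf x) :=
  odd_orderOf_of_mem (odd_card_oddCent t) hx

variable (hCN : Cfsg.IsCNGroup G)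
include hCN

theorem comm_cop {g x y : G} (hg : g ≠ 1) (hx : Commute x g) (hy : Commute y g)
    (h : (orderOf x).Coprime (orderOf y)) : Commute x y := by
  haveI := hCN g hg
  have := NilpPerm.commute_of_coprime_order
    (a := (⟨x, mem_centralizer_singleton_iff.mpr hx⟩ : centralizer ({g} : Set G)))
    (b := ⟨y, mem_centralizer_singleton_iff.mpr hy⟩) (by rwa [orderOf_mk, orderOf_mk])
  exact congrArg Subtype.val this

theorem mem_oddCent {t x : G} (ht : t ≠ 1) :
    x ∈ oddCent t ↔ Commute x t ∧ Odd (orderOf x) := by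
  refine ⟨fun h => ⟨commute_of_oddCent h, odd_of_oddCent h⟩, fun h => ?_⟩
  refine OddOrder.mem_piCoreOf_of_nilpotent (hCN t ht) (mem_centralizer_singleton_iff.mpr h.1)
    fun s _ hd hs2 => ?_
  subst hs2
  exact Nat.not_even_iff_odd.mpr h.2 (even_iff_two_dvd.mpr hd)

theorem mem_twoCent {t x : G} (ht : t ≠ 1) (hc : Commute x t) {k : ℕ} (hk : orderOf x = 2 ^ k) :
    x ∈ twoCent t := by
  refine OddOrder.mem_piCoreOf_of_nilpotent (hCN t ht) (mem_centralizer_singleton_iff.mpr hc)
    fun s hs hd => ?_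
  rw [hk] at hd
  exact (Nat.prime_dvd_prime_iff_eq hs Nat.prime_two).mp (hs.dvd_of_dvd_pow hd)

theorem comm_of_invol {t s y : G} (ht : orderOf t = 2) (hs : orderOf s = 2) (hts : Commute s t)
    (hy : Commute y t) (hodd : Odd (orderOf y)) : Commute y s :=
  comm_cop hCN (Invol.ne_one_of_invol ht) hy hts (hs.symm ▸ Nat.coprime_two_right.mpr hodd)

theorem oddCent_eq_of_commute {t s : G} (ht : orderOf t = 2) (hs : orderOf s = 2)
    (hts : Commute s t) : oddCent t = oddCent s := by
  ext x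
  rw [mem_oddCent hCN (Invol.ne_one_of_invol ht), mem_oddCent hCN (Invol.ne_one_of_invol hs)]
  exact ⟨fun h => ⟨comm_of_invol hCN ht hs hts h.1 h.2, h.2⟩,
    fun h => ⟨comm_of_invol hCN hs ht hts.symm h.1 h.2, h.2⟩⟩

theorem conj_mem_oddCent_iff {t : G} (ht : t ≠ 1) (g x : G) :
    g⁻¹ * x * g ∈ oddCent t ↔ x ∈ oddCent (g * t * g⁻¹) := by
  have ho : orderOf (g⁻¹ * x * g) = orderOf x := by
    have := Invol.orderOf_conj g⁻¹ x
    rwa [inv_inv] at this
  rw [mem_oddCent hCN ht, mem_oddCent hCN (by simpa using ht), ho]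
  refine and_congr_left fun _ => ⟨fun h => ?_, fun h => ?_⟩
  · have e : g⁻¹ * x * g * t = t * (g⁻¹ * x * g) := h
    calc x * (g * t * g⁻¹) = g * (g⁻¹ * x * g * t) * g⁻¹ := by group
      _ = g * t * g⁻¹ * x := by rw [e]; group
  · have e : x * (g * t * g⁻¹) = g * t * g⁻¹ * x := h
    calc g⁻¹ * x * g * t = g⁻¹ * (x * (g * t * g⁻¹)) * g := by group
      _ = t * (g⁻¹ * x * g) := by rw [e]; group

theorem map_oddCent {t : G} (ht : t ≠ 1) (g : G) :
    (oddCent t).map (MulAut.conj g).toMonoidHom = oddCent (g * t * g⁻¹) := by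
  ext x
  rw [Invol.mem_map_conj_iff, conj_mem_oddCent_iff hCN ht]

theorem mem_normalizer_oddCent {t g : G} (ht : t ≠ 1) :
    g ∈ normalizer (oddCent t : Set G) ↔ oddCent (g * t * g⁻¹) = oddCent t := by
  rw [← map_oddCent hCN ht]
  constructor
  · intro h
    ext x
    rw [Invol.mem_map_conj_iff, Subgroup.mem_normalizer_iff'.mp h]
    simp [mul_assoc]
  · intro h
    rw [Subgroup.mem_normalizer_iff]
    intro x
    conv_rhs => rw [← h]
    rw [Invol.mem_map_conj_iff]
    simp [mul_assoc]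

section

variable (S : Sylow 2 G) {z : G} (hz : orderOf z = 2) (hzS : z ∈ (S : Subgroup G))
  (hzC : ∀ s ∈ (S : Subgroup G), Commute s z)
include hz hzS hzC

theorem sylow_le : (S : Subgroup G) ≤ normalizer (oddCent z : Set G) := by
  intro s hs
  rw [mem_normalizer_oddCent hCN (Invol.ne_one_of_invol hz), (hzC s hs).eq, mul_inv_cancel_right]

theorem oddCent_of_invol_mem {s : G} (hs : orderOf s = 2)
    (hsM : s ∈ normalizer (oddCent z : Set G)) : oddCent s = oddCent z := by
  set M := normalizer (oddCent z : Set G) with hMdef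
  have hSM := sylow_le hCN S hz hzS hzC
  obtain ⟨Q, hQ⟩ := (IsPGroup.of_card (G := zpowers (⟨s, hsM⟩ : M)) (p := 2) (n := 1)
    (by rw [Nat.card_zpowers, orderOf_mk, hs, pow_one])).exists_le_sylow
  obtain ⟨m, hm⟩ := MulAction.exists_smul_eq M (S.subtype hSM) Q
  have h1 := hQ (mem_zpowers _)
  rw [← hm] at h1
  obtain ⟨s0, hs0, he⟩ := h1
  have he' : (m : G) * s0 * (m : G)⁻¹ = s := congrArg Subtype.val he
  have hs0i : orderOf (s0 : G) = 2 := by
    rw [← hs, ← he', Invol.orderOf_conj]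
  have hs0O : oddCent (s0 : G) = oddCent z :=
    (oddCent_eq_of_commute hCN hz hs0i (hzC _ hs0)).symm
  rw [← he', ← map_oddCent hCN (Invol.ne_one_of_invol hs0i), hs0O,
    map_oddCent hCN (Invol.ne_one_of_invol hz)]
  exact (mem_normalizer_oddCent hCN (Invol.ne_one_of_invol hz)).mp m.2

theorem mem_of_commute {x g : G} (hx : x ∈ oddCent z) (hx1 : x ≠ 1) (hg : Commute g x) :
    g ∈ normalizer (oddCent z : Set G) := by
  have hzx : Commute z x := (commute_of_oddCent hx).symm
  have hw : orderOf (g * z * g⁻¹) = 2 := by rw [Invol.orderOf_conj, hz]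
  have hwx : Commute (g * z * g⁻¹) x := (hg.mul_left hzx).mul_left hg.inv_left
  obtain ⟨T, hT⟩ := (isPGroup_twoCent x).exists_le_sylow
  haveI : Nontrivial (T : Subgroup G) :=
    ⟨⟨⟨z, hT (mem_twoCent hCN hx1 hzx (k := 1) (by rw [pow_one, hz]))⟩, 1,
      fun e => Invol.ne_one_of_invol hz (congrArg Subtype.val e)⟩⟩
  haveI := T.2.center_nontrivial
  obtain ⟨n, hn⟩ := IsPGroup.iff_card.mp (T.2.to_subgroup (center (T : Subgroup G)))
  obtain ⟨c, hc⟩ := exists_prime_orderOf_dvd_card' 2 (G := center (T : Subgroup G)) (by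
    have := Finite.one_lt_card (α := center (T : Subgroup G))
    rw [hn] at this ⊢
    exact dvd_pow_self 2 (by rintro rfl; simp at this))
  have hc2 : orderOf ((c : (T : Subgroup G)) : G) = 2 := by
    rw [orderOf_coe, orderOf_coe, hc]
  have hcc : ∀ u ∈ (T : Subgroup G), Commute u ((c : (T : Subgroup G)) : G) := fun u hu =>
    congrArg Subtype.val (mem_center_iff.mp c.2 ⟨u, hu⟩)
  have h1 := oddCent_eq_of_commute hCN hc2 hz
    (hcc z (hT (mem_twoCent hCN hx1 hzx (k := 1) (by rw [pow_one, hz]))))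
  have h2 := oddCent_eq_of_commute hCN hc2 hw
    (hcc _ (hT (mem_twoCent hCN hx1 hwx (k := 1) (by rw [pow_one, hw]))))
  rw [mem_normalizer_oddCent hCN (Invol.ne_one_of_invol hz), ← h2, h1]

variable (hne : normalizer (oddCent z : Set G) ≠ ⊤)
include hne

theorem stronglyEmbedded : Cfsg.IsStronglyEmbedded (normalizer (oddCent z : Set G)) := by
  have hzM := sylow_le hCN S hz hzS hzC hzS
  rw [Invol.isStronglyEmbedded_iff_fusion hne (Invol.even_card_of_orderOf_two_mem hz hzM)]
  intro t ht ht2 g hg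
  rw [mem_normalizer_oddCent hCN (Invol.ne_one_of_invol hz)]
  have h1 := oddCent_of_invol_mem hCN S hz hzS hzC ht2 ht
  have h2 := oddCent_of_invol_mem hCN S hz hzS hzC (by rw [Invol.orderOf_conj, ht2]) hg
  rw [← map_oddCent hCN (Invol.ne_one_of_invol hz), ← h1,
    map_oddCent hCN (Invol.ne_one_of_invol ht2), h2, h1]

local notation "ΩM" => G ⧸ Subgroup.normalizer ((oddCent z : Subgroup G) : Set G)

omit hCN hzS hzC hne in
theorem orderOf_conj_inv (g : G) : orderOf (g⁻¹ * z * g) = 2 := by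
  have := Invol.orderOf_conj g⁻¹ z
  rw [inv_inv] at this
  rw [this, hz]

/-- An element commuting with a nontrivial element of `O(C(t))` fixes the fixed point of `t`. -/
theorem fix_of_commute {a : ΩM} {t x g : G} (ht : orderOf t = 2) (hta : t • a = a)
    (hx : x ∈ oddCent t) (hx1 : x ≠ 1) (hg : Commute g x) : g • a = a := by
  induction a using QuotientGroup.induction_on with
  | _ c =>
  rw [smul_mk_eq_iff] at hta ⊢
  have ht' : orderOf (c⁻¹ * t * c) = 2 := by
    have := Invol.orderOf_conj c⁻¹ t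
    rw [inv_inv] at this
    rw [this, ht]
  have hO := oddCent_of_invol_mem hCN S hz hzS hzC ht' hta
  refine mem_of_commute hCN S hz hzS hzC (x := c⁻¹ * x * c) ?_ ?_ ?_
  · rw [← hO, conj_mem_oddCent_iff hCN (Invol.ne_one_of_invol ht')]
    rwa [show c * (c⁻¹ * t * c) * c⁻¹ = t by group]
  · intro e
    exact hx1 (by simpa [mul_assoc, inv_mul_eq_one, eq_comm] using e)
  · show c⁻¹ * g * c * (c⁻¹ * x * c) = c⁻¹ * x * c * (c⁻¹ * g * c)
    calc c⁻¹ * g * c * (c⁻¹ * x * c) = c⁻¹ * (g * x) * c := by group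
      _ = c⁻¹ * x * c * (c⁻¹ * g * c) := by rw [hg.eq]; group

theorem oddCent_eq_of_fix {a : ΩM} {t u : G} (ht : orderOf t = 2) (hu : orderOf u = 2)
    (hta : t • a = a) (hua : u • a = a) : oddCent t = oddCent u := by
  induction a using QuotientGroup.induction_on with
  | _ c =>
  rw [smul_mk_eq_iff] at hta hua
  have ho : ∀ s : G, orderOf (c⁻¹ * s * c) = orderOf s := fun s => by
    have := Invol.orderOf_conj c⁻¹ s
    rwa [inv_inv] at this
  have h1 := oddCent_of_invol_mem hCN S hz hzS hzC (by rw [ho, ht]) hta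
  have h2 := oddCent_of_invol_mem hCN S hz hzS hzC (by rw [ho, hu]) hua
  ext x
  have key : ∀ s : G, orderOf s = 2 → (x ∈ oddCent s ↔ c⁻¹ * x * c ∈ oddCent (c⁻¹ * s * c)) := by
    intro s hs
    rw [conj_mem_oddCent_iff hCN (Invol.ne_one_of_invol (by rw [ho, hs]))]
    rw [show c * (c⁻¹ * s * c) * c⁻¹ = s by group]
  rw [key t ht, key u hu, h1, h2]

theorem oddCent_inf_pair {a b : ΩM} (hab : a ≠ b) {t d : G} (ht : orderOf t = 2)
    (hta : t • a = a) (hd : d ∈ oddCent t) (hdb : d • b = b) : d = 1 := by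
  have hH := stronglyEmbedded hCN S hz hzS hzC hne
  by_contra hd1
  have hda : d • a = a := fix_of_commute hCN S hz hzS hzC hne ht hta hd hd1 (Commute.refl d)
  obtain ⟨v, hv, hva⟩ : ∃ v : G, orderOf v = 2 ∧ v • a = b := by
    have hsw : 0 < Nat.card (Swap a b) := by
      rw [card_swap hH a b, card_swap_self_eq hH a a]
      exact Nat.card_pos_iff.mpr ⟨⟨t, ht, hta⟩, inferInstance⟩
    obtain ⟨⟨v, hv⟩⟩ := (Nat.card_pos_iff.mp hsw).1
    exact ⟨v, hv⟩
  have hvb : v • b = a := (smul_invol_eq_iff hv a b).mp hva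
  set t' := v * t * v⁻¹
  have ht' : orderOf t' = 2 := by rw [Invol.orderOf_conj, ht]
  have ht'b : t' • b = b := by
    show (v * t * v⁻¹) • b = b
    rw [Invol.inv_eq_self hv, mul_smul, mul_smul, hvb, hta, hva]
  have hd' : v * d * v⁻¹ ∈ oddCent t' := by
    rw [← map_oddCent hCN (Invol.ne_one_of_invol ht)]
    exact ⟨d, hd, rfl⟩
  set d' := v * d * v⁻¹ with hd'def
  have hd'b : d' • b = b := by
    show (v * d * v⁻¹) • b = b
    rw [Invol.inv_eq_self hv, mul_smul, mul_smul, hvb, hda, hva]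
  have hd'a : d' • a = a := by
    show (v * d * v⁻¹) • a = a
    rw [Invol.inv_eq_self hv, mul_smul, mul_smul, hva, hdb, hvb]
  -- the two odd cores meet trivially
  have htriv : ∀ x, x ∈ oddCent t → x ∈ oddCent t' → x = 1 := fun x hx hx' => by
    by_contra hx1
    exact hab (point_unique hH ht' (fix_of_commute hCN S hz hzS hzC hne ht hta hx hx1
      (commute_of_oddCent hx').symm) ht'b)
  have hnorm : ∀ (p : ΩM) (s g : G), orderOf s = 2 → s • p = p → g • p = p →
      g ∈ normalizer (oddCent s : Set G) := fun p s g hs hsp hgp => by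
    rw [mem_normalizer_oddCent hCN (Invol.ne_one_of_invol hs)]
    refine oddCent_eq_of_fix hCN S hz hzS hzC hne (a := p) (by rw [Invol.orderOf_conj, hs]) hs ?_ hsp
    rw [mul_smul, mul_smul, show g⁻¹ • p = p from inv_smul_eq_iff.mpr hgp.symm, hsp, hgp]
  have hcomm : Commute d d' := by
    rw [commute_iff_eq]
    refine (mul_inv_eq_one.mp ?_)
    have h1 : d * (d' * d⁻¹ * d'⁻¹) ∈ oddCent t :=
      mul_mem hd ((mem_normalizer_iff.mp (hnorm a t d' ht hta hd'a) _).mp (inv_mem hd))
    have h2 : d * d' * d⁻¹ * d'⁻¹ ∈ oddCent t' :=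
      mul_mem ((mem_normalizer_iff.mp (hnorm b t' d ht' ht'b hdb) _).mp hd') (inv_mem hd')
    have h3 := htriv _ h1 (by simpa [mul_assoc] using h2)
    simpa [mul_assoc] using h3
  have hvd' : v * d' * v⁻¹ = d := by
    rw [hd'def, Invol.inv_eq_self hv,
      show v * (v * d * v) * v = (v * v) * d * (v * v) by group, Invol.mul_self_eq_one hv, one_mul,
      mul_one]
  have hvx : Commute v (d * d') := by
    refine mul_inv_eq_iff_eq_mul.mp ?_
    calc v * (d * d') * v⁻¹ = d' * (v * d' * v⁻¹) := by rw [hd'def]; group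
      _ = d * d' := by rw [hvd']; exact hcomm.symm.eq
  rcases eq_or_ne (d * d') 1 with hx | hx
  · exact hd1 (htriv d hd (by
      rw [eq_inv_of_mul_eq_one_left hx]; exact inv_mem hd'))
  · have hdv : Commute d v := comm_cop hCN hx ((Commute.refl d).mul_right hcomm) hvx
      (hv.symm ▸ Nat.coprime_two_right.mpr (odd_of_oddCent hd))
    have : d' = d := by rw [hd'def, ← hdv.eq, mul_inv_cancel_right]
    exact hd1 (htriv d hd (this ▸ hd'))

/-- A nontrivial element fixing two points commutes with no involution. -/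
theorem no_comm {a b : ΩM} (hab : a ≠ b) {s d : G} (hs : orderOf s = 2)
    (hda : d • a = a) (hdb : d • b = b) (hodd : Odd (orderOf d)) (hc : Commute d s) : d = 1 := by
  have hd : d ∈ oddCent s := (mem_oddCent hCN (Invol.ne_one_of_invol hs)).mpr ⟨hc, hodd⟩
  obtain ⟨c, hcs⟩ := exists_fix (stronglyEmbedded hCN S hz hzS hzC hne) hs
  rcases eq_or_ne c a with rfl | hca
  · exact oddCent_inf_pair hCN S hz hzS hzC hne hab hs hcs hd hdb
  · exact oddCent_inf_pair hCN S hz hzS hzC hne hca hs hcs hd hda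

theorem odd_pair {a b : ΩM} (hab : a ≠ b) :
    Odd (Nat.card (stabilizer G a ⊓ stabilizer G b : Subgroup G)) :=
  odd_card_of_no_invol fun _ ht ho =>
    hab (point_unique (stronglyEmbedded hCN S hz hzS hzC hne) ho ht.1 ht.2)

omit hCN S hzS hzC hne in
/-- The number of involutions fixing a given point. -/
noncomputable def swapNum (z : G) : ℕ :=
  Nat.card (Swap (QuotientGroup.mk 1 : G ⧸ normalizer ((oddCent z : Subgroup G) : Set G))
    (QuotientGroup.mk 1 : G ⧸ normalizer ((oddCent z : Subgroup G) : Set G)))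

theorem card_pair {a b : ΩM} (hab : a ≠ b) :
    Nat.card (Swap a b) = swapNum z ∧
      Nat.card (stabilizer G a ⊓ stabilizer G b : Subgroup G) = swapNum z ∧
      (∀ u : G, orderOf u = 2 → u • a = b →
        ∀ d ∈ stabilizer G a ⊓ stabilizer G b, u * d * u⁻¹ = d⁻¹) ∧
      ∀ t s : G, orderOf t = 2 → t • a = a → orderOf s = 2 → s • a = a →
        ∃ d ∈ stabilizer G a ⊓ stabilizer G b, d * t * d⁻¹ = s := by
  have hH := stronglyEmbedded hCN S hz hzS hzC hne
  have hswap : Nat.card (Swap a b) = swapNum z := by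
    rw [card_swap hH a b, card_swap_self_eq hH a (QuotientGroup.mk 1), swapNum]
  obtain ⟨t, ht, hta⟩ := exists_invol_fix hH a
  let f : ∀ (t : G), orderOf t = 2 → t • a = a →
      (stabilizer G a ⊓ stabilizer G b : Subgroup G) → Swap a a := fun t ht hta d =>
    ⟨(d : G) * t * (d : G)⁻¹, by rw [Invol.orderOf_conj, ht], by
      rw [mul_smul, mul_smul, show (d : G)⁻¹ • a = a from inv_smul_eq_iff.mpr (Eq.symm d.2.1), hta]
      exact d.2.1⟩
  have hf : ∀ t ht hta, Function.Injective (f t ht hta) := by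
    intro t ht hta d d' h
    have h' : (d : G) * t * (d : G)⁻¹ = (d' : G) * t * (d' : G)⁻¹ := congrArg Subtype.val h
    have hc : Commute ((d : G)⁻¹ * d') t := by
      show (d : G)⁻¹ * d' * t = t * ((d : G)⁻¹ * d')
      calc (d : G)⁻¹ * d' * t = (d : G)⁻¹ * ((d' : G) * t * (d' : G)⁻¹) * d' := by group
        _ = t * ((d : G)⁻¹ * d') := by rw [← h']; group
    have hmem := mul_mem (inv_mem d.2) d'.2
    exact Subtype.ext (inv_mul_eq_one.mp (no_comm hCN S hz hzS hzC hne hab ht hmem.1 hmem.2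
      (odd_orderOf_of_mem (odd_pair hCN S hz hzS hzC hne hab) hmem) hc))
  have hpos : 0 < Nat.card (Swap a b) := by
    rw [card_swap hH a b]
    exact Nat.card_pos_iff.mpr ⟨⟨t, ht, hta⟩, inferInstance⟩
  have hle : Nat.card (stabilizer G a ⊓ stabilizer G b : Subgroup G) ≤ Nat.card (Swap a b) := by
    rw [card_swap hH a b]
    exact Nat.card_le_card_of_injective _ (hf t ht hta)
  let g : ∀ (u : G), orderOf u = 2 → u • a = b → Swap a b →
      (stabilizer G a ⊓ stabilizer G b : Subgroup G) := fun u hu hua w =>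
    ⟨u * w.1, by
      refine ⟨?_, ?_⟩
      · show (u * w.1) • a = a
        rw [mul_smul, w.2.2, (smul_invol_eq_iff hu a b).mp hua]
      · show (u * w.1) • b = b
        rw [mul_smul, (smul_invol_eq_iff w.2.1 a b).mp w.2.2, hua]⟩
  have hg : ∀ u hu hua, Function.Injective (g u hu hua) := fun u hu hua w w' h =>
    Subtype.ext (mul_left_cancel (congrArg Subtype.val h))
  obtain ⟨⟨u0, hu0, hu0a⟩⟩ := (Nat.card_pos_iff.mp hpos).1
  have hge := Nat.card_le_card_of_injective _ (hg u0 hu0 hu0a)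
  refine ⟨hswap, by omega, fun u hu hua d hd => ?_, fun t' s ht' hta' hs hsa => ?_⟩
  · obtain ⟨w, hw⟩ := ((hg u hu hua).bijective_of_nat_card_le hle).2 ⟨d, hd⟩
    have hdv : d = u * w.1 := (congrArg Subtype.val hw).symm
    rw [hdv, mul_inv_rev, Invol.inv_eq_self w.2.1, Invol.inv_eq_self hu, ← mul_assoc,
      Invol.mul_self_eq_one hu, one_mul]
  · obtain ⟨d, hd⟩ := ((hf t' ht' hta').bijective_of_nat_card_le (by
      rw [← card_swap hH a b]; exact hge)).2 ⟨s, hs, hsa⟩
    exact ⟨d, d.2, congrArg Subtype.val hd⟩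

theorem pair_comm {a b : ΩM} (hab : a ≠ b) {d d' : G}
    (hd : d ∈ stabilizer G a ⊓ stabilizer G b) (hd' : d' ∈ stabilizer G a ⊓ stabilizer G b) :
    Commute d d' := by
  obtain ⟨hs, hc, hinv, -⟩ := card_pair hCN S hz hzS hzC hne hab
  obtain ⟨⟨u, hu, hua⟩⟩ := (Nat.card_pos_iff.mp
    (hs.symm ▸ hc ▸ (Nat.card_pos (α := (stabilizer G a ⊓ stabilizer G b : Subgroup G))))).1
  have h := hinv u hu hua _ (mul_mem hd hd')
  rw [show u * (d * d') * u⁻¹ = u * d * u⁻¹ * (u * d' * u⁻¹) by group, hinv u hu hua d hd,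
    hinv u hu hua d' hd'] at h
  have h' := congrArg (·⁻¹) h
  simp only [mul_inv_rev, inv_inv] at h'
  exact h'.symm

omit hzS hzC hne in
theorem centralizer_le_normalizer :
    centralizer ({z} : Set G) ≤ normalizer (oddCent z : Set G) := by
  intro c hc
  rw [mem_normalizer_oddCent hCN (Invol.ne_one_of_invol hz), mem_centralizer_singleton_iff.mp hc,
    mul_inv_cancel_right]

theorem sylow_comm_oddCent {s x : G} (hs : s ∈ (S : Subgroup G)) (hx : x ∈ oddCent z) :
    Commute s x := by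
  obtain ⟨k, hk⟩ := IsPGroup.iff_orderOf.mp S.2 ⟨s, hs⟩
  rw [orderOf_mk] at hk
  exact comm_cop hCN (Invol.ne_one_of_invol hz) (hzC s hs) (commute_of_oddCent hx)
    (hk ▸ (Nat.coprime_two_left.mpr (odd_of_oddCent hx)).pow_left k)

theorem centralizer_eq_sup : centralizer ({z} : Set G) = (S : Subgroup G) ⊔ oddCent z := by
  refine le_antisymm (fun x hx => ?_) (sup_le (fun s hs => mem_centralizer_singleton_iff.mpr
    (hzC s hs)) (fun x hx => mem_centralizer_singleton_iff.mpr (commute_of_oddCent hx)))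
  have hz1 := Invol.ne_one_of_invol hz
  have hxz : Commute x z := mem_centralizer_singleton_iff.mp hx
  have hPS : twoCent z = (S : Subgroup G) :=
    S.3 (isPGroup_twoCent z) fun s hs => by
      obtain ⟨k, hk⟩ := IsPGroup.iff_orderOf.mp S.2 ⟨s, hs⟩
      rw [orderOf_mk] at hk
      exact mem_twoCent hCN hz1 (hzC s hs) hk
  refine OddOrder.mem_of_forall_exists_pow_mem (orderOf_pos x) fun s hs hsd => ?_
  refine ⟨orderOf x / s ^ (orderOf x).factorization s, Nat.not_dvd_ordCompl hs (orderOf_pos x).ne', ?_⟩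
  have ho : orderOf (x ^ (orderOf x / s ^ (orderOf x).factorization s)) ∣
      s ^ (orderOf x).factorization s := orderOf_dvd_of_pow_eq_one (by
    rw [← pow_mul, Nat.div_mul_cancel (Nat.ordProj_dvd _ _), pow_orderOf_eq_one])
  rcases eq_or_ne s 2 with rfl | hs2
  · obtain ⟨i, -, hi⟩ := (Nat.dvd_prime_pow Nat.prime_two).1 ho
    exact mem_sup_left (hPS ▸ mem_twoCent hCN hz1 (hxz.pow_left _) hi)
  · exact mem_sup_right ((mem_oddCent hCN hz1).mpr ⟨hxz.pow_left _,
      ((hs.odd_of_ne_two hs2).pow).of_dvd_nat ho⟩)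

theorem sylow_normal :
    normalizer (oddCent z : Set G) ≤ normalizer ((S : Subgroup G) : Set G) := by
  classical
  have hz1 := Invol.ne_one_of_invol hz
  rcases eq_or_ne (oddCent z) ⊥ with h | h
  · exfalso
    apply hne
    rw [h]
    exact normalizer_eq_top_iff.mpr inferInstance
  obtain ⟨⟨x, hx⟩, hx1⟩ := ne_bot_iff_exists_ne_one.mp h
  have hx1' : x ≠ 1 := fun e => hx1 (Subtype.ext e)
  set C := centralizer ((oddCent z : Subgroup G) : Set G) with hC
  have hCnil : Group.IsNilpotent C := by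
    haveI := hCN x hx1'
    exact Group.nilpotent_of_mulEquiv (subgroupOfEquivOfLe
      (H := C) (K := centralizer ({x} : Set G)) (centralizer_le (by simpa using hx)))
  set P := Cfsg.piCoreOf {2} C
  have hSP : (S : Subgroup G) ≤ P := fun s hs => by
    refine OddOrder.mem_piCoreOf_of_nilpotent hCnil (mem_centralizer_iff.mpr fun y hy =>
      (sylow_comm_oddCent hCN S hz hzS hzC hne hs hy).eq.symm) fun r hr hd => ?_
    obtain ⟨k, hk⟩ := IsPGroup.iff_orderOf.mp S.2 ⟨s, hs⟩
    rw [orderOf_mk] at hk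
    rw [hk] at hd
    exact (Nat.prime_dvd_prime_iff_eq hr Nat.prime_two).mp (hr.dvd_of_dvd_pow hd)
  have hP : IsPGroup 2 P := by
    refine IsPGroup.of_card (n := (Nat.card P).primeFactorsList.length) ?_
    refine Nat.eq_prime_pow_of_unique_prime_dvd Nat.card_pos.ne' fun hd hdvd => ?_
    exact OddOrder.piCoreOf_isPiSubgroup {2} _ _ hd hdvd
  rw [← S.3 hP hSP]
  refine le_trans ?_ (OddOrder.normalizer_le_normalizer_piCoreOf {2} C)
  intro g hg
  rw [Subgroup.mem_normalizer_iff]
  intro c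
  have key : ∀ y, y ∈ oddCent z ↔ g * y * g⁻¹ ∈ oddCent z := Subgroup.mem_normalizer_iff.mp hg
  simp only [C, mem_centralizer_iff, SetLike.mem_coe]
  constructor
  · intro h y hy
    have h1 := h (g⁻¹ * y * g) ((key _).mpr (by simpa [mul_assoc] using hy))
    calc y * (g * c * g⁻¹) = g * ((g⁻¹ * y * g) * c) * g⁻¹ := by group
      _ = g * c * g⁻¹ * y := by rw [h1]; group
  · intro h y hy
    have h1 := h (g * y * g⁻¹) ((key y).mp hy)
    calc y * c = g⁻¹ * (g * y * g⁻¹ * (g * c * g⁻¹)) * g := by group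
      _ = c * y := by rw [h1]; group

theorem centralizer_normal :
    normalizer (oddCent z : Set G) ≤ normalizer ((centralizer ({z} : Set G) : Subgroup G) : Set G) := by
  intro g hg
  rw [centralizer_eq_sup hCN S hz hzS hzC hne]
  have h1 := sylow_normal hCN S hz hzS hzC hne hg
  have e1 : (S : Subgroup G).map (MulAut.conj g).toMonoidHom = (S : Subgroup G) := by
    ext x
    rw [Invol.mem_map_conj_iff, mem_normalizer_iff'.mp h1]
    simp [mul_assoc]
  have e2 : (oddCent z).map (MulAut.conj g).toMonoidHom = oddCent z := by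
    ext x
    rw [Invol.mem_map_conj_iff, mem_normalizer_iff'.mp hg]
    simp [mul_assoc]
  rw [mem_normalizer_iff]
  intro x
  conv_rhs => rw [← e1, ← e2, ← Subgroup.map_sup]
  rw [Invol.mem_map_conj_iff]
  simp [mul_assoc]

theorem card_stab {b : ΩM} (hb : (QuotientGroup.mk 1 : ΩM) ≠ b) :
    Nat.card (normalizer (oddCent z : Set G)) =
      Nat.card (centralizer ({z} : Set G)) * swapNum z ∧
    (∀ m ∈ normalizer (oddCent z : Set G),
      ∃ d ∈ stabilizer G (QuotientGroup.mk 1 : ΩM) ⊓ stabilizer G b,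
        ∃ c ∈ centralizer ({z} : Set G), m = d * c) ∧
    ∀ m ∈ normalizer (oddCent z : Set G), ∀ h ∈ stabilizer G (QuotientGroup.mk 1 : ΩM) ⊓ stabilizer G b,
      h ≠ 1 → Commute m h → m ∈ stabilizer G (QuotientGroup.mk 1 : ΩM) ⊓ stabilizer G b := by
  set a : ΩM := QuotientGroup.mk 1
  set D := stabilizer G a ⊓ stabilizer G b
  obtain ⟨-, hcard, -, htrans⟩ := card_pair hCN S hz hzS hzC hne hb
  have hzM : z ∈ normalizer (oddCent z : Set G) := sylow_le hCN S hz hzS hzC hzS
  have hza : z • a = a := (smul_one_eq_iff z).mpr hzM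
  have hDM : D ≤ normalizer (oddCent z : Set G) := fun d hd => (smul_one_eq_iff d).mp hd.1
  have hCM := centralizer_le_normalizer hCN hz
  have hfactor : ∀ m ∈ normalizer (oddCent z : Set G),
      ∃ d ∈ D, ∃ c ∈ centralizer ({z} : Set G), m = d * c := by
    intro m hm
    obtain ⟨d, hd, hdz⟩ := htrans z (m * z * m⁻¹) hz hza (by rw [Invol.orderOf_conj, hz])
      ((smul_one_eq_iff _).mpr (mul_mem (mul_mem hm hzM) (inv_mem hm)))
    refine ⟨d, hd, d⁻¹ * m, mem_centralizer_singleton_iff.mpr ?_, by group⟩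
    calc d⁻¹ * m * z = d⁻¹ * (m * z * m⁻¹) * m := by group
      _ = z * (d⁻¹ * m) := by rw [← hdz]; group
  have hinf : ∀ d ∈ D, d ∈ centralizer ({z} : Set G) → d = 1 := fun d hd hdc =>
    no_comm hCN S hz hzS hzC hne hb hz hd.1 hd.2
      (odd_orderOf_of_mem (odd_pair hCN S hz hzS hzC hne hb) hd) (mem_centralizer_singleton_iff.mp hdc)
  refine ⟨?_, hfactor, ?_⟩
  · let f : (centralizer ({z} : Set G)) × D → (normalizer (oddCent z : Set G) : Subgroup G) :=
      fun p => ⟨(p.2 : G) * (p.1 : G), mul_mem (hDM p.2.2) (hCM p.1.2)⟩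
    rw [← hcard, ← Nat.card_prod]
    refine (Nat.card_congr (Equiv.ofBijective f ⟨?_, ?_⟩)).symm
    · rintro ⟨c, d⟩ ⟨c', d'⟩ h
      have h' : (d : G) * c = d' * c' := congrArg Subtype.val h
      have e : (d' : G)⁻¹ * d = c' * (c : G)⁻¹ := by
        calc (d' : G)⁻¹ * d = (d' : G)⁻¹ * ((d : G) * c) * (c : G)⁻¹ := by group
          _ = c' * (c : G)⁻¹ := by rw [h']; group
      have h1 := hinf _ (mul_mem (inv_mem d'.2) d.2) (e ▸ mul_mem c'.2 (inv_mem c.2))
      have hdd : d' = d := Subtype.ext (inv_mul_eq_one.mp h1)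
      subst hdd
      exact Prod.ext (Subtype.ext (mul_left_cancel h')) rfl
    · rintro ⟨m, hm⟩
      obtain ⟨d, hd, c, hc, rfl⟩ := hfactor m hm
      exact ⟨(⟨c, hc⟩, ⟨d, hd⟩), rfl⟩
  · intro m hm h hh hh1 hmh
    obtain ⟨d, hd, c, hc, rfl⟩ := hfactor m hm
    have hdh : Commute d h := pair_comm hCN S hz hzS hzC hne hb hd hh
    have hch : Commute c h := by
      have := hdh.inv_left.mul_left hmh
      rwa [inv_mul_cancel_left] at this
    have hhodd := odd_orderOf_of_mem (odd_pair hCN S hz hzS hzC hne hb) hh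
    suffices hc1 : c = 1 by rw [hc1, mul_one]; exact hd
    by_contra hc1
    rcases Nat.even_or_odd (orderOf c) with hev | hodd
    · obtain ⟨i, hi⟩ := hev
      have ho : orderOf (c ^ i) = 2 := by
        have hpos := orderOf_pos c
        rw [orderOf_pow_of_dvd (by omega) ⟨2, by omega⟩, hi, show i + i = 2 * i by omega,
          Nat.mul_div_cancel _ (by omega)]
      exact hh1 (no_comm hCN S hz hzS hzC hne hb ho hh.1 hh.2 hhodd (hch.pow_left i).symm)
    · have hzh : Commute h z := comm_cop hCN hc1 hch.symm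
        (mem_centralizer_singleton_iff.mp hc).symm (hz.symm ▸ Nat.coprime_two_right.mpr hhodd)
      exact hh1 (no_comm hCN S hz hzS hzC hne hb hz hh.1 hh.2 hhodd hzh)

theorem mem_pair_of_commute {a b : ΩM} (hab : a ≠ b) {m h : G} (hm : m • a = a)
    (hh : h ∈ stabilizer G a ⊓ stabilizer G b) (hh1 : h ≠ 1) (hmh : Commute m h) :
    m ∈ stabilizer G a ⊓ stabilizer G b := by
  obtain ⟨g, rfl⟩ := exists_smul_eq G (QuotientGroup.mk 1 : ΩM) a
  obtain ⟨b, rfl⟩ : ∃ b', g • b' = b := ⟨g⁻¹ • b, smul_inv_smul g b⟩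
  have hab' : (QuotientGroup.mk 1 : ΩM) ≠ b := fun e => hab (by rw [e])
  have key : ∀ (x : G) (y : ΩM), x • g • y = g • y ↔ (g⁻¹ * x * g) • y = y := fun x y => by
    rw [mul_smul, mul_smul, inv_smul_eq_iff]
  have h1 := (card_stab hCN S hz hzS hzC hne hab').2.2 (g⁻¹ * m * g)
    ((smul_one_eq_iff _).mp ((key m _).mp hm)) (g⁻¹ * h * g)
    ⟨(key h _).mp hh.1, (key h _).mp hh.2⟩
    (fun e => hh1 (by simpa [mul_assoc, inv_mul_eq_one, eq_comm] using e))
    (by
      show g⁻¹ * m * g * (g⁻¹ * h * g) = g⁻¹ * h * g * (g⁻¹ * m * g)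
      calc g⁻¹ * m * g * (g⁻¹ * h * g) = g⁻¹ * (m * h) * g := by group
        _ = g⁻¹ * h * g * (g⁻¹ * m * g) := by rw [hmh.eq]; group)
  exact ⟨(key m _).mpr h1.1, (key m _).mpr h1.2⟩

theorem fix_pair (he : 1 < swapNum z) {a b c : ΩM} (hab : a ≠ b)
    (hc : ∀ h ∈ stabilizer G a ⊓ stabilizer G b, h • c = c) : c = a ∨ c = b := by
  classical
  have : Fintype ΩM := Fintype.ofFinite _
  have hH := stronglyEmbedded hCN S hz hzS hzC hne
  obtain ⟨hsw, hcard, hinv, -⟩ := card_pair hCN S hz hzS hzC hne hab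
  set D := stabilizer G a ⊓ stabilizer G b with hDdef
  let F : Set ΩM := {x | ∀ h ∈ D, h • x = x}
  have haF : a ∈ F := fun h hh => hh.1
  have hbF : b ∈ F := fun h hh => hh.2
  have hDodd : Odd (Nat.card D) := odd_pair hCN S hz hzS hzC hne hab
  obtain ⟨h0, hh0, hh01⟩ : ∃ h ∈ D, h ≠ 1 := by
    by_contra hcon
    push Not at hcon
    rw [(eq_bot_iff_forall D).mpr hcon, card_bot] at hcard
    omega
  -- an inverting involution fixes no point of `F`
  have hpres : ∀ k, orderOf k = 2 → (∀ h ∈ D, k * h * k⁻¹ = h⁻¹) →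
      ∀ x ∈ F, k • x ∈ F ∧ k • x ≠ x := by
    intro k hk hki x hx
    refine ⟨fun h hh => ?_, fun e => ?_⟩
    · have h1 : h * k = k * h⁻¹ := by
        have := hki h⁻¹ (inv_mem hh)
        rw [inv_inv] at this
        exact (mul_inv_eq_iff_eq_mul.mp this).symm
      rw [← mul_smul, h1, mul_smul, hx _ (inv_mem hh)]
    · obtain ⟨t, ht, htx⟩ := exists_invol_fix hH x
      rcases eq_or_ne (oddCent t) ⊥ with hb | hb
      · exfalso
        obtain ⟨q, rfl⟩ := exists_smul_eq G (QuotientGroup.mk 1 : ΩM) x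
        have hzq : (q * z * q⁻¹) • q • (QuotientGroup.mk 1 : ΩM) = q • (QuotientGroup.mk 1 : ΩM) := by
          rw [← mul_smul, inv_mul_cancel_right, mul_smul,
            (smul_one_eq_iff z).mpr (sylow_le hCN S hz hzS hzC hzS)]
        have := oddCent_eq_of_fix hCN S hz hzS hzC hne (by rw [Invol.orderOf_conj, hz]) ht hzq htx
        rw [hb, ← map_oddCent hCN (Invol.ne_one_of_invol hz),
          map_eq_bot_iff_of_injective _ (MulAut.conj q).injective] at this
        exact hne (this ▸ normalizer_eq_top_iff.mpr inferInstance)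
      · obtain ⟨⟨y, hy⟩, hy1⟩ := ne_bot_iff_exists_ne_one.mp hb
        have hy1' : y ≠ 1 := fun e' => hy1 (Subtype.ext e')
        have hfix2 : ∀ s : G, orderOf s = 2 → s • x = x → s ∈ twoCent y := by
          intro s hs hsx
          have : y ∈ oddCent s := (oddCent_eq_of_fix hCN S hz hzS hzC hne ht hs htx hsx) ▸ hy
          exact mem_twoCent hCN hy1' (commute_of_oddCent this).symm (k := 1) (by rw [pow_one, hs])
        have hsq : h0 * h0 ∈ twoCent y := by
          have e1 : h0 * h0 = h0 * k * h0⁻¹ * k⁻¹ := by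
            calc h0 * h0 = h0 * (k * h0 * k⁻¹)⁻¹ := by rw [hki h0 hh0, inv_inv]
              _ = h0 * k * h0⁻¹ * k⁻¹ := by group
          rw [e1]
          refine mul_mem (hfix2 _ (by rw [Invol.orderOf_conj, hk]) ?_) (inv_mem (hfix2 k hk e))
          rw [mul_smul, mul_smul, show h0⁻¹ • x = x from inv_smul_eq_iff.mpr (hx _ hh0).symm, e,
            hx _ hh0]
        obtain ⟨i, hi⟩ := IsPGroup.iff_orderOf.mp (isPGroup_twoCent y) ⟨_, hsq⟩
        have hodd := odd_orderOf_of_mem hDodd hh0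
        rw [orderOf_mk, ← pow_two, (Nat.coprime_two_right.mpr hodd).orderOf_pow] at hi
        obtain rfl : i = 0 := eq_zero_of_odd_two_pow (hi ▸ hodd)
        exact hh01 (orderOf_eq_one_iff.mp (by rw [hi, pow_zero]))
  let P : G → Prop := fun k => orderOf k = 2 ∧ ∀ h ∈ D, k * h * k⁻¹ = h⁻¹
  have hP : ∀ y ∈ F, a ≠ y → ∀ k : G, orderOf k = 2 → k • a = y → P k := by
    intro y hy hay k hk hka
    exact ⟨hk, fun h hh =>
      (card_pair hCN S hz hzS hzC hne hay).2.2.1 k hk hka h ⟨hh.1, hy h hh⟩⟩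
  let e1 : {k : G // P k} ≃ Σ y : {y : ΩM // y ∈ F ∧ a ≠ y}, Swap a y.1 :=
    { toFun := fun k => ⟨⟨k.1 • a, (hpres _ k.2.1 k.2.2 a haF).1,
        (hpres _ k.2.1 k.2.2 a haF).2.symm⟩, k.1, k.2.1, rfl⟩
      invFun := fun p => ⟨p.2.1, hP p.1.1 p.1.2.1 p.1.2.2 p.2.1 p.2.2.1 p.2.2.2⟩
      left_inv := fun k => rfl
      right_inv := fun p => by
        obtain ⟨⟨y, hy⟩, k, hk, hka⟩ := p
        exact Sigma.subtype_ext (Subtype.ext hka) rfl }
  have hK : Nat.card {k : G // P k} = (F.ncard - 1) * swapNum z := by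
    rw [Nat.card_congr e1, Nat.card_sigma, Finset.sum_congr rfl
      (fun y _ => (card_pair hCN S hz hzS hzC hne y.2.2).1), Finset.sum_const, Finset.card_univ,
      smul_eq_mul, ← Nat.card_eq_fintype_card]
    congr 1
    rw [← Set.ncard_sdiff_singleton_of_mem haF, ← Nat.card_coe_set_eq]
    exact Nat.card_congr (Equiv.subtypeEquivRight fun y => by
      simp [Set.mem_sdiff, eq_comm])
  obtain ⟨⟨u, hu, hua⟩⟩ :=
    (Nat.card_pos_iff.mp (hsw.symm ▸ (by omega : 0 < swapNum z))).1
  have hPu : P u := hP b hbF hab u hu hua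
  let M := centralizer (D : Set G)
  have hMh0 : ∀ m ∈ M, Commute h0 m := fun m hm => mem_centralizer_iff.mp hm h0 hh0
  have hMF : ∀ m ∈ M, ∀ x ∈ F, m • x ∈ F := by
    intro m hm x hx h hh
    rw [← mul_smul, mem_centralizer_iff.mp hm h hh, mul_smul, hx h hh]
  have hModd : Odd (Nat.card M) := odd_card_of_no_invol fun t ht ho =>
    hh01 (no_comm hCN S hz hzS hzC hne hab ho hh0.1 hh0.2 (odd_orderOf_of_mem hDodd hh0) (hMh0 t ht))
  have hMu : ∀ m ∈ M, u * m * u⁻¹ ∈ M := by
    intro m hm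
    rw [mem_centralizer_iff]
    intro h hh
    have h1 : h = u * h⁻¹ * u⁻¹ := by
      have := hPu.2 h⁻¹ (inv_mem hh)
      rw [inv_inv] at this; exact this.symm
    rw [h1, show u * h⁻¹ * u⁻¹ * (u * m * u⁻¹) = u * (h⁻¹ * m) * u⁻¹ by group,
      mem_centralizer_iff.mp hm h⁻¹ (inv_mem hh)]
    group
  have hfpf : ∀ m ∈ M, Commute u m → m = 1 := by
    intro m hm hum
    by_contra hm1
    obtain ⟨w, hw⟩ := exists_fix hH hu
    have hmO : m ∈ oddCent u := (mem_oddCent hCN (Invol.ne_one_of_invol hu)).mpr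
      ⟨hum.symm, odd_orderOf_of_mem hModd hm⟩
    have hwF : w ∈ F := fun h hh => fix_of_commute hCN S hz hzS hzC hne hu hw hmO hm1
      (mem_centralizer_iff.mp hm h hh)
    exact (hpres u hu hPu.2 w hwF).2 hw
  have hMinv : ∀ m ∈ M, u * m * u⁻¹ = m⁻¹ := by
    let ψ : M → M := fun m => ⟨(m : G)⁻¹ * (u * m * u⁻¹), mul_mem (inv_mem m.2) (hMu _ m.2)⟩
    have hψ : Function.Injective ψ := by
      intro m n h
      have h' : (m : G)⁻¹ * (u * m * u⁻¹) = (n : G)⁻¹ * (u * n * u⁻¹) := congrArg Subtype.val h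
      have hc : Commute u ((n : G) * (m : G)⁻¹) := by
        refine (mul_inv_eq_iff_eq_mul.mp ?_)
        calc u * ((n : G) * (m : G)⁻¹) * u⁻¹ = (u * n * u⁻¹) * (u * m * u⁻¹)⁻¹ := by group
          _ = (n : G) * ((n : G)⁻¹ * (u * n * u⁻¹)) * (u * m * u⁻¹)⁻¹ := by group
          _ = (n : G) * (m : G)⁻¹ := by rw [← h']; group
      exact Subtype.ext (mul_inv_eq_one.mp (hfpf _ (mul_mem n.2 (inv_mem m.2)) hc)).symm
    intro m hm
    obtain ⟨n, hn⟩ := (Finite.injective_iff_surjective.mp hψ) ⟨m, hm⟩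
    have hn' : (n : G)⁻¹ * (u * n * u⁻¹) = m := congrArg Subtype.val hn
    have huu := Invol.mul_self_eq_one hu
    rw [← hn', Invol.inv_eq_self hu]
    simp only [mul_inv_rev, inv_inv, Invol.inv_eq_self hu, mul_assoc]
    rw [huu, mul_one]
  let e2 : M ≃ {k : G // P k} :=
    { toFun := fun m => ⟨u * m, by
        have hi := hMinv m m.2
        have hinv' : ∀ h ∈ D, u * (m : G) * h * (u * (m : G))⁻¹ = h⁻¹ := by
          intro h hh
          rw [show u * (m : G) * h * (u * (m : G))⁻¹ = u * ((m : G) * h) * (m : G)⁻¹ * u⁻¹ by group,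
            ← mem_centralizer_iff.mp m.2 h hh, ← hPu.2 h hh]
          group
        refine ⟨Invol.orderOf_eq_two (fun e => ?_) ?_, hinv'⟩
        · have hx := hinv' h0 hh0
          rw [e, one_mul, inv_one, mul_one, eq_inv_iff_mul_eq_one, ← pow_two] at hx
          have := orderOf_dvd_of_pow_eq_one hx
          obtain ⟨j, hj⟩ := odd_orderOf_of_mem hDodd hh0
          rcases (Nat.dvd_prime Nat.prime_two).mp this with h' | h'
          · exact hh01 (orderOf_eq_one_iff.mp h')
          · omega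
        · rw [show u * (m : G) * (u * (m : G)) = (u * (m : G) * u⁻¹) * (u * u) * (m : G) by group,
            hi, Invol.mul_self_eq_one hu, mul_one, inv_mul_cancel]⟩
      invFun := fun k => ⟨u * k.1, mem_centralizer_iff.mpr fun h hh => by
        have h1 := k.2.2 h hh
        have h2 := hPu.2 h⁻¹ (inv_mem hh)
        rw [inv_inv] at h2
        calc h * (u * k.1) = u * h⁻¹ * u⁻¹ * (u * k.1) := by rw [h2]
          _ = u * (k.1 * h * k.1⁻¹) * k.1 := by rw [h1]; group
          _ = u * k.1 * h := by group⟩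
      left_inv := fun m => Subtype.ext (by
        show u * (u * (m : G)) = m
        rw [← mul_assoc, Invol.mul_self_eq_one hu, one_mul])
      right_inv := fun k => Subtype.ext (by
        show u * (u * k.1) = k.1
        rw [← mul_assoc, Invol.mul_self_eq_one hu, one_mul]) }
  have hM : Nat.card M = (F.ncard - 1) * swapNum z := (Nat.card_congr e2).trans hK
  have hDM : D ≤ M := fun d hd => mem_centralizer_iff.mpr fun h hh =>
    (pair_comm hCN S hz hzS hzC hne hab hh hd).eq
  have horb : ∀ x ∈ F, (orbit M x).ncard = F.ncard - 1 := by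
    intro x hx
    obtain ⟨y, hyF, hxy⟩ : ∃ y ∈ F, x ≠ y := by
      rcases eq_or_ne x a with rfl | h
      · exact ⟨b, hbF, hab⟩
      · exact ⟨a, haF, h⟩
    have hDxy : D = stabilizer G x ⊓ stabilizer G y := eq_of_le_of_card_ge
      (fun h hh => ⟨hx h hh, hyF h hh⟩)
      (by rw [(card_pair hCN S hz hzS hzC hne hxy).2.1, hcard])
    have hmap : (stabilizer M x).map M.subtype = D := by
      refine le_antisymm ?_ fun d hd => ⟨⟨d, hDM hd⟩, hx d hd, rfl⟩
      rintro _ ⟨m, hm, rfl⟩
      rw [hDxy]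
      exact mem_pair_of_commute hCN S hz hzS hzC hne hxy (h := h0) hm (hDxy ▸ hh0) hh01
        (hMh0 m m.2).symm
    have hst : Nat.card (stabilizer M x) = swapNum z := by
      rw [← card_map_of_injective (f := M.subtype) Subtype.val_injective, hmap, hcard]
    have h := (stabilizer M x).card_mul_index
    rw [index_stabilizer, hst, hM, mul_comm (F.ncard - 1)] at h
    exact Nat.eq_of_mul_eq_mul_left (by omega) h
  have hsub : ∀ x ∈ F, orbit M x ⊆ F := by
    rintro x hx _ ⟨m, rfl⟩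
    exact hMF m m.2 x hx
  have htwo : F.ncard ≤ 2 := by
    have h1 := horb a haF
    have hpos : 0 < F.ncard := (Set.ncard_pos).mpr ⟨a, haF⟩
    obtain ⟨w, hwF, hw⟩ := Set.exists_mem_notMem_of_ncard_lt_ncard
      (s := orbit M a) (t := F) (by omega)
    have hdis : Disjoint (orbit M a) (orbit M w) := by
      rw [Set.disjoint_left]
      intro v hv hv'
      exact hw (orbit_eq_iff.mp ((orbit_eq_iff.mpr hv').symm.trans (orbit_eq_iff.mpr hv)))
    have h2 := Set.ncard_le_ncard (Set.union_subset (hsub a haF) (hsub w hwF))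
    rw [Set.ncard_union_eq hdis, h1, horb w hwF] at h2
    omega
  by_contra hcab
  push Not at hcab
  have h3 : ({c, a, b} : Set ΩM).ncard = 3 :=
    Set.ncard_eq_three.mpr ⟨c, a, b, hcab.1, hcab.2, hab, rfl⟩
  have := Set.ncard_le_ncard (show ({c, a, b} : Set ΩM) ⊆ F by
    rintro x (rfl | rfl | rfl) <;> first | exact hc | exact haF | exact hbF)
  omega

theorem eq_one_of_fix_three (he : 1 < swapNum z) {g : G} {a b c : ΩM} (hab : a ≠ b) (hbc : b ≠ c)
    (hac : a ≠ c) (ha : g • a = a) (hb : g • b = b) (hc : g • c = c) : g = 1 := by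
  by_contra hg
  have hle : stabilizer G a ⊓ stabilizer G c ≤ stabilizer G a ⊓ stabilizer G b := fun d hd =>
    mem_pair_of_commute hCN S hz hzS hzC hne hab (h := g) hd.1 ⟨ha, hb⟩ hg
      (pair_comm hCN S hz hzS hzC hne hac hd ⟨ha, hc⟩)
  have heq := eq_of_le_of_card_ge hle (by
    rw [(card_pair hCN S hz hzS hzC hne hab).2.1, (card_pair hCN S hz hzS hzC hne hac).2.1])
  rcases fix_pair hCN S hz hzS hzC hne he hab (c := c)
    (fun h hh => by rw [← heq] at hh; exact hh.2) with h | h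
  · exact hac h.symm
  · exact hbc h.symm

theorem coprime_card {b : ΩM} (hb : (QuotientGroup.mk 1 : ΩM) ≠ b) :
    (Nat.card (centralizer ({z} : Set G))).Coprime
      (Nat.card (stabilizer G (QuotientGroup.mk 1 : ΩM) ⊓ stabilizer G b : Subgroup G)) := by
  refine Nat.coprime_of_dvd fun p hp hpC hpD => ?_
  haveI := Fact.mk hp
  obtain ⟨⟨d, hd⟩, hdo⟩ := exists_prime_orderOf_dvd_card' p hpD
  rw [orderOf_mk] at hdo
  have hdN : ∀ x : zpowers d, (x : G) ∈ normalizer ((centralizer ({z} : Set G) : Subgroup G) : Set G) := by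
    intro x
    exact centralizer_normal hCN S hz hzS hzC hne
      (zpowers_le.mpr ((smul_one_eq_iff d).mp hd.1) x.2)
  letI : MulAction (zpowers d) (centralizer ({z} : Set G)) :=
    { smul := fun x c => ⟨(x : G) * c * (x : G)⁻¹, (mem_normalizer_iff.mp (hdN x) _).mp c.2⟩
      one_smul := fun c => Subtype.ext (show (1 : G) * c * (1 : G)⁻¹ = c by group)
      mul_smul := fun x y c => Subtype.ext (show ((x : G) * y) * c * ((x : G) * y)⁻¹ =
        (x : G) * ((y : G) * c * (y : G)⁻¹) * (x : G)⁻¹ by group) }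
  have hP : IsPGroup p (zpowers d) := IsPGroup.of_card (n := 1) (by rw [Nat.card_zpowers, hdo, pow_one])
  have h1 := hP.card_modEq_card_fixedPoints (centralizer ({z} : Set G))
  have hsub : Nat.card (fixedPoints (zpowers d) (centralizer ({z} : Set G))) = 1 := by
    refine Nat.card_eq_one_iff_unique.mpr ⟨⟨fun x y => ?_⟩, ⟨⟨1, fun w => Subtype.ext
      (show (w : G) * 1 * (w : G)⁻¹ = 1 by group)⟩⟩⟩
    have key : ∀ x : fixedPoints (zpowers d) (centralizer ({z} : Set G)), x.1 = 1 := by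
      intro x
      have hx : d * (x.1 : G) * d⁻¹ = x.1 := congrArg Subtype.val (x.2 ⟨d, mem_zpowers d⟩)
      have hd1 : d ≠ 1 := fun e => hp.one_lt.ne' (by rw [← hdo, e, orderOf_one])
      have hm := (card_stab hCN S hz hzS hzC hne hb).2.2 (x.1 : G)
        (centralizer_le_normalizer hCN hz x.1.2) d hd hd1 (mul_inv_eq_iff_eq_mul.mp hx).symm
      exact Subtype.ext (no_comm hCN S hz hzS hzC hne hb hz hm.1 hm.2
        (odd_orderOf_of_mem (odd_pair hCN S hz hzS hzC hne hb) hm)
        (mem_centralizer_singleton_iff.mp x.1.2))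
    exact Subtype.ext ((key x).trans (key y).symm)
  rw [hsub] at h1
  have h0 : Nat.card (centralizer ({z} : Set G)) % p = 0 := Nat.dvd_iff_mod_eq_zero.mp hpC
  have h2 : Nat.card (centralizer ({z} : Set G)) % p = 1 % p := h1
  rw [h0, Nat.mod_eq_of_lt hp.one_lt] at h2
  omega

theorem exists_smul_eq_of_ne (he : 1 < swapNum z) {b c : ΩM} (hb : (QuotientGroup.mk 1 : ΩM) ≠ b)
    (hc : (QuotientGroup.mk 1 : ΩM) ≠ c) :
    ∃ s : G, s • (QuotientGroup.mk 1 : ΩM) = QuotientGroup.mk 1 ∧ s • b = c := by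
  set a : ΩM := QuotientGroup.mk 1
  set D := stabilizer G a ⊓ stabilizer G b
  obtain ⟨-, h1, -, -⟩ := card_pair hCN S hz hzS hzC hne hb
  obtain ⟨-, h2, -, -⟩ := card_pair hCN S hz hzS hzC hne hc
  have hN := centralizer_normal hCN S hz hzS hzC hne
  have hle : ∀ {y : ΩM}, stabilizer G a ⊓ stabilizer G y ≤ normalizer (oddCent z : Set G) :=
    fun hd => (smul_one_eq_iff _).mp hd.1
  have hsup : stabilizer G a ⊓ stabilizer G c ≤ centralizer ({z} : Set G) ⊔ D := by
    intro x hx
    obtain ⟨d, hd, k, hk, rfl⟩ := (card_stab hCN S hz hzS hzC hne hb).2.1 x (hle hx)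
    exact mul_mem (mem_sup_right hd) (mem_sup_left hk)
  have hsolv : Group.IsSolvable D := isSolvable_of_comm fun x y =>
    Subtype.ext (pair_comm hCN S hz hzS hzC hne hb x.2 y.2)
  obtain ⟨s, hs, hconj⟩ := CfsgLib.Solvable.exists_conj_eq_of_coprime
    (N := centralizer ({z} : Set G)) (B := D) (B' := stabilizer G a ⊓ stabilizer G c)
    (hle.trans hN) hsup (by rw [h2, h1]) (coprime_card hCN S hz hzS hzC hne hb) (Or.inr hsolv)
  have hsa : s • a = a := (smul_one_eq_iff _).mpr (centralizer_le_normalizer hCN hz hs)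
  refine ⟨s, hsa, ?_⟩
  have hfix : ∀ h ∈ stabilizer G a ⊓ stabilizer G c, h • s • b = s • b := by
    intro h hh
    rw [← hconj] at hh
    obtain ⟨d, hd, rfl⟩ := mem_map.mp hh
    show (s * d * s⁻¹) • s • b = s • b
    rw [smul_smul, inv_mul_cancel_right, mul_smul, show d • b = b from hd.2]
  rcases fix_pair hCN S hz hzS hzC hne he hc hfix with h | h
  · exact absurd (smul_left_cancel s (hsa.trans h.symm)) hb
  · exact h

omit S hzS hzC in
theorem exists_ne_base : ∃ b : ΩM, (QuotientGroup.mk 1 : ΩM) ≠ b := by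
  by_contra h
  push Not at h
  exact hne ((eq_top_iff' _).mpr fun g => by
    simpa using QuotientGroup.eq.mp (h (QuotientGroup.mk g)))

/-- The contradiction. -/
theorem false_of_oddCent [IsSimpleGroup G] (hO : oddCent z ≠ ⊥) : False := by
  classical
  set M := normalizer (oddCent z : Set G) with hMdef
  obtain ⟨b0, hb⟩ := exists_ne_base hCN hz hne
  obtain ⟨hsw, hcardD, -, -⟩ := card_pair hCN S hz hzS hzC hne hb
  have hzM : z ∈ M := sylow_le hCN S hz hzS hzC hzS
  have hMbot : M ≠ ⊥ := fun h => Invol.ne_one_of_invol hz (by rw [h, mem_bot] at hzM; exact hzM)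
  have he : 1 < swapNum z := by
    by_contra hle
    have hF : Cfsg.IsFrobeniusComplement M := by
      refine ⟨hMbot, hne, fun g hg => (eq_bot_iff_forall _).mpr fun x hx => ?_⟩
      have hgb : (QuotientGroup.mk 1 : ΩM) ≠ QuotientGroup.mk g := fun e =>
        hg (by simpa using QuotientGroup.eq.mp e)
      have h1 := (card_pair hCN S hz hzS hzC hne hgb).2.1
      have hbot : stabilizer G (QuotientGroup.mk 1 : ΩM) ⊓ stabilizer G (QuotientGroup.mk g : ΩM) = ⊥ :=
        card_eq_one.mp (le_antisymm (by omega) Nat.card_pos)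
      exact (eq_bot_iff_forall _).mp hbot x ((SEmb.mem_inter_iff g x).mp hx)
    obtain ⟨N, -, hN, hc⟩ := CfsgLib.Frobenius.exists_kernel_subgroup hF
    rcases hN.eq_bot_or_eq_top with rfl | rfl
    · exact hne (isComplement'_bot_left.mp hc)
    · exact hMbot (isComplement'_top_left.mp hc)
  have h2 : IsMultiplyPretransitive G ΩM 2 := by
    rw [is_two_pretransitive_iff]
    intro a c a' c' hac hac'
    obtain ⟨g, hg⟩ := exists_smul_eq G a (QuotientGroup.mk 1 : ΩM)
    obtain ⟨g', hg'⟩ := exists_smul_eq G a' (QuotientGroup.mk 1 : ΩM)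
    obtain ⟨s, hs1, hs2⟩ := exists_smul_eq_of_ne hCN S hz hzS hzC hne he (b := g • c) (c := g' • c')
      (fun e => hac (smul_left_cancel g (hg.trans e)))
      (fun e => hac' (smul_left_cancel g' (hg'.trans e)))
    exact ⟨g'⁻¹ * s * g, by rw [mul_smul, mul_smul, hg, hs1, inv_smul_eq_iff, hg'],
      by rw [mul_smul, mul_smul, hs2, inv_smul_smul]⟩
  have hZ : Cfsg.IsZassenhausGroup G ΩM := by
    refine ⟨⟨fun {g g'} h => ?_⟩, h2,
      fun g a b0 c => eq_one_of_fix_three hCN S hz hzS hzC hne he, ?_, ?_⟩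
    · have hk : g⁻¹ * g' ∈ M.normalCore := by
        rw [normalCore_eq_ker, MonoidHom.mem_ker]
        ext x
        rw [map_mul, Equiv.Perm.mul_apply, Equiv.Perm.one_apply, MulAction.toPermHom_apply,
          MulAction.toPermHom_apply, MulAction.toPerm_apply, MulAction.toPerm_apply, ← h x,
          inv_smul_smul]
      rcases (inferInstance : M.normalCore.Normal).eq_bot_or_eq_top with h' | h'
      · rw [h'] at hk; exact inv_mul_eq_one.mp hk
      · exact absurd (top_le_iff.mp (h' ▸ normalCore_le _)) hne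
    · obtain ⟨⟨d, hd⟩, hd1⟩ := ne_bot_iff_exists_ne_one.mp
        (fun e => by rw [e, card_bot] at hcardD; omega :
          stabilizer G (QuotientGroup.mk 1 : ΩM) ⊓ stabilizer G b0 ≠ ⊥)
      exact ⟨d, fun e => hd1 (Subtype.ext e), _, _, hb, hd.1, hd.2⟩
    · intro N hN htr
      rcases hN.eq_bot_or_eq_top with rfl | rfl
      · obtain ⟨⟨n, hn⟩, hne'⟩ := htr.exists_smul_eq (QuotientGroup.mk 1 : ΩM) b0
        rw [mem_bot] at hn
        subst hn
        exact absurd (by simpa [Subgroup.smul_def] using hne') hb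
      · refine ⟨QuotientGroup.mk 1, fun hbot => ?_⟩
        have : (⟨z, mem_top z⟩ : (⊤ : Subgroup G)) ∈
            stabilizer (⊤ : Subgroup G) (QuotientGroup.mk 1 : ΩM) := (smul_one_eq_iff z).mpr hzM
        have := hbot.le this
        rw [mem_bot, Subtype.ext_iff] at this
        exact Invol.ne_one_of_invol hz this
  -- the degree minus one is the order of `C(z)`
  letI : Fintype ΩM := Fintype.ofFinite _
  have hdeg : Fintype.card ΩM - 1 = Nat.card (centralizer ({z} : Set G)) := by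
    have hset : orbit M b0 = {x : ΩM | (QuotientGroup.mk 1 : ΩM) ≠ x} := by
      ext x
      constructor
      · rintro ⟨m, rfl⟩ e
        refine hb (smul_left_cancel (m : G) ?_)
        exact ((smul_one_eq_iff (m : G)).mpr m.2).trans e
      · intro hx
        obtain ⟨s, hs1, hs2⟩ := exists_smul_eq_of_ne hCN S hz hzS hzC hne he hb hx
        exact ⟨⟨s, (smul_one_eq_iff s).mp hs1⟩, hs2⟩
    have hst : Nat.card (stabilizer M b0) = swapNum z := by
      rw [← card_map_of_injective (f := M.subtype) Subtype.val_injective, ← hcardD,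
        show (stabilizer M b0).map M.subtype =
            stabilizer G (QuotientGroup.mk 1 : ΩM) ⊓ stabilizer G b0 from le_antisymm
          (by rintro _ ⟨m, hm, rfl⟩; exact ⟨(smul_one_eq_iff _).mpr m.2, hm⟩)
          (fun d hd => ⟨⟨d, (smul_one_eq_iff d).mp hd.1⟩, hd.2, rfl⟩)]
    have h := (stabilizer M b0).card_mul_index
    rw [index_stabilizer, hst, (card_stab hCN S hz hzS hzC hne hb).1,
      mul_comm (Nat.card (centralizer ({z} : Set G)))] at h
    rw [← Nat.eq_of_mul_eq_mul_left (by omega) h, hset,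
      show {x : ΩM | (QuotientGroup.mk 1 : ΩM) ≠ x} = {(QuotientGroup.mk 1 : ΩM)}ᶜ by
        ext x; simp [eq_comm], Set.ncard_compl, Set.ncard_singleton, Nat.card_eq_fintype_card]
  obtain ⟨p, k, hp, -, hpk⟩ := (isPrimePow_nat_iff _).mp (Cfsg.Agent.S0346.result hZ)
  rw [hdeg] at hpk
  obtain ⟨⟨x, hx⟩, hx1⟩ := ne_bot_iff_exists_ne_one.mp hO
  have hdvd : ∀ y ∈ centralizer ({z} : Set G), y ≠ 1 → p ∣ orderOf y := by
    intro y hy hy1
    obtain ⟨r, hr, hry⟩ := Nat.exists_prime_and_dvd (mt orderOf_eq_one_iff.mp hy1)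
    have := hry.trans (Subgroup.orderOf_dvd_natCard _ hy)
    rw [← hpk] at this
    exact ((Nat.prime_dvd_prime_iff_eq hr hp).mp (hr.dvd_of_dvd_pow this)) ▸ hry
  have h2z := hdvd z (mem_centralizer_singleton_iff.mpr rfl) (Invol.ne_one_of_invol hz)
  rw [hz] at h2z
  obtain rfl : p = 2 := (Nat.prime_dvd_prime_iff_eq hp Nat.prime_two).mp h2z
  exact Nat.not_even_iff_odd.mpr (odd_of_oddCent hx) (even_iff_two_dvd.mpr
    (hdvd x (mem_centralizer_singleton_iff.mpr (commute_of_oddCent hx))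
      fun e => hx1 (Subtype.ext e)))

end

/-- A simple CN group is a CIT group. -/
theorem isCIT_of_isCN [IsSimpleGroup G] (hab : ∃ a b : G, a * b ≠ b * a) : IsCIT G := by
  intro t ht
  by_contra hp
  obtain ⟨y, hy⟩ : ∃ y : centralizer ({t} : Set G), ∀ k, orderOf y ≠ 2 ^ k := by
    by_contra h
    push Not at h
    exact hp (IsPGroup.iff_orderOf.mpr h)
  obtain ⟨k, r, hr, hkr⟩ := Nat.exists_eq_two_pow_mul_odd (orderOf_pos (y : G)).ne'
  have hx : (y : G) ^ 2 ^ k ∈ oddCent t := by
    refine (mem_oddCent hCN (Invol.ne_one_of_invol ht)).mpr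
      ⟨Commute.pow_left (show Commute (y : G) t from mem_centralizer_singleton_iff.mp y.2) _, ?_⟩
    rw [orderOf_pow_of_dvd (by positivity) ⟨r, hkr⟩, hkr, Nat.mul_div_cancel_left _ (by positivity)]
    exact hr
  have hx1 : (y : G) ^ 2 ^ k ≠ 1 := by
    intro h
    obtain ⟨i, -, hi⟩ := (Nat.dvd_prime_pow Nat.prime_two).1 (orderOf_dvd_of_pow_eq_one h)
    exact hy i (by rw [← orderOf_coe]; exact hi)
  obtain ⟨S, hS⟩ := (IsPGroup.of_card (G := zpowers t) (p := 2) (n := 1)
    (by rw [Nat.card_zpowers, ht, pow_one])).exists_le_sylow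
  have htS : t ∈ (S : Subgroup G) := hS (mem_zpowers t)
  haveI : Nontrivial (S : Subgroup G) :=
    ⟨⟨⟨t, htS⟩, 1, fun e => Invol.ne_one_of_invol ht (congrArg Subtype.val e)⟩⟩
  haveI := S.2.center_nontrivial
  obtain ⟨n, hn⟩ := IsPGroup.iff_card.mp (S.2.to_subgroup (center (S : Subgroup G)))
  obtain ⟨c, hc⟩ := exists_prime_orderOf_dvd_card' 2 (G := center (S : Subgroup G)) (by
    have := Finite.one_lt_card (α := center (S : Subgroup G))
    rw [hn] at this ⊢
    exact dvd_pow_self 2 (by rintro rfl; simp at this))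
  set z := ((c : (S : Subgroup G)) : G)
  have hz : orderOf z = 2 := by rw [orderOf_coe, orderOf_coe, hc]
  have hzC : ∀ s ∈ (S : Subgroup G), Commute s z := fun s hs =>
    congrArg Subtype.val (mem_center_iff.mp c.2 ⟨s, hs⟩)
  have hO : oddCent z ≠ ⊥ := by
    rw [oddCent_eq_of_commute hCN hz ht (hzC t htS)]
    exact fun h => hx1 (by rw [h, mem_bot] at hx; exact hx)
  refine false_of_oddCent hCN S hz (c : (S : Subgroup G)).2 hzC ?_ hO
  intro htop
  rcases (normalizer_eq_top_iff.mp htop).eq_bot_or_eq_top with h | h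
  · exact hO h
  · have hodd := odd_card_oddCent z
    rw [h, card_top] at hodd
    exact Nat.not_even_iff_odd.mpr hodd (even_iff_two_dvd.mpr (ht ▸ orderOf_dvd_natCard t))

end CfsgLib.CIT.CNR
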