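import Mathlib.GroupTheory.PGroup
import Mathlib.Algebra.Group.Subgroup.Basic
import Cfsg.Prelude.Def_Amalgam
import Cfsg.Agent.Lib.PLocal.Families
import Cfsg.Agent.Lib.CIT.TISylow

/-!
# CIT groups: the shared interface of the local analysis
-/

set_option autoImplicit false

namespace CfsgLib.CIT

variable {G : Type*} [Group G]

/-- `R` is a 2-subgroup of `N` of largest order, i.e. a Sylow 2-subgroup of `N`. -/
structure IsSylowIn (N R : Subgroup G) : Prop where
  le : R ≤ N
  pgroup : IsPGroup 2 R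
  max : ∀ P : Subgroup G, P ≤ N → IsPGroup 2 P → Nat.card P ≤ Nat.card R

/-- An abelian subgroup of largest order of a Sylow 2-subgroup of the 2-local `N(Q)` lying outside
`O₂(N(Q))`. -/
structure IsOffending (Q R A : Subgroup G) : Prop where
  pgroup : IsPGroup 2 Q
  ne_bot : Q ≠ ⊥
  sylow : IsSylowIn (Subgroup.normalizer (Q : Set G)) R
  maxAb : CfsgLib.PLoc.IsMaxAb 0 R A
  not_le : ¬ A ≤ Cfsg.pCoreOf 2 (Subgroup.normalizer (Q : Set G))

/-- A natural 2-local: `V` elementary abelian of order `q²` and self-centralising, `O₂(N(V)) = V`,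
`A` abelian of order `q²` normalising `V` with `|A ∩ V| = q`, and Sylow 2-subgroups of
`N(V)` of order `q³`. -/
structure NaturalLocal (V A : Subgroup G) (q : ℕ) : Prop where
  two_le : 2 ≤ q
  comm_V : IsMulCommutative V
  sq_V : ∀ v ∈ V, v * v = 1
  comm_A : IsMulCommutative A
  card_V : Nat.card V = q ^ 2
  card_A : Nat.card A = q ^ 2
  card_inf : Nat.card (A ⊓ V : Subgroup G) = q
  le_normalizer : A ≤ Subgroup.normalizer (V : Set G)
  centralizer_eq : Subgroup.centralizer (V : Set G) = V
  core_eq : Cfsg.pCoreOf 2 (Subgroup.normalizer (V : Set G)) = V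
  card_sylow : ∀ P : Subgroup G, P ≤ Subgroup.normalizer (V : Set G) → IsPGroup 2 P →
    Nat.card P ≤ q ^ 3

end CfsgLib.CIT
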