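import Mathlib.GroupTheory.Nilpotent
import Mathlib.GroupTheory.QuotientGroup.Basic
import Cfsg.Agent.Lib.CIT.Defs
import Cfsg.Agent.Lib.Invol.StronglyEmbedded
import Cfsg.Agent.Lib.Invol.BaerSuzuki
import Cfsg.Agent.Lib.Solvable.Core
import Cfsg.Agent.Lib.Solvable.SchurZassenhaus

/-!
# Strongly embedded 2-constrained subgroups of CIT groups are Sylow normalisers
-/

set_option autoImplicit false

namespace CfsgLib.CIT

open MulAction CfsgLib.SEmb
open scoped Pointwise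

theorem IsCIT.subgroup {G : Type*} [Group G] (hC : IsCIT G) (M : Subgroup G) : IsCIT M := by
  intro t ht x
  obtain ⟨k, hk⟩ := hC t (by rw [Subgroup.orderOf_coe]; exact ht)
    ⟨((x : M) : G), Subgroup.mem_centralizer_singleton_iff.mpr
      (congrArg Subtype.val (Subgroup.mem_centralizer_singleton_iff.mp x.2))⟩
  exact ⟨k, Subtype.ext (Subtype.ext (by simpa using congrArg Subtype.val hk))⟩

/-- A CIT group whose quotient by `O₂` has even order has an involution outside `O₂`. -/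
theorem exists_invol_notMem_pCore {X : Type*} [Group X] [Finite X] (hC : IsCIT X)
    (heven : ∃ t : X ⧸ Cfsg.pCore 2 X, orderOf t = 2) :
    ∃ t : X, orderOf t = 2 ∧ t ∉ Cfsg.pCore 2 X := by
  haveI := CfsgLib.Solvable.pCore_normal 2 X
  set P := Cfsg.pCore 2 X with hPdef
  have hP : IsPGroup 2 P := CfsgLib.Solvable.pCore_isPGroup 2 X
  have hbot := CfsgLib.Solvable.pCore_quotient_eq_bot (p := 2) P rfl
  obtain ⟨a, ha⟩ := heven
  obtain ⟨z, hz1, hzodd, hz⟩ := Invol.exists_odd_inverted_of_notMem_normal_two ha (fun N hN hNp h => by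
    have h' := CfsgLib.Solvable.le_pCore hN hNp h
    rw [hbot, Subgroup.mem_bot] at h'
    exact Invol.ne_one_of_invol ha h')
  obtain ⟨y0, hy0⟩ := QuotientGroup.mk_surjective z
  obtain ⟨a0, ha0⟩ := QuotientGroup.mk_surjective a
  obtain ⟨k, r, hr, hkr⟩ := Nat.exists_eq_two_pow_mul_odd (orderOf_pos y0).ne'
  obtain ⟨c, hc⟩ : ∃ c, orderOf z ∣ c ∧ 2 ^ k ∣ c + 1 := by
    obtain ⟨c, hc1, hc2⟩ := Nat.chineseRemainder
      ((Nat.coprime_two_left.mpr hzodd).pow_left k).symm 0 (2 ^ k - 1)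
    refine ⟨c, Nat.modEq_zero_iff_dvd.mp hc1, Nat.modEq_zero_iff_dvd.mp ?_⟩
    have := hc2.add_right 1
    rw [Nat.sub_add_cancel (Nat.one_le_two_pow)] at this
    exact this.trans (Nat.modEq_zero_iff_dvd.mpr dvd_rfl)
  -- an element of odd order above `z`
  set y := y0 ^ (c + 1) with hydef
  have hyz : (y : X ⧸ P) = z := by
    rw [hydef, QuotientGroup.mk_pow, hy0, pow_succ, orderOf_dvd_iff_pow_eq_one.mp hc.1, one_mul]
  have hyodd : Odd (orderOf y) := by
    refine hr.of_dvd_nat (orderOf_dvd_of_pow_eq_one ?_)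
    obtain ⟨d, hd⟩ := hc.2
    rw [hydef, ← pow_mul, hd, show 2 ^ k * d * r = 2 ^ k * r * d by ring, ← hkr, pow_mul,
      pow_orderOf_eq_one, one_pow]
  have hy1 : y ≠ 1 := by
    intro h
    rw [h, QuotientGroup.mk_one] at hyz
    exact hz1 hyz.symm
  let H := Subgroup.zpowers y
  have hHodd : Odd (Nat.card H) := by rwa [Nat.card_zpowers]
  have hcop : (Nat.card P).Coprime (Nat.card H) := by
    obtain ⟨n, hn⟩ := IsPGroup.iff_card.mp hP
    rw [hn]
    exact (Nat.coprime_two_left.mpr hHodd).pow_left n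
  obtain ⟨a1, ha1, hinv⟩ : ∃ a1 : X, (a1 : X ⧸ P) = a ∧ a1 * y * a1⁻¹ = y⁻¹ := by
    have hB : H.map (MulAut.conj a0).toMonoidHom ≤ P ⊔ H := by
      rw [Subgroup.map_le_iff_le_comap, Subgroup.zpowers_le, Subgroup.mem_comap,
        MulEquiv.coe_toMonoidHom, MulAut.conj_apply]
      have h1 : a0 * y * a0⁻¹ * y ∈ P := by
        rw [← QuotientGroup.eq_one_iff]
        rw [QuotientGroup.mk_mul, QuotientGroup.mk_mul, QuotientGroup.mk_mul, QuotientGroup.mk_inv, hyz,
          show ((a0 : X ⧸ P)) = a from ha0, show a * z * a⁻¹ = z⁻¹ from hz, inv_mul_cancel]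
      have h2 := mul_mem (Subgroup.mem_sup_left h1 : a0 * y * a0⁻¹ * y ∈ P ⊔ H)
        (Subgroup.mem_sup_right (inv_mem (Subgroup.mem_zpowers y)) : y⁻¹ ∈ P ⊔ H)
      rwa [mul_inv_cancel_right] at h2
    obtain ⟨p, hp, hconj⟩ := CfsgLib.Solvable.exists_conj_eq_of_coprime (N := P) (B := H)
      (B' := H.map (MulAut.conj a0).toMonoidHom)
      (le_top.trans_eq (Subgroup.normalizer_eq_top_iff.mpr inferInstance).symm) hB
      (Subgroup.card_map_of_injective (MulAut.conj a0).injective) hcop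
      (Or.inl (by haveI := hP.isNilpotent; infer_instance))
    refine ⟨p⁻¹ * a0, ?_, ?_⟩
    · rw [QuotientGroup.mk_mul, QuotientGroup.mk_inv, (QuotientGroup.eq_one_iff p).mpr hp, inv_one,
        one_mul, ha0]
    · have hm : a0 * y * a0⁻¹ ∈ (MulAut.conj p • H : Subgroup X) := by
        rw [hconj]
        exact ⟨y, Subgroup.mem_zpowers y, rfl⟩
      obtain ⟨w, hw, hwe⟩ := Subgroup.mem_map.mp hm
      have hw' : p * w * p⁻¹ = a0 * y * a0⁻¹ := hwe
      have hwy : p⁻¹ * a0 * y * (p⁻¹ * a0)⁻¹ = w := by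
        calc p⁻¹ * a0 * y * (p⁻¹ * a0)⁻¹ = p⁻¹ * (a0 * y * a0⁻¹) * p := by group
          _ = w := by rw [← hw']; group
      rw [hwy]
      have h1 : w * y ∈ P := by
        rw [← QuotientGroup.eq_one_iff, ← hwy]
        rw [QuotientGroup.mk_mul, QuotientGroup.mk_mul, QuotientGroup.mk_mul, QuotientGroup.mk_inv,
          QuotientGroup.mk_mul, QuotientGroup.mk_inv, (QuotientGroup.eq_one_iff p).mpr hp, inv_one, one_mul,
          show ((a0 : X ⧸ P)) = a from ha0, hyz, show a * z * a⁻¹ = z⁻¹ from hz, inv_mul_cancel]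
      have h2 : w * y ∈ P ⊓ H := ⟨h1, mul_mem hw (Subgroup.mem_zpowers y)⟩
      rw [Subgroup.inf_eq_bot_of_coprime hcop, Subgroup.mem_bot] at h2
      exact eq_inv_of_mul_eq_one_left h2
  obtain ⟨j, m, hm, hjm⟩ := Nat.exists_eq_two_pow_mul_odd (orderOf_pos a1).ne'
  set a2 := a1 ^ m with ha2def
  have ha2 : (a2 : X ⧸ P) = a := by
    obtain ⟨i, rfl⟩ := hm
    rw [ha2def, QuotientGroup.mk_pow, ha1, pow_succ, pow_mul, pow_two, Invol.mul_self_eq_one ha,
      one_pow, one_mul]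
  have hpowinv : ∀ n : ℕ, a1 ^ n * y * (a1 ^ n)⁻¹ = if Even n then y else y⁻¹ := by
    intro n
    induction n with
    | zero => simp
    | succ n ih =>
      have hinv' : a1 * y⁻¹ * a1⁻¹ = y := by
        calc a1 * y⁻¹ * a1⁻¹ = (a1 * y * a1⁻¹)⁻¹ := by group
          _ = y := by rw [hinv, inv_inv]
      rw [show a1 ^ (n + 1) * y * (a1 ^ (n + 1))⁻¹ = a1 * (a1 ^ n * y * (a1 ^ n)⁻¹) * a1⁻¹ by
        rw [pow_succ']; group, ih]
      rcases Nat.even_or_odd n with hn | hn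
      · rw [if_pos hn, if_neg (by simp [parity_simps, hn]), hinv]
      · rw [if_neg (Nat.not_even_iff_odd.mpr hn), if_pos (by simp [parity_simps, hn]), hinv']
  have ha2j : a2 ^ 2 ^ j = 1 := by
    rw [ha2def, ← pow_mul, mul_comm, ← hjm, pow_orderOf_eq_one]
  refine ⟨a2, Invol.orderOf_eq_two ?_ ?_, ?_⟩
  · intro h
    rw [h, QuotientGroup.mk_one] at ha2
    exact Invol.ne_one_of_invol ha ha2.symm
  · obtain ⟨i, -, hi⟩ := (Nat.dvd_prime_pow Nat.prime_two).1 (orderOf_dvd_of_pow_eq_one ha2j)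
    rcases Nat.lt_or_ge i 2 with hi2 | hi2
    · rw [← pow_two]
      refine orderOf_dvd_iff_pow_eq_one.mp ?_
      rw [hi]
      exact (pow_dvd_pow 2 (by omega : i ≤ 1)).trans (by norm_num)
    · exfalso
      have ho : orderOf (a2 ^ 2 ^ (i - 1)) = 2 := by
        rw [orderOf_pow_of_dvd (by positivity) (hi ▸ pow_dvd_pow 2 (by omega)), hi,
          Nat.pow_div (by omega) two_pos, show i - (i - 1) = 1 by omega, pow_one]
      refine hy1 (eq_one_of_commute_invol hC ho ?_ hyodd)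
      have hev : Even (m * 2 ^ (i - 1)) :=
        Nat.even_mul.mpr (Or.inr (Nat.even_pow.mpr ⟨even_two, by omega⟩))
      have h := hpowinv (m * 2 ^ (i - 1))
      rw [if_pos hev, pow_mul, ← ha2def] at h
      exact mul_inv_eq_iff_eq_mul.mp h
  · intro h
    exact Invol.ne_one_of_invol ha (ha2 ▸ (QuotientGroup.eq_one_iff a2).mpr h)

variable {G : Type*} [Group G] [Finite G]

/-- In a CIT group a strongly embedded subgroup containing a Sylow 2-subgroup `S` and a nontrivial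
normal 2-subgroup makes `S` a trivial intersection subgroup. -/
theorem isTI_of_stronglyEmbedded (hC : IsCIT G) {M : Subgroup G}
    (hM : Cfsg.IsStronglyEmbedded M) (S : Sylow 2 G) (hSM : (S : Subgroup G) ≤ M)
    {J : Subgroup G} (hJ : J ≠ ⊥) (hJp : IsPGroup 2 J) (hJM : J ≤ M)
    (hMJ : M ≤ Subgroup.normalizer (J : Set G)) : IsTI S := by
  haveI := CfsgLib.Solvable.pCore_normal 2 M
  set P := Cfsg.pCore 2 M with hPdef
  have hPp : IsPGroup 2 P := CfsgLib.Solvable.pCore_isPGroup 2 M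
  have hJP : J.subgroupOf M ≤ P :=
    CfsgLib.Solvable.le_pCore (Subgroup.normal_subgroupOf_of_le_normalizer hMJ)
      (hJp.of_equiv (Subgroup.subgroupOfEquivOfLe hJM).symm)
  obtain ⟨t0, ht0, ht0J⟩ : ∃ t : G, orderOf t = 2 ∧ t ∈ J := by
    haveI : Nontrivial J := (Subgroup.nontrivial_iff_ne_bot J).mpr hJ
    obtain ⟨n, hn⟩ := IsPGroup.iff_card.mp hJp
    have h2 : 2 ∣ Nat.card J := by
      have := Finite.one_lt_card (α := J)
      rw [hn] at this ⊢
      exact dvd_pow_self 2 (by rintro rfl; simp at this)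
    obtain ⟨t, ht⟩ := exists_prime_orderOf_dvd_card' 2 h2
    exact ⟨t, by rw [Subgroup.orderOf_coe, ht], t.2⟩
  obtain ⟨g, hg⟩ : ∃ g : G, g ∉ M := by
    by_contra h
    push Not at h
    exact hM.1 ((Subgroup.eq_top_iff' _).mpr h)
  set a : G ⧸ M := QuotientGroup.mk 1
  set b : G ⧸ M := QuotientGroup.mk g
  have hab : a ≠ b := fun e => hg (by simpa using QuotientGroup.eq.mp e)
  let D := stabilizer G a ⊓ stabilizer G b
  have hDodd : Odd (Nat.card D) := odd_card_of_no_invol fun t ht ho =>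
    hab (point_unique hM ho ht.1 ht.2)
  -- every involution of `M` is conjugate to `t0` under `D`
  let f : D → Swap a a := fun d => ⟨d * t0 * (d : G)⁻¹, by rw [Invol.orderOf_conj, ht0],
    (smul_one_eq_iff _).mpr (mul_mem (mul_mem ((smul_one_eq_iff _).mp d.2.1) (hJM ht0J))
      (inv_mem ((smul_one_eq_iff _).mp d.2.1)))⟩
  have hf : Function.Injective f := by
    intro d d' h
    have h' : (d : G) * t0 * (d : G)⁻¹ = (d' : G) * t0 * (d' : G)⁻¹ := congrArg Subtype.val h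
    have hc : Commute t0 ((d : G)⁻¹ * d') := by
      show t0 * ((d : G)⁻¹ * d') = (d : G)⁻¹ * d' * t0
      calc t0 * ((d : G)⁻¹ * d') = (d : G)⁻¹ * ((d : G) * t0 * (d : G)⁻¹) * d' := by group
        _ = (d : G)⁻¹ * d' * t0 := by rw [h']; group
    exact Subtype.ext (inv_mul_eq_one.mp (eq_one_of_commute_invol hC ht0 hc
      (odd_orderOf_of_mem hDodd (mul_mem (inv_mem d.2) d'.2))))
  have hle : Nat.card (Swap a a) ≤ Nat.card D := by
    have hsw : 0 < Nat.card (Swap a b) := by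
      rw [card_swap hM]
      exact Nat.card_pos_iff.mpr ⟨⟨t0, ht0, (smul_one_eq_iff _).mpr (hJM ht0J)⟩, inferInstance⟩
    obtain ⟨⟨u, hu, hua⟩⟩ := (Nat.card_pos_iff.mp hsw).1
    rw [← card_swap hM a b]
    refine Nat.card_le_card_of_injective (fun w : Swap a b => (⟨u * w.1, ?_, ?_⟩ : D)) ?_
    · show (u * w.1) • a = a
      rw [mul_smul, w.2.2, (smul_invol_eq_iff hu a b).mp hua]
    · show (u * w.1) • b = b
      rw [mul_smul, (smul_invol_eq_iff w.2.1 a b).mp w.2.2, hua]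
    · exact fun w w' h => Subtype.ext (mul_left_cancel (congrArg Subtype.val h))
  have hinP : ∀ t : M, orderOf t = 2 → t ∈ P := by
    intro t ht
    obtain ⟨d, hd⟩ := (hf.bijective_of_nat_card_le hle).2
      ⟨t, by rw [Subgroup.orderOf_coe]; exact ht, (smul_one_eq_iff _).mpr t.2⟩
    have hdM : (d : G) ∈ M := (smul_one_eq_iff _).mp d.2.1
    refine hJP (Subgroup.mem_subgroupOf.mpr ?_)
    rw [← (show (d : G) * t0 * (d : G)⁻¹ = t from congrArg Subtype.val hd)]
    exact (Subgroup.mem_normalizer_iff.mp (hMJ hdM) t0).mp ht0J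
  have hodd : Odd (Nat.card (M ⧸ P)) := by
    rw [← Nat.not_even_iff_odd]
    intro he
    obtain ⟨t, ht, htP⟩ := exists_invol_notMem_pCore (hC.subgroup M)
      (exists_prime_orderOf_dvd_card' 2 (even_iff_two_dvd.mp he))
    exact htP (hinP t ht)
  have hSP : ∀ x ∈ (S : Subgroup G), ∀ hx : x ∈ M, (⟨x, hx⟩ : M) ∈ P := by
    intro x hxS hx
    rw [← QuotientGroup.eq_one_iff, ← orderOf_eq_one_iff]
    obtain ⟨k, hk⟩ := IsPGroup.iff_orderOf.mp S.2 ⟨x, hxS⟩
    rw [Subgroup.orderOf_mk] at hk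
    have h1 := orderOf_map_dvd (QuotientGroup.mk' P) (⟨x, hx⟩ : M)
    rw [Subgroup.orderOf_mk, hk, QuotientGroup.mk'_apply] at h1
    obtain ⟨i, -, hi⟩ := (Nat.dvd_prime_pow Nat.prime_two).1 h1
    have h2 := hodd.of_dvd_nat (orderOf_dvd_natCard (QuotientGroup.mk (⟨x, hx⟩ : M) : M ⧸ P))
    rw [hi] at h2 ⊢
    rw [eq_zero_of_odd_two_pow h2, pow_zero]
  have hPS : P.map M.subtype = (S : Subgroup G) :=
    S.3 (hPp.map _) fun x hx => ⟨⟨x, hSM hx⟩, hSP x hx (hSM hx), rfl⟩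
  have hMN : M ≤ Subgroup.normalizer ((S : Subgroup G) : Set G) := by
    intro m hm
    rw [← hPS, Subgroup.mem_normalizer_iff]
    intro x
    constructor
    · rintro ⟨p, hp, rfl⟩
      exact ⟨⟨m, hm⟩ * p * ⟨m, hm⟩⁻¹, (inferInstance : P.Normal).conj_mem p hp _, rfl⟩
    · rintro ⟨p, hp, he⟩
      refine ⟨⟨m, hm⟩⁻¹ * p * ⟨m, hm⟩, ?_, ?_⟩
      · simpa using (inferInstance : P.Normal).conj_mem p hp (⟨m, hm⟩⁻¹)
      · have he' : (p : G) = m * x * m⁻¹ := he
        simp [he', mul_assoc]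
  intro h hh x hx hx'
  by_contra hx1
  obtain ⟨k, hk⟩ := IsPGroup.iff_orderOf.mp S.2 ⟨x, hx⟩
  rw [Subgroup.orderOf_mk] at hk
  rcases Nat.eq_zero_or_pos k with rfl | hk0
  · exact hx1 (by simpa using hk)
  have hhM : h ∉ M := fun hm => hh (hMN hm)
  set t := x ^ 2 ^ (k - 1)
  have ht : orderOf t = 2 := by
    rw [orderOf_pow_of_dvd (by positivity) (hk ▸ pow_dvd_pow 2 (by omega)), hk,
      Nat.pow_div (by omega) two_pos, show k - (k - 1) = 1 by omega, pow_one]
  have htM : h⁻¹ * t * h⁻¹⁻¹ ∈ M := by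
    rw [inv_inv]
    have h1 : h⁻¹ * t * h = (h⁻¹ * x * h) ^ 2 ^ (k - 1) := by
      have := conj_pow (a := h⁻¹) (b := x) (i := 2 ^ (k - 1))
      rw [inv_inv] at this
      exact this.symm
    rw [h1]
    exact pow_mem (hSM hx') _
  exact hhM (inv_mem_iff.mp
    ((Invol.isStronglyEmbedded_iff_fusion hM.1 hM.2.1).mp hM t (pow_mem (hSM hx) _) ht h⁻¹ htM))

end CfsgLib.CIT
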