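import Mathlib.GroupTheory.Nilpotent
import Mathlib.GroupTheory.Sylow
import Cfsg.Agent.Lib.CIT.Embedded
import Cfsg.Agent.Lib.Fusion.ZJCenter
import Cfsg.Agent.Lib.LocalStr.Basic

/-!
# Without an offending 2-local the Sylow 2-subgroup of a CIT group is a TI subgroup
-/

set_option autoImplicit false

namespace CfsgLib.CIT

open CfsgLib.PLoc

variable {G : Type*} [Group G] [Finite G]

theorem joinMaxAb_ne_bot' {U : Subgroup G} (hU : U ≠ ⊥) : joinMaxAb 0 U ≠ ⊥ := by
  intro h
  obtain ⟨A, hA⟩ := exists_isMaxAb 0 U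
  obtain ⟨⟨x, hx⟩, hx1⟩ := Subgroup.ne_bot_iff_exists_ne_one.mp hU
  have hA1 : A = ⊥ := le_bot_iff.mp (h ▸ le_joinMaxAb hA)
  have := hA.max (Subgroup.zpowers x) (Subgroup.zpowers_le.mpr hx) inferInstance
    (fun a _ => pow_zero a)
  rw [hA1, Subgroup.card_bot, Nat.card_zpowers] at this
  exact hx1 (Subtype.ext (orderOf_eq_one_iff.mp (le_antisymm this (orderOf_pos x))))

theorem normalizer_le_normalizer_join (U : Subgroup G) :
    Subgroup.normalizer (U : Set G) ≤ Subgroup.normalizer (joinMaxAb 0 U : Set G) := by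
  intro g hg
  have hU : U.map (MulAut.conj g).toMonoidHom = U := by
    ext x
    rw [CfsgLib.Invol.mem_map_conj_iff, Subgroup.mem_normalizer_iff'.mp hg]
    simp [mul_assoc]
  have h := CfsgLib.ZJCenter.joinMaxAb_map (f := (MulAut.conj g).toMonoidHom)
    (MulAut.conj g).injective 0 U
  rw [hU] at h
  rw [Subgroup.mem_normalizer_iff]
  intro x
  conv_rhs => rw [← h]
  rw [CfsgLib.Invol.mem_map_conj_iff]
  simp [mul_assoc]

theorem isPGroup_sup_of_le_normalizer {T Q : Subgroup G} (hT : IsPGroup 2 T) (hQ : IsPGroup 2 Q)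
    (h : T ≤ Subgroup.normalizer (Q : Set G)) : IsPGroup 2 (T ⊔ Q : Subgroup G) :=
  hT.to_sup_of_normal_right' hQ h

/-- If `J(R)` is central to no offender, every 2-local normalises the `J` of its Sylow subgroup. -/
theorem local_le_normalizer_join (hno : ∀ Q R A : Subgroup G, ¬ IsOffending Q R A)
    {Q R : Subgroup G} (hQ : IsPGroup 2 Q) (hQ1 : Q ≠ ⊥)
    (hR : IsSylowIn (Subgroup.normalizer (Q : Set G)) R) :
    Subgroup.normalizer (Q : Set G) ≤ Subgroup.normalizer (joinMaxAb 0 R : Set G) := by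
  set N := Subgroup.normalizer (Q : Set G) with hN
  set D := Cfsg.pCoreOf 2 N
  have hDN : N ≤ Subgroup.normalizer (D : Set G) := CfsgLib.LocalStr.le_normalizer_pCoreOf N
  have hD : IsPGroup 2 D := CfsgLib.LocalStr.isPGroup_pCoreOf N
  have hDR : D ≤ R := by
    have hsup := isPGroup_sup_of_le_normalizer hR.pgroup hD (hR.le.trans hDN)
    have := Subgroup.eq_of_le_of_card_ge (le_sup_left : R ≤ R ⊔ D)
      (hR.max _ (sup_le hR.le (CfsgLib.LocalStr.pCoreOf_le N)) hsup)
    exact le_sup_right.trans this.ge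
  have hin : ∀ A, IsMaxAb 0 R A → A ≤ D := fun A hA => by
    by_contra h
    exact hno Q R A ⟨hQ, hQ1, hR, hA, h⟩
  have heq : joinMaxAb 0 R = joinMaxAb 0 D := by
    obtain ⟨A, hA⟩ := exists_isMaxAb 0 R
    refine le_antisymm (sSup_le fun B hB => le_joinMaxAb
      ⟨hin B hB, hB.comm, hB.exp, fun C hC h1 h2 => hB.max C (hC.trans hDR) h1 h2⟩)
      (sSup_le fun B hB => le_joinMaxAb ⟨hB.le.trans hDR, hB.comm, hB.exp, fun C hC h1 h2 =>
        (hA.max C hC h1 h2).trans (hB.max A (hin A hA) hA.comm hA.exp)⟩)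
  rw [heq]
  exact hDN.trans (normalizer_le_normalizer_join D)

/-- Either some 2-local has an offender or the Sylow 2-subgroups are TI subgroups. -/
theorem isTI_of_forall_not_isOffending [IsSimpleGroup G] (hab : ∃ a b : G, a * b ≠ b * a)
    (hC : IsCIT G) (S : Sylow 2 G) (hev : 2 ∣ Nat.card G)
    (hno : ∀ Q R A : Subgroup G, ¬ IsOffending Q R A) : IsTI S := by
  classical
  set J := joinMaxAb 0 (S : Subgroup G) with hJdef
  have hS1 : (S : Subgroup G) ≠ ⊥ := S.ne_bot_of_dvd_card hev
  have hJ1 : J ≠ ⊥ := joinMaxAb_ne_bot' hS1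
  have hJS : J ≤ (S : Subgroup G) := joinMaxAb_le _ _
  set M := Subgroup.normalizer (J : Set G) with hMdef
  have hSM : (S : Subgroup G) ≤ M :=
    Subgroup.le_normalizer.trans (normalizer_le_normalizer_join _)
  have hMne : M ≠ ⊤ := by
    intro htop
    rcases (Subgroup.normalizer_eq_top_iff.mp htop).eq_bot_or_eq_top with h | h
    · exact hJ1 h
    · obtain ⟨a, b, hab⟩ := hab
      have hp : IsPGroup 2 G := by
        have h2 := S.2
        have hS : (S : Subgroup G) = ⊤ := top_le_iff.mp (h.symm.le.trans hJS)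
        rw [hS] at h2
        exact h2.of_equiv Subgroup.topEquiv
      have : Nontrivial (Subgroup.center G) := hp.center_nontrivial
      rcases (inferInstance : (Subgroup.center G).Normal).eq_bot_or_eq_top with hz | hz
      · exact (Subgroup.nontrivial_iff_ne_bot _).mp this hz
      · exact hab ((Subgroup.mem_center_iff.mp (hz ▸ Subgroup.mem_top a)) b).symm
  let P : Set (Subgroup G × Subgroup G) := {p | IsPGroup 2 p.1 ∧ p.1 ≠ ⊥ ∧ p.1 ≤ M ∧
    ¬ Subgroup.normalizer (p.1 : Set G) ≤ M ∧
    IsPGroup 2 p.2 ∧ p.2 ≤ M ⊓ Subgroup.normalizer (p.1 : Set G)}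
  have hloc : ∀ Q : Subgroup G, IsPGroup 2 Q → Q ≠ ⊥ → Q ≤ M →
      Subgroup.normalizer (Q : Set G) ≤ M := by
    by_contra hcon
    push Not at hcon
    obtain ⟨Q0, h1, h2, h3, h4⟩ := hcon
    obtain ⟨⟨Q, T⟩, ⟨hQ, hQ1, hQM, hQn, hT, hTle⟩, hmax⟩ :=
      Set.exists_max_image P (fun p => Nat.card p.2) (Set.toFinite P)
        ⟨(Q0, Q0), h1, h2, h3, h4, h1, le_inf h3 Subgroup.le_normalizer⟩
    dsimp only at hQ hQ1 hQM hQn hT hTle
    have hQT : Q ≤ T := by
      have hsup := isPGroup_sup_of_le_normalizer hT hQ (hTle.trans inf_le_right)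
      have := hmax (Q, T ⊔ Q) ⟨hQ, hQ1, hQM, hQn, hsup,
        sup_le hTle (le_inf hQM Subgroup.le_normalizer)⟩
      exact le_sup_right.trans (Subgroup.eq_of_le_of_card_ge (le_sup_left : T ≤ T ⊔ Q) this).ge
    have hT1 : T ≠ ⊥ := fun h => hQ1 (le_bot_iff.mp (h ▸ hQT))
    have hTM : T ≤ M := hTle.trans inf_le_left
    -- a Sylow subgroup `S'` of `G` inside `M` above `T`, with the same `J`
    obtain ⟨P', hP'⟩ := (hT.of_equiv (Subgroup.subgroupOfEquivOfLe hTM).symm).exists_le_sylow
    obtain ⟨m, hm⟩ := MulAction.exists_smul_eq M (S.subtype hSM) P'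
    set S' : Subgroup G := (S : Subgroup G).map (MulAut.conj (m : G)).toMonoidHom
    have hS'p : IsPGroup 2 S' := S.2.map _
    have hTS' : T ≤ S' := by
      intro t ht
      have h1 : (⟨t, hTM ht⟩ : M) ∈ P' := hP' (Subgroup.mem_subgroupOf.mpr ht)
      rw [← hm] at h1
      obtain ⟨s, hs, hse⟩ := h1
      exact ⟨s, hs, congrArg Subtype.val hse⟩
    have hJ' : joinMaxAb 0 S' = J := by
      rw [← CfsgLib.ZJCenter.joinMaxAb_map (f := (MulAut.conj (m : G)).toMonoidHom)
        (MulAut.conj (m : G)).injective 0 (S : Subgroup G), ← hJdef]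
      ext x
      rw [CfsgLib.Invol.mem_map_conj_iff, (Subgroup.mem_normalizer_iff'.mp m.2)]
      simp [mul_assoc]
    have hS'M : S' ≤ M := by
      have h := Subgroup.le_normalizer.trans (normalizer_le_normalizer_join (U := S'))
      rwa [hJ'] at h
    -- bigger pairs are impossible
    have hbig : ∀ Q' : Subgroup G, IsPGroup 2 Q' → Q' ≠ ⊥ → Q' ≤ M → ∀ T' : Subgroup G,
        IsPGroup 2 T' → T' ≤ M ⊓ Subgroup.normalizer (Q' : Set G) →
        Nat.card T < Nat.card T' → Subgroup.normalizer (Q' : Set G) ≤ M := by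
      intro Q' a b c T' d e f
      by_contra h
      exact absurd (hmax (Q', T') ⟨a, b, c, h, d, e⟩) (not_le.mpr f)
    by_cases hTS : T = S'
    · have hR : IsSylowIn (Subgroup.normalizer (Q : Set G)) T := by
        refine ⟨hTle.trans inf_le_right, hT, fun P hP hPp => ?_⟩
        obtain ⟨P₂, hP₂⟩ := hPp.exists_le_sylow
        calc Nat.card P ≤ Nat.card (P₂ : Subgroup G) := Subgroup.card_le_of_le hP₂
          _ = Nat.card (S : Subgroup G) := P₂.card_eq_multiplicity.trans S.card_eq_multiplicity.symm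
          _ = Nat.card T := by
            rw [hTS]; exact (Subgroup.card_map_of_injective (MulAut.conj (m : G)).injective).symm
      have h := local_le_normalizer_join hno hQ hQ1 hR
      rw [hTS, hJ'] at h
      exact hQn h
    · have hlt : T < S' := lt_of_le_of_ne hTS' hTS
      haveI := hS'p.isNilpotent
      set T0 := S' ⊓ Subgroup.normalizer (T : Set G)
      have hT0p : IsPGroup 2 T0 := hS'p.to_le inf_le_left
      have hT0 : Nat.card T < Nat.card T0 := by
        have hne : T.subgroupOf S' < ⊤ := lt_top_iff_ne_top.mpr fun h =>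
          hlt.not_ge (Subgroup.subgroupOf_eq_top.mp h)
        obtain ⟨x, hxn, hxT⟩ :=
          SetLike.exists_of_lt (Group.normalizerCondition_of_isNilpotent _ hne)
        have hxT0 : (x : G) ∈ T0 := by
          refine ⟨x.2, Subgroup.mem_normalizer_iff.mpr fun t => ?_⟩
          have key := Subgroup.mem_normalizer_iff.mp hxn
          constructor
          · intro ht
            exact (key ⟨t, hTS' ht⟩).mp ht
          · intro ht
            have ht' : t ∈ S' := by
              have := mul_mem (mul_mem (inv_mem x.2) (hTS' ht)) x.2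
              simpa [mul_assoc] using this
            exact (key ⟨t, ht'⟩).mpr ht
        have hle : T ≤ T0 := le_inf hTS' Subgroup.le_normalizer
        refine lt_of_le_of_ne (Subgroup.card_le_of_le hle) fun h => hxT ?_
        rw [Subgroup.mem_subgroupOf, Subgroup.eq_of_le_of_card_ge hle h.ge]
        exact hxT0
      have hNT : Subgroup.normalizer (T : Set G) ≤ M :=
        hbig T hT hT1 hTM T0 hT0p (le_inf (inf_le_left.trans hS'M) inf_le_right) hT0
      -- `T` is a Sylow subgroup of `N(Q)`
      have hR : IsSylowIn (Subgroup.normalizer (Q : Set G)) T := by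
        refine ⟨hTle.trans inf_le_right, hT, fun P hP hPp => ?_⟩
        obtain ⟨U, hU⟩ := (hT.of_equiv (Subgroup.subgroupOfEquivOfLe
          (hTle.trans inf_le_right : T ≤ Subgroup.normalizer (Q : Set G))).symm).exists_le_sylow
        obtain ⟨U', hU'⟩ :=
          (hPp.of_equiv (Subgroup.subgroupOfEquivOfLe hP).symm).exists_le_sylow
        set V := (U : Subgroup _).map (Subgroup.normalizer (Q : Set G)).subtype
        have hVp : IsPGroup 2 V := U.2.map _
        have hTV : T ≤ V := fun t ht =>
          ⟨⟨t, (hTle ht).2⟩, hU (Subgroup.mem_subgroupOf.mpr ht), rfl⟩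
        have hPV : Nat.card P ≤ Nat.card V := by
          rw [Subgroup.card_map_of_injective Subtype.val_injective,
            ← Nat.card_congr (Subgroup.subgroupOfEquivOfLe hP).toEquiv,
            U.card_eq_multiplicity, ← U'.card_eq_multiplicity]
          exact Subgroup.card_le_of_le hU'
        by_contra hcard
        have hTV' : T < V := lt_of_le_of_ne hTV fun h => by
          rw [h] at hcard; exact hcard hPV
        haveI := hVp.isNilpotent
        have hne : T.subgroupOf V < ⊤ := lt_top_iff_ne_top.mpr fun h =>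
          hTV'.not_ge (Subgroup.subgroupOf_eq_top.mp h)
        obtain ⟨x, hxn, hxT⟩ :=
          SetLike.exists_of_lt (Group.normalizerCondition_of_isNilpotent _ hne)
        have hxN : (x : G) ∈ Subgroup.normalizer (T : Set G) := by
          refine Subgroup.mem_normalizer_iff.mpr fun t => ?_
          have key := Subgroup.mem_normalizer_iff.mp hxn
          constructor
          · intro ht
            exact (key ⟨t, hTV ht⟩).mp ht
          · intro ht
            have ht' : t ∈ V := by
              have := mul_mem (mul_mem (inv_mem x.2) (hTV ht)) x.2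
              simpa [mul_assoc] using this
            exact (key ⟨t, ht'⟩).mpr ht
        have hxp : IsPGroup 2 (V ⊓ Subgroup.normalizer (T : Set G) : Subgroup G) :=
          hVp.to_le inf_le_left
        have := hmax (Q, V ⊓ Subgroup.normalizer (T : Set G)) ⟨hQ, hQ1, hQM, hQn, hxp,
          le_inf (inf_le_right.trans hNT) (inf_le_left.trans (Subgroup.map_subtype_le _))⟩
        have he := Subgroup.eq_of_le_of_card_ge (le_inf hTV Subgroup.le_normalizer) this
        exact hxT (Subgroup.mem_subgroupOf.mpr (he ▸ (⟨x.2, hxN⟩ : (x : G) ∈ V ⊓ _)))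
      have h := local_le_normalizer_join hno hQ hQ1 hR
      refine hQn (h.trans ?_)
      exact hbig (joinMaxAb 0 T) (hT.to_le (joinMaxAb_le _ _)) (joinMaxAb_ne_bot' hT1)
        ((joinMaxAb_le _ _).trans hTM) T0 hT0p (le_inf (inf_le_left.trans hS'M)
          (inf_le_right.trans (normalizer_le_normalizer_join T))) hT0
  have hSEmb : Cfsg.IsStronglyEmbedded M := by
    refine (CfsgLib.Invol.isStronglyEmbedded_iff_normalizers hMne (S.subtype hSM) ?_).mpr ?_
    · intro h
      exact hS1 (le_bot_iff.mp fun x hx => by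
        have : (⟨x, hSM hx⟩ : M) ∈ (⊥ : Subgroup M) := h ▸ Subgroup.mem_subgroupOf.mpr hx
        exact congrArg Subtype.val (Subgroup.mem_bot.mp this))
    · intro X hX hX1
      refine hloc _ ((S.2.of_equiv (Subgroup.subgroupOfEquivOfLe hSM).symm).to_le hX |>.map _)
        ?_ (Subgroup.map_subtype_le X)
      exact fun h => hX1 ((Subgroup.map_eq_bot_iff_of_injective X Subtype.val_injective).mp h)
  exact isTI_of_stronglyEmbedded hC hSEmb S hSM hJ1 (S.2.to_le hJS) (Subgroup.le_normalizer)
    le_rfl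

end CfsgLib.CIT
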