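import Mathlib.LinearAlgebra.Matrix.ProjectiveSpecialLinearGroup
import Cfsg.Prelude.Def_Exceptional
import Cfsg.Agent.Lib.CIT.Downward
import Cfsg.Agent.S0340
import Cfsg.Agent.S0205

/-!
# Assembly of the classification of simple CIT groups

`Conclusion` is the list of the classification; `classification_of` derives it from the three
branch theorems.
-/

set_option autoImplicit false

namespace CfsgLib.CIT

/-- The list of simple CIT groups. -/
def Conclusion (G : Type*) [Group G] : Prop :=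
  (∃ (F : Type) (_ : Field F) (_ : Fintype F),
      (Fintype.card F = 9 ∨ (∃ n : ℕ, Fintype.card F = 2 ^ n) ∨
        ((Fintype.card F).Prime ∧ ∃ k : ℕ, Fintype.card F = 2 ^ k + 1 ∨ Fintype.card F + 1 = 2 ^ k)) ∧
      Nonempty (G ≃* Matrix.ProjectiveSpecialLinearGroup (Fin 2) F)) ∨
  (∃ (F : Type) (_ : Field F) (_ : Fintype F), Fintype.card F = 4 ∧
      Nonempty (G ≃* Matrix.ProjectiveSpecialLinearGroup (Fin 3) F)) ∨
  Cfsg.IsSuzuki G

theorem two_dvd_card {G : Type*} [Group G] [Finite G] [IsSimpleGroup G]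
    (hab : ∃ a b : G, a * b ≠ b * a) : 2 ∣ Nat.card G := by
  by_contra h
  have hsolv := Cfsg.Agent.S0205.result (G := G)
    (Nat.not_even_iff_odd.mp (fun he => h (even_iff_two_dvd.mp he)))
  obtain ⟨a, b, hab⟩ := hab
  exact hab (IsSimpleGroup.comm_iff_isSolvable.mpr hsolv a b)

/-- The answers coming from a natural 2-local. -/
def NonTI (G : Type*) [Group G] : Prop :=
  (∃ (F : Type) (_ : Field F) (_ : Fintype F),
      (Fintype.card F = 9 ∨ (∃ n : ℕ, Fintype.card F = 2 ^ n) ∨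
        ((Fintype.card F).Prime ∧ ∃ k : ℕ, Fintype.card F = 2 ^ k + 1 ∨ Fintype.card F + 1 = 2 ^ k)) ∧
      Nonempty (G ≃* Matrix.ProjectiveSpecialLinearGroup (Fin 2) F)) ∨
  (∃ (F : Type) (_ : Field F) (_ : Fintype F), Fintype.card F = 4 ∧
      Nonempty (G ≃* Matrix.ProjectiveSpecialLinearGroup (Fin 3) F))

theorem nonTI_or_exists_isTI_of {G : Type*} [Group G] [Finite G] [IsSimpleGroup G]
    (hab : ∃ a b : G, a * b ≠ b * a) (hC : IsCIT G)
    (hlocal : ∀ Q R A : Subgroup G, IsOffending Q R A →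
      ∃ (V A' : Subgroup G) (q : ℕ), NaturalLocal V A' q)
    (htwo : ∀ V A : Subgroup G, NaturalLocal V A 2 → NonTI G)
    (hlarge : ∀ (V A : Subgroup G) (q : ℕ), NaturalLocal V A q → 2 < q → NonTI G) :
    NonTI G ∨ ∃ S : Sylow 2 G, IsTI S := by
  by_cases hoff : ∃ Q R A : Subgroup G, IsOffending Q R A
  · obtain ⟨Q, R, A, h⟩ := hoff
    obtain ⟨V, A', q, hn⟩ := hlocal Q R A h
    rcases hn.two_le.eq_or_lt with h2 | h2
    · exact Or.inl (htwo V A' (h2 ▸ hn))
    · exact Or.inl (hlarge V A' q hn h2)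
  · push Not at hoff
    obtain ⟨S⟩ : Nonempty (Sylow 2 G) := inferInstance
    exact Or.inr ⟨S, isTI_of_forall_not_isOffending hab hC S (two_dvd_card hab) hoff⟩

theorem classification_of {G : Type*} [Group G] [Finite G] [IsSimpleGroup G]
    (hab : ∃ a b : G, a * b ≠ b * a) (hC : IsCIT G)
    (hcut : ∀ (F : Type) (_ : Field F) (_ : Fintype F),
      Nonempty (G ≃* Matrix.ProjectiveSpecialLinearGroup (Fin 2) F) →
      (Fintype.card F = 9 ∨ (∃ n : ℕ, Fintype.card F = 2 ^ n) ∨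
        ((Fintype.card F).Prime ∧ ∃ k : ℕ, Fintype.card F = 2 ^ k + 1 ∨ Fintype.card F + 1 = 2 ^ k)))
    (hlocal : ∀ Q R A : Subgroup G, IsOffending Q R A →
      ∃ (V A' : Subgroup G) (q : ℕ), NaturalLocal V A' q)
    (htwo : ∀ V A : Subgroup G, NaturalLocal V A 2 → NonTI G)
    (hlarge : ∀ (V A : Subgroup G) (q : ℕ), NaturalLocal V A q → 2 < q → NonTI G) :
    Conclusion G := by
  rcases nonTI_or_exists_isTI_of hab hC hlocal htwo hlarge with (h | h) | ⟨S, hTI⟩
  · exact Or.inl h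
  · exact Or.inr (Or.inl h)
  · rcases Cfsg.Agent.S0340.result
        (isZassenhausGroup_of_isTI hab (two_dvd_card hab) hC S hTI) with ⟨F, hF, hF', he⟩ | hS
    · exact Or.inl ⟨F, hF, hF', hcut F hF hF' he, he⟩
    · exact Or.inr (Or.inr hS)

end CfsgLib.CIT
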