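import Mathlib.Algebra.BigOperators.Ring.Nat
import Cfsg.Agent.Lib.PSL2Sub.Maximal
import Cfsg.Agent.Lib.HalfTransitive.Imprimitive
import Cfsg.Agent.Lib.CIT.Main

/-!
# The projective special linear groups of degree two that are CIT groups
-/

set_option autoImplicit false

namespace CfsgLib.CIT

open Matrix

theorem eq_one_of_pow_add_one_eq_two_pow {q d j : ℕ} (hq : q.Prime) (hq2 : q ≠ 2) (hd : d ≠ 0)
    (h : q ^ d + 1 = 2 ^ j) : d = 1 := by
  have hodd : Odd q := hq.odd_of_ne_two hq2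
  have hq1 := hq.two_le
  have hself : q ≤ q ^ d := Nat.le_self_pow hd q
  have hj : 2 ≤ j := by
    rcases (show j = 0 ∨ j = 1 ∨ 2 ≤ j by omega) with rfl | rfl | hj
    · simp only [pow_zero] at h; omega
    · simp only [pow_one] at h; omega
    · exact hj
  have h4 : 4 ∣ 2 ^ j := Dvd.dvd.trans (by norm_num) (Nat.pow_dvd_pow 2 hj)
  rcases Nat.even_or_odd' d with ⟨e, rfl | rfl⟩
  · exfalso
    obtain ⟨i, hi⟩ := hodd.pow (n := e)
    have hsq : q ^ (2 * e) = 4 * (i * i + i) + 1 := by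
      rw [mul_comm 2 e, pow_mul, hi]; ring
    omega
  · set S := ∑ i ∈ Finset.range (2 * e + 1), (-(q : ℤ)) ^ i with hSdef
    have h1 : S * ((q : ℤ) + 1) = (q : ℤ) ^ (2 * e + 1) + 1 := by
      have h2 := geom_sum_mul (-(q : ℤ)) (2 * e + 1)
      rw [← hSdef, (odd_two_mul_add_one e).neg_pow] at h2
      linarith
    have hdvd : S.natAbs ∣ 2 ^ j := by
      refine ⟨q + 1, ?_⟩
      have h3 := congrArg Int.natAbs h1
      rw [Int.natAbs_mul,
        show ((q : ℤ) + 1) = ((q + 1 : ℕ) : ℤ) by push_cast; rfl,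
        show ((q : ℤ) ^ (2 * e + 1) + 1) = ((q ^ (2 * e + 1) + 1 : ℕ) : ℤ) by push_cast; rfl,
        Int.natAbs_natCast, Int.natAbs_natCast, h] at h3
      exact h3.symm
    have hSodd : Odd S := by
      have hterm : ∀ i, Odd ((-(q : ℤ)) ^ i) := fun i => ((Int.odd_coe_nat q).mpr hodd).neg.pow
      rw [hSdef]
      clear_value S
      clear h1 hdvd hSdef S h h4 hd hself
      induction e with
      | zero => simp
      | succ e ih =>
        rw [show 2 * (e + 1) + 1 = 2 * e + 1 + 1 + 1 by ring, Finset.sum_range_succ,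
          Finset.sum_range_succ]
        exact (ih.add_odd (hterm _)).add_odd (hterm _)
    obtain ⟨a, -, ha⟩ := (Nat.dvd_prime_pow Nat.prime_two).mp hdvd
    have hS' : Odd S.natAbs := Int.natAbs_odd.mpr hSodd
    rw [ha] at hS'
    obtain rfl : a = 0 := eq_zero_of_odd_two_pow hS'
    have h3 := congrArg Int.natAbs h1
    rw [Int.natAbs_mul, ha, pow_zero, one_mul,
      show ((q : ℤ) + 1) = ((q + 1 : ℕ) : ℤ) by push_cast; rfl,
      show ((q : ℤ) ^ (2 * e + 1) + 1) = ((q ^ (2 * e + 1) + 1 : ℕ) : ℤ) by push_cast; rfl,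
      Int.natAbs_natCast, Int.natAbs_natCast] at h3
    exact Nat.pow_right_injective hq1 (by
      show q ^ (2 * e + 1) = q ^ 1
      rw [pow_one]; omega)

/-- An element of even order of a CIT group has 2-power order. -/
theorem exists_orderOf_eq_two_pow {X : Type*} [Group X] [Finite X] (hC : IsCIT X) {c : X}
    (hc : Even (orderOf c)) : ∃ k, orderOf c = 2 ^ k := by
  obtain ⟨i, hi⟩ := hc
  have hpos := orderOf_pos c
  have ho : orderOf (c ^ i) = 2 := by
    rw [orderOf_pow_of_dvd (by omega) ⟨2, by omega⟩, hi, show i + i = 2 * i by omega,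
      Nat.mul_div_cancel _ (by omega)]
  obtain ⟨k, hk⟩ := IsPGroup.iff_orderOf.mp (hC _ ho)
    ⟨c, Subgroup.mem_centralizer_singleton_iff.mpr ((Commute.refl c).pow_right i).eq⟩
  rw [Subgroup.orderOf_mk] at hk
  exact ⟨k, hk⟩

theorem IsCIT.of_mulEquiv {X Y : Type*} [Group X] [Group Y] (e : X ≃* Y) (hC : IsCIT X) :
    IsCIT Y := by
  intro t ht x
  obtain ⟨k, hk⟩ := hC (e.symm t) (by rw [MulEquiv.orderOf_eq]; exact ht)
    ⟨e.symm x, Subgroup.mem_centralizer_singleton_iff.mpr (by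
      rw [← map_mul, ← map_mul, Subgroup.mem_centralizer_singleton_iff.mp x.2])⟩
  exact ⟨k, Subtype.ext (by
    have := congrArg (fun z => e (Subtype.val z)) hk
    simpa using this)⟩

theorem psl_two_card {G : Type*} [Group G] (hC : IsCIT G) (F : Type) [Field F] [Fintype F]
    (he : Nonempty (G ≃* Matrix.ProjectiveSpecialLinearGroup (Fin 2) F)) :
    (Fintype.card F = 9 ∨ (∃ n : ℕ, Fintype.card F = 2 ^ n) ∨
      ((Fintype.card F).Prime ∧ ∃ k : ℕ, Fintype.card F = 2 ^ k + 1 ∨ Fintype.card F + 1 = 2 ^ k)) := by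
  classical
  obtain ⟨φ⟩ := he
  have hX := hC.of_mulEquiv φ
  obtain ⟨p, hpF⟩ := CharP.exists F
  haveI : Fact p.Prime := ⟨CharP.char_is_prime F p⟩
  obtain ⟨n, hp, hn⟩ := FiniteField.card F p
  rcases eq_or_ne p 2 with rfl | hp2
  · exact Or.inr (Or.inl ⟨n, hn⟩)
  have hq : Odd (Fintype.card F) := hn ▸ (hp.odd_of_ne_two hp2).pow
  obtain ⟨i, hi⟩ := hq
  have hq3 : 3 ≤ Fintype.card F := by
    rw [hn]
    exact le_trans (by have := hp.two_le; omega) (Nat.le_self_pow n.pos.ne' p)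
  have hgcd : Nat.gcd 2 (Fintype.card F - 1) = 2 := Nat.gcd_eq_left ⟨i, by omega⟩
  rcases Nat.even_or_odd i with hie | hio
  · -- the split torus
    obtain ⟨τ, hτ4, hτ⟩ := CfsgLib.SL2Trace.exists_isotropic_trace (F := F) (by
      obtain ⟨j, hj⟩ := hie; omega)
    obtain ⟨c, -, hc, -⟩ := CfsgLib.PSL2Sub.exists_torus τ hτ4 (Fintype.card F - 1)
      ((CfsgLib.SL2Trace.card_centralizer_comp τ hτ4).1 hτ) rfl
    rw [hgcd, show (Fintype.card F - 1) / 2 = i by omega] at hc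
    obtain ⟨k, hk⟩ := exists_orderOf_eq_two_pow hX (c := c) (hc ▸ hie)
    have h : p ^ (n : ℕ) = 2 ^ (k + 1) + 1 := by
      rw [← hn, pow_succ, ← hk, hc]; omega
    rcases CfsgLib.HalfTransitive.pow_eq_two_pow_succ hp hp2 n.pos.ne' h with h1 | h9
    · exact Or.inr (Or.inr ⟨by rw [hn, h1, pow_one]; exact hp, k + 1, Or.inl (hn.trans h)⟩)
    · exact Or.inl (hn.trans h9)
  · -- the non-split torus
    obtain ⟨τ, hτ⟩ := CfsgLib.SL2Trace.exists_anisotropic_trace (F := F)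
    have hτ4 : τ ^ 2 ≠ 4 := fun h => hτ (CfsgLib.SL2Trace.exists_root_of_sq_eq_four τ h)
    obtain ⟨c, -, hc, -⟩ := CfsgLib.PSL2Sub.exists_torus τ hτ4 (Fintype.card F + 1)
      ((CfsgLib.SL2Trace.card_centralizer_comp τ hτ4).2 hτ) (by omega)
    rw [hgcd, show (Fintype.card F + 1) / 2 = i + 1 by omega] at hc
    obtain ⟨k, hk⟩ := exists_orderOf_eq_two_pow hX (c := c) (hc ▸ hio.add_one)
    have h : p ^ (n : ℕ) + 1 = 2 ^ (k + 1) := by
      rw [← hn, pow_succ, ← hk, hc]; omega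
    exact Or.inr (Or.inr ⟨by rw [hn, eq_one_of_pow_add_one_eq_two_pow hp hp2 n.pos.ne' h, pow_one]
                             exact hp, k + 1, Or.inr (by rw [hn]; exact h)⟩)

end CfsgLib.CIT
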