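import Mathlib.GroupTheory.SpecificGroups.Dihedral
import Mathlib.GroupTheory.SpecificGroups.KleinFour
import Cfsg.Agent.S0508
import Cfsg.Agent.Lib.FusionMetacyclic.TwoGroups
import Cfsg.Agent.Lib.TwoFusion.AlperinRankTwo.TwoGroup
import Cfsg.Agent.Lib.SmallCent.Main
import Cfsg.Agent.Lib.CIT.CutTwo

/-!
# Simple CIT groups with a self-centralising four-group
-/

set_option autoImplicit false

namespace CfsgLib.CIT

open Subgroup

/-- In a quasidihedral 2-group there is an element with a centraliser of order at most 4 whose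
square is a central involution. -/
theorem quasiDihedral_small_cent {X : Type*} [Group X] [Finite X] (h : Cfsg.IsQuasiDihedral X) :
    16 ≤ Nat.card X ∧ ∃ w : X, w * w ≠ 1 ∧ orderOf (w * w) = 2 ∧ (∀ g : X, Commute g (w * w)) ∧
      Nat.card (centralizer ({w} : Set X)) ≤ 4 := by
  obtain ⟨n, hn, hcard, x, y, hx, hy, hrel⟩ := h
  have hy2 := Invol.mul_self_eq_one hy
  obtain ⟨m, rfl⟩ : ∃ m, n = m + 3 := ⟨n - 3, by omega⟩
  rw [show m + 3 - 1 = m + 2 by omega] at hrel
  set a := 2 ^ (m + 2) with ha
  have hpow : x ^ (2 * a) = 1 := by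
    rw [ha, ← pow_succ', show m + 2 + 1 = m + 3 by omega, ← hx, pow_orderOf_eq_one]
  have hidx : (zpowers x).index = 2 := by
    have h1 := (zpowers x).card_mul_index
    rw [Nat.card_zpowers, hx, hcard, pow_succ] at h1
    exact Nat.eq_of_mul_eq_mul_left (by positivity) h1
  have hyx : y ∉ zpowers x := by
    intro hmem
    obtain ⟨i, rfl⟩ := mem_zpowers_iff.mp hmem
    have hc : x ^ i * x * (x ^ i)⁻¹ = x := by
      rw [((Commute.refl x).zpow_left i).eq, mul_inv_cancel_right]
    rw [hc] at hrel
    have h2 : x ^ (a - 2) = 1 := by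
      have h3 : x ^ (a - 2) * x = x := by
        rw [← pow_succ, show a - 2 + 1 = a - 1 by
          have : 4 ≤ a := by
            rw [ha]
            calc 4 = 2 ^ 2 := by norm_num
              _ ≤ 2 ^ (m + 2) := Nat.pow_le_pow_right (by norm_num) (by omega)
          omega]
        exact hrel.symm
      exact mul_eq_right.mp h3
    have h4 := orderOf_dvd_of_pow_eq_one h2
    rw [hx, show 2 ^ (m + 3) = 2 * a by rw [ha]; ring] at h4
    have ha4 : 4 ≤ a := by
      rw [ha]
      calc 4 = 2 ^ 2 := by norm_num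
        _ ≤ 2 ^ (m + 2) := Nat.pow_le_pow_right (by norm_num) (by omega)
    have := Nat.le_of_dvd (by omega) h4
    omega
  have ha4 : 4 ≤ a := by
    rw [ha]
    calc 4 = 2 ^ 2 := by norm_num
      _ ≤ 2 ^ (m + 2) := Nat.pow_le_pow_right (by norm_num) (by omega)
  have hinv : ∀ i : ℕ, y * x ^ i * y = x ^ ((a - 1) * i) := by
    intro i
    rw [pow_mul, ← hrel, conj_pow, Invol.inv_eq_self hy]
  have hw : x * y * (x * y) = x ^ a := by
    calc x * y * (x * y) = x * (y * x ^ 1 * y) := by rw [pow_one]; group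
      _ = x ^ a := by rw [hinv, mul_one, ← pow_succ', show a - 1 + 1 = a by omega]
  have hxa : orderOf (x ^ a) = 2 := by
    rw [orderOf_pow_of_dvd (by omega) (by rw [hx, ha]; exact pow_dvd_pow 2 (by omega)), hx, ha,
      Nat.pow_div (by omega) two_pos, show m + 3 - (m + 2) = 1 by omega, pow_one]
  have hgen : ∀ g : X, ∃ i : ℕ, g = x ^ i ∨ g = x ^ i * y := by
    intro g
    by_cases hg : g ∈ zpowers x
    · obtain ⟨i, hi⟩ := mem_powers_iff_mem_zpowers.mpr hg
      exact ⟨i, Or.inl hi.symm⟩
    · have h1 : g * y ∈ zpowers x := by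
        rw [Subgroup.mul_mem_iff_of_index_two hidx]
        exact iff_of_false hg hyx
      obtain ⟨i, hi⟩ := mem_powers_iff_mem_zpowers.mpr h1
      refine ⟨i, Or.inr ?_⟩
      rw [show x ^ i = g * y from hi, mul_assoc, hy2, mul_one]
  have hcentral : ∀ g : X, Commute g (x ^ a) := by
    have hya : Commute y (x ^ a) := by
      show y * x ^ a = x ^ a * y
      have h1 : y * x ^ a * y = x ^ a := by
        rw [hinv]
        conv_rhs => rw [← mul_one (x ^ a)]
        obtain ⟨b, hb⟩ : ∃ b, a = 2 * b := ⟨2 ^ (m + 1), by rw [ha]; ring⟩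
        have : (a - 1) * a = a + (b - 1) * (2 * a) := by
          obtain ⟨c, rfl⟩ : ∃ c, b = c + 1 := ⟨b - 1, by omega⟩
          rw [hb, show 2 * (c + 1) - 1 = 2 * c + 1 by omega, Nat.add_sub_cancel]
          ring
        rw [this, pow_add, mul_comm (b - 1), pow_mul, hpow, one_pow]
      calc y * x ^ a = y * x ^ a * y * y := by rw [mul_assoc _ y y, hy2, mul_one]
        _ = x ^ a * y := by rw [h1]
    intro g
    obtain ⟨i, rfl | rfl⟩ := hgen g
    · exact (Commute.refl x).pow_pow i a
    · exact ((Commute.refl x).pow_pow i a).mul_left hya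
  refine ⟨?_, x * y, ?_, by rw [hw]; exact hxa, fun g => by rw [hw]; exact hcentral g, ?_⟩
  · rw [hcard]
    calc 16 = 2 ^ 4 := by norm_num
      _ ≤ 2 ^ (m + 3 + 1) := Nat.pow_le_pow_right (by norm_num) (by omega)
  · rw [hw]; exact Invol.ne_one_of_invol hxa
  · set C := centralizer ({x * y} : Set X)
    have hinf : C ⊓ zpowers x ≤ zpowers (x ^ a) := by
      rintro g ⟨hg, hgx⟩
      obtain ⟨i, rfl⟩ := mem_powers_iff_mem_zpowers.mpr hgx
      have hc : x ^ i * (x * y) = x * y * x ^ i := mem_centralizer_singleton_iff.mp hg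
      have hc2 : y * x ^ i * y = x ^ i := by
        have h1 : x * (x ^ i * y) = x * (y * x ^ i) := by
          rw [← mul_assoc, ← mul_assoc, ← ((Commute.refl x).pow_left i).eq, mul_assoc, hc]
        rw [← mul_left_cancel h1, mul_assoc, hy2, mul_one]
      rw [hinv] at hc2
      have h2 : x ^ ((a - 2) * i) = 1 := by
        have h3 : x ^ ((a - 2) * i) * x ^ i = x ^ i := by
          rw [← pow_add, show (a - 2) * i + i = (a - 1) * i by
            rw [← Nat.succ_mul, show (a - 2).succ = a - 1 by omega]]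
          exact hc2
        exact mul_eq_right.mp h3
      have h4 := orderOf_dvd_of_pow_eq_one h2
      rw [hx, show a - 2 = 2 * (2 ^ (m + 1) - 1) by
        rw [Nat.mul_sub, ha]; ring_nf, show 2 ^ (m + 3) = 2 * a by rw [ha]; ring,
        mul_assoc] at h4
      have h5 : a ∣ (2 ^ (m + 1) - 1) * i := Nat.dvd_of_mul_dvd_mul_left two_pos h4
      have hcop : a.Coprime (2 ^ (m + 1) - 1) := by
        rw [ha]
        refine Nat.Coprime.pow_left _ (Nat.coprime_two_left.mpr ?_)
        exact Nat.Even.sub_odd (Nat.one_le_two_pow) (Nat.even_pow.mpr ⟨even_two, by omega⟩) odd_one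
      obtain ⟨j, rfl⟩ := hcop.dvd_of_dvd_mul_left h5
      show x ^ (a * j) ∈ zpowers (x ^ a)
      rw [pow_mul]
      exact npow_mem_zpowers _ j
    have h1 : Nat.card (C ⊓ zpowers x : Subgroup X) ≤ 2 :=
      (card_le_of_le hinf).trans (by rw [Nat.card_zpowers, hxa])
    have h3 : (zpowers x ⊓ C).relIndex C ≤ 2 := by
      rw [Subgroup.inf_relIndex_right]
      haveI := Subgroup.normal_of_index_eq_two hidx
      exact (Nat.le_of_dvd (by omega) (relIndex_dvd_index_of_normal _ C)).trans hidx.le
    rw [inf_comm] at h1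
    calc Nat.card C = Nat.card (zpowers x ⊓ C : Subgroup X) * (zpowers x ⊓ C).relIndex C :=
          by rw [← Subgroup.relIndex_bot_left, ← Subgroup.relIndex_bot_left]; exact (Subgroup.relIndex_mul_relIndex ⊥ _ C bot_le inf_le_right).symm
      _ ≤ 2 * 2 := Nat.mul_le_mul h1 h3

theorem psl_of_self_centralising_four {G : Type*} [Group G] [Finite G] [IsSimpleGroup G]
    (hab : ∃ a b : G, a * b ≠ b * a) (hC : IsCIT G) (V : Subgroup G) (hV : Nat.card V = 4)
    (hV2 : ∀ v ∈ V, v * v = 1) (hVc : centralizer (V : Set G) = V) :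
    ∃ (F : Type) (_ : Field F) (_ : Fintype F),
      (Fintype.card F = 9 ∨ (∃ n : ℕ, Fintype.card F = 2 ^ n) ∨
        ((Fintype.card F).Prime ∧ ∃ k : ℕ, Fintype.card F = 2 ^ k + 1 ∨ Fintype.card F + 1 = 2 ^ k)) ∧
      Nonempty (G ≃* Matrix.ProjectiveSpecialLinearGroup (Fin 2) F) := by
  classical
  obtain ⟨S, hVS⟩ := (IsPGroup.of_card (n := 2) (by rw [hV]; norm_num) : IsPGroup 2 V).exists_le_sylow
  have hS4 : 4 ≤ Nat.card (S : Subgroup G) := hV ▸ card_le_of_le hVS
  haveI : Nontrivial (S : Subgroup G) := Finite.one_lt_card_iff_nontrivial.mp (by omega)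
  haveI := S.2.center_nontrivial
  obtain ⟨k, hk⟩ := IsPGroup.iff_card.mp (S.2.to_subgroup (center (S : Subgroup G)))
  obtain ⟨c, hc⟩ := exists_prime_orderOf_dvd_card' 2 (G := center (S : Subgroup G)) (by
    have := Finite.one_lt_card (α := center (S : Subgroup G))
    rw [hk] at this ⊢
    exact dvd_pow_self 2 (by rintro rfl; simp at this))
  set t := ((c : (S : Subgroup G)) : G)
  have ht : orderOf t = 2 := by rw [orderOf_coe, orderOf_coe, hc]
  have htS : t ∈ (S : Subgroup G) := (c : (S : Subgroup G)).2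
  have hsylow : ∀ u : G, orderOf u = 2 → (∀ s ∈ (S : Subgroup G), Commute s u) →
      centralizer ({u} : Set G) = (S : Subgroup G) := fun u hu hcu =>
    S.3 (hC u hu) fun s hs => mem_centralizer_singleton_iff.mpr (hcu s hs).eq
  have htZ : ∀ s ∈ (S : Subgroup G), Commute s t := fun s hs =>
    congrArg Subtype.val (mem_center_iff.mp c.2 ⟨s, hs⟩)
  have hdih : ∀ n, 2 ≤ n → Nonempty ((S : Subgroup G) ≃* DihedralGroup n) →
      ∃ (F : Type) (_ : Field F) (_ : Fintype F),
        (Fintype.card F = 9 ∨ (∃ n : ℕ, Fintype.card F = 2 ^ n) ∨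
          ((Fintype.card F).Prime ∧ ∃ k : ℕ, Fintype.card F = 2 ^ k + 1 ∨ Fintype.card F + 1 = 2 ^ k)) ∧
        Nonempty (G ≃* Matrix.ProjectiveSpecialLinearGroup (Fin 2) F) := by
    intro n hn he
    have hcore : (Cfsg.oddCore (centralizer ({t} : Set G))).map
        (centralizer ({t} : Set G)).subtype = ⊥ := by
      rw [map_eq_bot_iff_of_injective _ Subtype.val_injective]
      refine le_bot_iff.mp (sSup_le fun N hN => le_bot_iff.mpr (card_eq_one.mp ?_))
      obtain ⟨i, hi⟩ := IsPGroup.iff_card.mp ((hC t ht).to_subgroup N)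
      have hodd : Odd (Nat.card N) := Nat.coprime_two_right.mp hN.2
      rw [hi] at hodd ⊢
      rw [eq_zero_of_odd_two_pow hodd, pow_zero]
    obtain ⟨F, hF, hF', -, hiso⟩ := Cfsg.Agent.S0508.result S n hn he t ht htS
      (fun s hs => (htZ s hs).eq) ⊥ hcore.symm (fun h => absurd rfl h)
      (fun s hs hsn => absurd (mem_centralizer_iff.mpr fun y hy => by
        rw [SetLike.mem_coe, mem_bot] at hy
        subst hy; simp) hsn)
      (fun Y hY hY1 => absurd (le_bot_iff.mp hY) hY1)
    exact ⟨F, hF, hF', psl_two_card hC F hiso, hiso⟩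
  rcases hS4.eq_or_lt with h4 | h8
  · have hSV : V = (S : Subgroup G) := eq_of_le_of_card_ge hVS (by omega)
    haveI : IsKleinFour (S : Subgroup G) :=
      { card_four := h4.symm
        exponent_two := by
          refine (Nat.prime_two.eq_one_or_self_of_dvd _ (Monoid.exponent_dvd_of_forall_pow_eq_one
            fun x => Subtype.ext (by
              rw [pow_two]; exact hV2 _ (hSV ▸ x.2)))).resolve_left fun h1 => ?_
          have := Monoid.exp_eq_one_iff.mp h1
          exact false_of_nontrivial_of_subsingleton (S : Subgroup G) }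
    exact hdih 2 le_rfl (IsKleinFour.nonempty_mulEquiv (G₁ := (S : Subgroup G)) (G₂ := DihedralGroup 2))
  · have hA : Nat.card (V.subgroupOf (S : Subgroup G)) = 4 := by
      rw [Nat.card_congr (subgroupOfEquivOfLe hVS).toEquiv, hV]
    have hAc : centralizer ((V.subgroupOf (S : Subgroup G) : Subgroup _) : Set (S : Subgroup G)) =
        V.subgroupOf (S : Subgroup G) := by
      ext s
      constructor
      · intro hs
        rw [mem_subgroupOf, ← hVc, mem_centralizer_iff]
        intro v hv
        exact congrArg Subtype.val (mem_centralizer_iff.mp hs ⟨v, hVS hv⟩ hv)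
      · intro hs
        refine mem_centralizer_iff.mpr fun v hv => Subtype.ext ?_
        have h1 : (s : G) ∈ centralizer (V : Set G) := by rw [hVc]; exact hs
        exact mem_centralizer_iff.mp h1 _ hv
    have h8' : 8 ≤ Nat.card (S : Subgroup G) := by
      obtain ⟨i, hi⟩ := IsPGroup.iff_card.mp S.2
      rw [hi] at h8 ⊢
      rcases (show i ≤ 2 ∨ 3 ≤ i by omega) with h | h
      · have := Nat.pow_le_pow_right (show 0 < 2 by norm_num) h; omega
      · exact le_trans (by norm_num) (Nat.pow_le_pow_right (show 0 < 2 by norm_num) h)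
    rcases CfsgLib.FusionMetacyclic.forms_of_self_centralizing S.2 h8' hA hAc with ⟨j, hd⟩ | hq | ⟨j, hQ⟩
    · exact hdih _ (le_trans (by norm_num : (2 : ℕ) ≤ 2 ^ 2)
        (Nat.pow_le_pow_right (by norm_num) (by omega))) hd
    · exfalso
      obtain ⟨h16, w, hw1, hw2, hwc, hwC⟩ := quasiDihedral_small_cent hq
      have hS : centralizer ({((w * w : (S : Subgroup G)) : G)} : Set G) = (S : Subgroup G) :=
        hsylow _ (by rw [orderOf_coe]; exact hw2) fun s hs =>
          congrArg Subtype.val (hwc ⟨s, hs⟩).eq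
      have hle : centralizer ({(w : G)} : Set G) ≤ (S : Subgroup G) := by
        intro g hg
        rw [← hS, mem_centralizer_singleton_iff, coe_mul]
        have hg' : Commute g (w : G) := mem_centralizer_singleton_iff.mp hg
        exact (hg'.mul_right hg').eq
      have hcard : Nat.card (centralizer ({(w : G)} : Set G)) ≤ 4 := by
        refine le_trans ?_ hwC
        refine Nat.card_le_card_of_injective (fun g => (⟨⟨g.1, hle g.2⟩,
          mem_centralizer_singleton_iff.mpr (Subtype.ext (mem_centralizer_singleton_iff.mp g.2))⟩ :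
            centralizer ({w} : Set (S : Subgroup G)))) fun g g' h => ?_
        exact Subtype.ext (congrArg (fun z => ((z.1 : (S : Subgroup G)) : G)) h)
      have hnc : ¬ IsCyclic G := by
        intro h
        obtain ⟨a, b, hab⟩ := hab
        let _ : CommGroup G := IsCyclic.commGroup
        exact hab (mul_comm a b)
      have hdvd : 16 ∣ Nat.card G := by
        obtain ⟨i, hi⟩ := IsPGroup.iff_card.mp S.2
        refine Dvd.dvd.trans ?_ (card_subgroup_dvd_card (S : Subgroup G))
        rw [hi] at h16 ⊢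
        rcases (show i ≤ 3 ∨ 4 ≤ i by omega) with h | h
        · have := Nat.pow_le_pow_right (show 0 < 2 by norm_num) h; omega
        · exact Dvd.dvd.trans (by norm_num) (pow_dvd_pow 2 h)
      rcases CfsgLib.SmallCent.main hnc (w : G) hcard with ⟨⟨e⟩⟩ | ⟨⟨e⟩⟩ | ⟨⟨e⟩⟩ | ⟨F, hF, hF', hc7, ⟨e⟩⟩
      · rw [Nat.card_congr e.toEquiv, nat_card_alternatingGroup] at hdvd
        norm_num [Nat.factorial] at hdvd
      · rw [Nat.card_congr e.toEquiv, nat_card_alternatingGroup] at hdvd
        norm_num [Nat.factorial] at hdvd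
      · rw [Nat.card_congr e.toEquiv, nat_card_alternatingGroup] at hdvd
        norm_num [Nat.factorial] at hdvd
      · have h := CfsgLib.PSL2Sub.gcd_mul_card_PS (F := F)
        rw [hc7] at h
        rw [Nat.card_congr e.toEquiv] at hdvd
        simp only [show Nat.gcd 2 (7 - 1) = 2 by decide] at h
        have h168 : Nat.card (Matrix.ProjectiveSpecialLinearGroup (Fin 2) F) = 168 :=
          Nat.eq_of_mul_eq_mul_left two_pos (h.trans (by norm_num))
        rw [h168] at hdvd
        norm_num at hdvd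
    · exfalso
      obtain ⟨e⟩ := hQ
      haveI : Nontrivial V := Finite.one_lt_card_iff_nontrivial.mp (by omega)
      obtain ⟨v, hv, hv1⟩ : ∃ v ∈ V, v ≠ 1 := by
        obtain ⟨v, hv⟩ := exists_ne (1 : V)
        exact ⟨v, v.2, fun h => hv (Subtype.ext h)⟩
      obtain ⟨u, hu, hu1, huv⟩ : ∃ u ∈ V, u ≠ 1 ∧ u ≠ v := by
        by_contra hcon
        push Not at hcon
        have h2 : V ≤ zpowers v := fun u hu => by
          rcases eq_or_ne u 1 with rfl | h
          · exact one_mem _
          · rw [hcon u hu h]; exact mem_zpowers v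
        have := card_le_of_le h2
        rw [Nat.card_zpowers, hV, orderOf_eq_prime (by rw [pow_two]; exact hV2 v hv) hv1] at this
        omega
      refine huv ?_
      have ho : ∀ (p : G) (hp : p ∈ V), p ≠ 1 → orderOf (e ⟨p, hVS hp⟩) = 2 := fun p hp hp1 => by
        rw [MulEquiv.orderOf_eq, orderOf_mk]
        exact orderOf_eq_prime (by rw [pow_two]; exact hV2 p hp) hp1
      exact congrArg Subtype.val (e.injective ((CfsgLib.TwoFusion.AlperinRankTwo.quaternion_invol _
        _ _ (ho u hu hu1) (ho v hv hv1)).resolve_left (by positivity)))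

end CfsgLib.CIT
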