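import Cfsg.Agent.Lib.CIT.LocalModule
import Cfsg.Agent.Lib.CIT.Defs
import Cfsg.Agent.Lib.PLocal.Replacement
import Cfsg.Agent.Lib.LocEven.Replacement
import Cfsg.Agent.Lib.Solvable.Core
import Cfsg.Agent.Lib.StdForm.FpfThree
import Cfsg.Agent.Lib.TwoFusion.RankTwoTrans.FpfThreeClass

/-!
# An offending abelian subgroup of largest order forces a natural module

If an abelian subgroup of largest order of a Sylow 2-subgroup of a 2-local `N` of a CIT group is
not contained in `D = O₂(N)`, then `D` is elementary abelian of order `q²` and self-centralising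
in `N`, and some such subgroup of order `q²` meets it in `q` elements.
-/

set_option autoImplicit false

namespace CfsgLib.CIT

open scoped IsMulCommutative commutatorElement
open CfsgLib.PLoc (IsMaxAb)

variable {G : Type*} [Group G]

theorem pCoreOf_two_le (N : Subgroup G) : Cfsg.pCoreOf 2 N ≤ N := Subgroup.map_subtype_le _

variable [Finite G]

theorem isPGroup_pCoreOf_two (N : Subgroup G) : IsPGroup 2 (Cfsg.pCoreOf 2 N) :=
  haveI : Fact (Nat.Prime 2) := ⟨Nat.prime_two⟩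
  (CfsgLib.Solvable.pCore_isPGroup 2 N).map _

theorem le_normalizer_pCoreOf_two (N : Subgroup G) :
    N ≤ Subgroup.normalizer (Cfsg.pCoreOf 2 N : Set G) := by
  haveI : Fact (Nat.Prime 2) := ⟨Nat.prime_two⟩
  intro n hn
  refine Subgroup.mem_normalizer_fintype fun x hx => ?_
  obtain ⟨u, hu, rfl⟩ := hx
  exact ⟨⟨n, hn⟩ * u * ⟨n, hn⟩⁻¹, (CfsgLib.Solvable.pCore_normal 2 N).conj_mem u hu _, rfl⟩

theorem le_pCoreOf_two {P N : Subgroup G} (hPN : P ≤ N) (hP : IsPGroup 2 P)
    (hn : N ≤ Subgroup.normalizer (P : Set G)) : P ≤ Cfsg.pCoreOf 2 N := by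
  intro x hx
  refine ⟨⟨x, hPN hx⟩, CfsgLib.Solvable.le_pCore (N := P.subgroupOf N) ?_
    (hP.comap_of_injective N.subtype N.subtype_injective) hx, rfl⟩
  exact ⟨fun u hu g => (Subgroup.mem_normalizer_iff.1 (hn g.2) _).1 hu⟩

/-- In a CIT group an element commuting with a non-trivial element of 2-power order has 2-power
order. -/
theorem two_pow_of_commute (hC : IsCIT G) {d x : G} (hd : d ≠ 1) {k : ℕ} (hk : d ^ 2 ^ k = 1)
    (hc : Commute d x) : ∃ j : ℕ, x ^ 2 ^ j = 1 := by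
  obtain ⟨j, m, hm, hjm⟩ := Nat.exists_eq_two_pow_mul_odd (orderOf_pos x).ne'
  obtain ⟨i, -, hi⟩ := (Nat.dvd_prime_pow Nat.prime_two).1 (orderOf_dvd_of_pow_eq_one hk)
  have h2 : 2 ∣ orderOf d := by
    rw [hi]
    refine dvd_pow_self 2 ?_
    rintro rfl
    exact hd (orderOf_eq_one_iff.1 (by rw [hi, pow_zero]))
  refine ⟨j, eq_one_of_commute_invol hC (orderOf_pow_orderOf_div (orderOf_pos d).ne' h2)
    ((hc.pow_left _).pow_right _) ?_⟩
  rw [orderOf_pow, hjm, Nat.gcd_mul_right_left, Nat.mul_div_cancel_left _ (Nat.two_pow_pos j)]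
  exact hm

theorem isPGroup_inf_centralizer (hC : IsCIT G) {W N : Subgroup G} (hW : IsPGroup 2 W)
    (hne : W ≠ ⊥) : IsPGroup 2 ↥(N ⊓ Subgroup.centralizer (W : Set G)) := by
  obtain ⟨⟨d, hd⟩, hd1⟩ := W.ne_bot_iff_exists_ne_one.1 hne
  obtain ⟨k, hk⟩ := hW ⟨d, hd⟩
  intro x
  obtain ⟨j, hj⟩ := two_pow_of_commute hC (fun e => hd1 (Subtype.ext e))
    (congrArg Subtype.val hk) (show Commute d (x : G) from x.2.2 d hd)
  exact ⟨j, Subtype.ext hj⟩

/-- Thompson replacement: some abelian subgroup of largest order acts quadratically. -/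
theorem exists_quadratic {R V A : Subgroup G} (hR : IsPGroup 2 R) (hA : IsMaxAb 0 R A)
    (hVc : IsMulCommutative V) (hVR : V ≤ R) (hRV : R ≤ Subgroup.normalizer (V : Set G))
    (hne : ¬ A ≤ Subgroup.centralizer (V : Set G)) :
    ∃ A' : Subgroup G, IsMaxAb 0 R A' ∧ ¬ A' ≤ Subgroup.centralizer (V : Set G) ∧
      ∀ a ∈ A', ∀ b ∈ A', ∀ v ∈ V, Commute b (a * v * a⁻¹ * v⁻¹) := by
  haveI : Fact (Nat.Prime 2) := ⟨Nat.prime_two⟩
  have hAV : A ≤ Subgroup.normalizer (V : Set G) := hA.le.trans hRV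
  have hAA : ⁅A, A⁆ = ⊥ := Subgroup.commutator_self_eq_bot_iff.mpr hA.comm
  have hcab : ∀ B : Subgroup G, B ≤ A → IsMulCommutative B := fun B hB =>
    IsMulCommutative.of_setLike_mul_comm fun x hx y hy =>
      LocEven.commute_of_comm hA.comm (hB hx) (hB hy)
  have hcV : ∀ B : Subgroup G, IsMulCommutative ↥(V ⊓ Subgroup.centralizer (B : Set G)) :=
    fun B => IsMulCommutative.of_setLike_mul_comm fun x hx y hy =>
      LocEven.commute_of_comm hVc hx.1 hy.1
  have hsupc : ∀ B : Subgroup G, B ≤ A →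
      IsMulCommutative ↥(B ⊔ (V ⊓ Subgroup.centralizer (B : Set G))) := fun B hB =>
    LocEven.comm_sup (hcab B hB) (hcV B) (Subgroup.le_centralizer_iff.1 inf_le_right)
  have hbest : ∀ B : Subgroup G, B ≤ A →
      Nat.card B * Nat.card ↥(V ⊓ Subgroup.centralizer (B : Set G)) ≤
        Nat.card A * Nat.card ↥(V ⊓ Subgroup.centralizer (A : Set G)) := fun B hB => by
    refine (CfsgLib.PLocal.card_mul_card_le_sup_inf _ _).trans (Nat.mul_le_mul ?_ ?_)
    · exact hA.max _ (sup_le (hB.trans hA.le) (inf_le_left.trans hVR)) (hsupc B hB)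
        fun a _ => pow_zero a
    · exact Subgroup.card_le_of_le (le_inf (inf_le_right.trans inf_le_left)
        ((inf_le_left.trans hB).trans (LocEven.le_centralizer_self hA.comm)))
  rcases CfsgLib.PLocal.replacement_dichotomy hVc hAV (by rw [hAA]; exact bot_le) (le_refl V) with
    ⟨B, hB, hlt⟩ | ⟨h1, h2⟩
  · exact absurd (hbest B hB) (not_le.2 hlt)
  set A1 := A ⊓ Subgroup.centralizer ((⁅V, A⁆ : Subgroup G) : Set G) with hA1
  set C1 := V ⊓ Subgroup.centralizer (A1 : Set G) with hC1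
  refine ⟨A1 ⊔ C1, ⟨sup_le (inf_le_left.trans hA.le) (inf_le_left.trans hVR),
    hsupc A1 inf_le_left, fun a _ => pow_zero a, fun B hB hBc hBe => ?_⟩, ?_, ?_⟩
  · refine (hA.max B hB hBc hBe).trans (Nat.le_of_mul_le_mul_right ?_
      (Nat.card_pos (α := ↥(V ⊓ Subgroup.centralizer (A : Set G)))))
    rw [h2]
    refine (CfsgLib.PLocal.card_mul_card_le_sup_inf _ _).trans (Nat.mul_le_mul_left _ ?_)
    exact Subgroup.card_le_of_le (le_inf (inf_le_right.trans inf_le_left)
      ((inf_le_left.trans inf_le_left).trans (LocEven.le_centralizer_self hA.comm)))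
  · intro hle
    apply hne
    -- otherwise `V = [V, A] C_V(A)`, which is impossible in a 2-group
    have hVeq : V ≤ ⁅V, A⁆ ⊔ (V ⊓ Subgroup.centralizer (A : Set G)) := by
      rw [← h1]
      exact le_inf le_rfl (Subgroup.le_centralizer_iff.1 (le_sup_left.trans hle))
    have hKV : ⁅V, A⁆ ≤ V := Subgroup.commutator_le.2 fun v hv a ha => by
      rw [commutatorElement_def, mul_assoc, mul_assoc, ← mul_assoc a]
      exact mul_mem hv ((Subgroup.mem_normalizer_iff.1 (hAV ha) _).1 (inv_mem hv))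
    haveI := hR.isNilpotent
    have hser : ∀ n : ℕ,
        ⁅V, A⁆ ≤ (Subgroup.lowerCentralSeries (⊤ : Subgroup R) n).map R.subtype := by
      intro n
      induction n with
      | zero =>
        intro x hx
        rw [Subgroup.lowerCentralSeries_zero]
        exact ⟨⟨x, hVR (hKV hx)⟩, Subgroup.mem_top _, rfl⟩
      | succ n ih =>
        refine Subgroup.commutator_le.2 fun v hv a ha => ?_
        have hv' := hVeq hv
        rw [← SetLike.mem_coe, Subgroup.coe_mul_of_left_le_normalizer_right _ _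
          (((hKV.trans (LocEven.le_centralizer_self hVc)).trans
            (Subgroup.centralizer_le inf_le_left)).trans
              (Subgroup.centralizer_le_normalizer _))] at hv'
        obtain ⟨x, hx, c, hc, rfl⟩ := hv'
        have hca : c * a = a * c := (hc.2 a ha).symm
        have e : ⁅x * c, a⁆ = ⁅x, a⁆ := by
          rw [commutatorElement_def, commutatorElement_def, mul_inv_rev, ← mul_assoc,
            mul_assoc x c a, hca, ← mul_assoc, mul_inv_cancel_right]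
        show ⁅x * c, a⁆ ∈ _
        rw [e]
        obtain ⟨x', hx', rfl⟩ := ih hx
        rw [Subgroup.lowerCentralSeries_succ]
        exact ⟨⁅x', ⟨a, hA.le ha⟩⁆,
          Subgroup.commutator_mem_commutator hx' (Subgroup.mem_top _), rfl⟩
    obtain ⟨n, hn⟩ := Subgroup.nilpotent_iff_lowerCentralSeries.1 ‹Group.IsNilpotent R›
    have hbot : ⁅V, A⁆ = ⊥ := le_bot_iff.1 ((hser n).trans (by rw [hn, Subgroup.map_bot]))
    rw [hbot, bot_sup_eq] at hVeq
    exact Subgroup.le_centralizer_iff.1 (hVeq.trans inf_le_right)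
  · intro a ha b hb v hv
    obtain ⟨a1, ha1, c, hc, rfl⟩ : ∃ a1 ∈ A1, ∃ c ∈ C1, a1 * c = a := by
      rw [← SetLike.mem_coe, Subgroup.coe_mul_of_left_le_normalizer_right _ _
        ((Subgroup.le_centralizer_iff.1 inf_le_right).trans
          (Subgroup.centralizer_le_normalizer _))] at ha
      obtain ⟨a1, ha1, c, hc, e⟩ := ha
      exact ⟨a1, ha1, c, hc, e⟩
    have e : a1 * c * v * (a1 * c)⁻¹ * v⁻¹ = a1 * v * a1⁻¹ * v⁻¹ := by
      rw [mul_inv_rev, mul_assoc a1 c v, LocEven.commute_of_comm hVc hc.1 hv]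
      group
    rw [e]
    have hk : a1 * v * a1⁻¹ * v⁻¹ ∈ ⁅V, A⁆ := by
      have := inv_mem (Subgroup.commutator_mem_commutator hv ha1.1 : ⁅v, a1⁆ ∈ ⁅V, A⁆)
      rwa [commutatorElement_inv, commutatorElement_def] at this
    have hle : A1 ⊔ C1 ≤ Subgroup.centralizer ({a1 * v * a1⁻¹ * v⁻¹} : Set G) :=
      sup_le (fun b hb => Subgroup.mem_centralizer_singleton_iff.2 (hb.2 _ hk).symm)
        (fun b hb => Subgroup.mem_centralizer_singleton_iff.2
          (LocEven.commute_of_comm hVc hb.1 (hKV' hk)))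
    exact Subgroup.mem_centralizer_singleton_iff.1 (hle hb)
where
  hKV' {g : G} (hg : g ∈ ⁅V, A⁆) : g ∈ V := by
    refine (Subgroup.commutator_le.2 fun v hv a ha => ?_ : ⁅V, A⁆ ≤ V) hg
    rw [commutatorElement_def, mul_assoc, mul_assoc, ← mul_assoc a]
    exact mul_mem hv ((Subgroup.mem_normalizer_iff.1 (hRV (hA.le ha)) _).1 (inv_mem hv))

/-- The elements of square one of the centre of `D`. -/
def omegaCenter (D : Subgroup G) : Subgroup G where
  carrier := {x | x ∈ D ∧ x ∈ Subgroup.centralizer (D : Set G) ∧ x * x = 1}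
  one_mem' := ⟨one_mem _, one_mem _, one_mul 1⟩
  mul_mem' := by
    rintro x y ⟨hx, hx', hx2⟩ ⟨hy, hy', hy2⟩
    refine ⟨mul_mem hx hy, mul_mem hx' hy', ?_⟩
    calc x * y * (x * y) = x * (y * x) * y := by group
      _ = (x * x) * (y * y) := by rw [hx' y hy]; group
      _ = 1 := by rw [hx2, hy2, one_mul]
  inv_mem' := by
    rintro x ⟨hx, hx', hx2⟩
    exact ⟨inv_mem hx, inv_mem hx', by rw [← mul_inv_rev, hx2, inv_one]⟩

/-- The module is all of `D`, and some quadratic `A` of largest order is an offender on it. -/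
theorem offending_core (hC : IsCIT G) {Q R A : Subgroup G} (h : IsOffending Q R A) :
    ∃ (q : ℕ) (A' : Subgroup G), 2 ≤ q ∧
      IsMulCommutative ↥(Cfsg.pCoreOf 2 (Subgroup.normalizer (Q : Set G))) ∧
      (∀ v ∈ Cfsg.pCoreOf 2 (Subgroup.normalizer (Q : Set G)), v * v = 1) ∧
      Nat.card ↥(Cfsg.pCoreOf 2 (Subgroup.normalizer (Q : Set G))) = q ^ 2 ∧
      Subgroup.normalizer (Q : Set G) ⊓
          Subgroup.centralizer (Cfsg.pCoreOf 2 (Subgroup.normalizer (Q : Set G)) : Set G) =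
        Cfsg.pCoreOf 2 (Subgroup.normalizer (Q : Set G)) ∧
      IsMaxAb 0 R A' ∧
      ¬ A' ≤ Subgroup.centralizer (Cfsg.pCoreOf 2 (Subgroup.normalizer (Q : Set G)) : Set G) ∧
      (∀ a ∈ A', ∀ b ∈ A', ∀ v ∈ Cfsg.pCoreOf 2 (Subgroup.normalizer (Q : Set G)),
        Commute b (a * v * a⁻¹ * v⁻¹)) ∧
      Nat.card A' = q ^ 2 ∧
      Nat.card ↥(A' ⊓ Cfsg.pCoreOf 2 (Subgroup.normalizer (Q : Set G))) = q := by
  haveI : Fact (Nat.Prime 2) := ⟨Nat.prime_two⟩
  set N := Subgroup.normalizer (Q : Set G) with hNdef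
  set D := Cfsg.pCoreOf 2 N with hDdef
  have hDN : D ≤ N := pCoreOf_two_le N
  have hD2 : IsPGroup 2 D := isPGroup_pCoreOf_two N
  have hND : N ≤ Subgroup.normalizer (D : Set G) := le_normalizer_pCoreOf_two N
  have hDne : D ≠ ⊥ := fun e => h.ne_bot (le_bot_iff.1 (e ▸
    le_pCoreOf_two Subgroup.le_normalizer h.pgroup le_rfl))
  set V := omegaCenter D with hVdef
  have hVD : V ≤ D := fun x hx => hx.1
  have hVc : IsMulCommutative V :=
    IsMulCommutative.of_setLike_mul_comm fun x hx y hy => (hx.2.1 y hy.1).symm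
  have hDV : D ≤ Subgroup.centralizer (V : Set G) :=
    Subgroup.le_centralizer_iff.1 fun x hx => hx.2.1
  have hNV : N ≤ Subgroup.normalizer (V : Set G) := fun n hn => by
    refine Subgroup.mem_normalizer_fintype fun x hx => ?_
    refine ⟨(Subgroup.mem_normalizer_iff.1 (hND hn) x).1 hx.1, ?_, ?_⟩
    · intro d hd
      have h1 := hx.2.1 (n⁻¹ * d * n) ((Subgroup.mem_normalizer_iff''.1 (hND hn) d).1 hd)
      calc d * (n * x * n⁻¹) = n * ((n⁻¹ * d * n) * x) * n⁻¹ := by group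
        _ = n * x * n⁻¹ * d := by rw [h1]; group
    · calc n * x * n⁻¹ * (n * x * n⁻¹) = n * (x * x) * n⁻¹ := by group
        _ = 1 := by rw [hx.2.2, mul_one, mul_inv_cancel]
  have hVne : V ≠ ⊥ := by
    haveI : Nontrivial D := (Subgroup.nontrivial_iff_ne_bot D).2 hDne
    haveI := hD2.center_nontrivial
    obtain ⟨c, hc⟩ := exists_ne (1 : Subgroup.center D)
    obtain ⟨k, hk⟩ := IsPGroup.iff_orderOf.1 hD2 c.1
    have h2 : 2 ∣ orderOf (((c : D) : G)) := by
      rw [Subgroup.orderOf_coe, hk]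
      refine dvd_pow_self 2 ?_
      rintro rfl
      exact hc (Subtype.ext (orderOf_eq_one_iff.1 (by rw [hk, pow_zero])))
    set z := ((c : D) : G) ^ (orderOf ((c : D) : G) / 2) with hz
    have ho : orderOf z = 2 := orderOf_pow_orderOf_div (orderOf_pos _).ne' h2
    intro e
    have : z ∈ (⊥ : Subgroup G) := e ▸ (⟨D.pow_mem (c : D).2 _, (Subgroup.centralizer (D : Set G)).pow_mem
      (fun d hd => congrArg Subtype.val (Subgroup.mem_center_iff.1 c.2 ⟨d, hd⟩)) _,
      by rw [← pow_two, ← ho, pow_orderOf_eq_one]⟩ : z ∈ V)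
    rw [Subgroup.mem_bot.1 this, orderOf_one] at ho
    exact absurd ho (by norm_num)
  have hV2 : IsPGroup 2 V := hD2.to_le hVD
  have hkerD : N ⊓ Subgroup.centralizer (V : Set G) = D := by
    refine le_antisymm (le_pCoreOf_two inf_le_left (isPGroup_inf_centralizer hC hV2 hVne) ?_)
      (le_inf hDN hDV)
    intro n hn
    refine Subgroup.mem_normalizer_fintype fun x hx => ⟨N.mul_mem (N.mul_mem hn hx.1) (N.inv_mem hn), ?_⟩
    intro v hv
    have h1 := hx.2 (n⁻¹ * v * n) ((Subgroup.mem_normalizer_iff''.1 (hNV hn) v).1 hv)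
    calc v * (n * x * n⁻¹) = n * ((n⁻¹ * v * n) * x) * n⁻¹ := by group
      _ = n * x * n⁻¹ * v := by rw [h1]; group
  haveI := hVc
  have hset : FFSetting (rep hNV).range V := setting hNV hC hVne (fun v hv => hv.2.2)
    (hkerD ▸ hD2) (fun P hP hP2 hPn => (le_pCoreOf_two hP hP2 hPn).trans hDV)
  -- the Sylow subgroup contains `D`
  have hRN := h.sylow.le
  have hDR : D ≤ R := by
    have hsup : IsPGroup 2 ↥(R ⊔ D) :=
      h.sylow.pgroup.to_sup_of_normal_right' hD2 (hRN.trans hND)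
    have := Subgroup.eq_of_le_of_card_ge (le_sup_left : R ≤ R ⊔ D)
      (h.sylow.max _ (sup_le hRN hDN) hsup)
    rw [this]
    exact le_sup_right
  have hAne : ¬ A ≤ Subgroup.centralizer (V : Set G) := fun hle =>
    h.not_le ((le_inf (h.maxAb.le.trans hRN) hle).trans hkerD.le)
  obtain ⟨B, hB, hBne, hBq⟩ :=
    exists_quadratic h.sylow.pgroup h.maxAb hVc (hVD.trans hDR) (hRN.trans hNV) hAne
  have hBN : B ≤ N := hB.le.trans hRN
  have hBc : ∀ a ∈ B, ∀ b ∈ B, a * b = b * a := fun a ha b hb =>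
    LocEven.commute_of_comm hB.comm ha hb
  have hBD : B ⊓ Subgroup.centralizer (V : Set G) = B ⊓ D :=
    le_antisymm (le_inf inf_le_left ((inf_le_inf_right _ hBN).trans hkerD.le))
      (inf_le_inf_left _ hDV)
  have hVB : V ⊓ Subgroup.centralizer (B : Set G) = B ⊓ V := by
    refine le_antisymm (le_inf ?_ inf_le_left) (le_inf inf_le_right
      (inf_le_left.trans (LocEven.le_centralizer_self hB.comm)))
    exact fun v hv => PLoc.mem_of_commute hB (hDR (hVD hv.1)) (pow_zero v) hv.2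
  set E := (B ⊓ D) ⊔ V with hEdef
  have hED : E ≤ D := sup_le inf_le_right hVD
  have hEc : IsMulCommutative E := LocEven.comm_sup
    (IsMulCommutative.of_setLike_mul_comm fun x hx y hy => hBc x hx.1 y hy.1) hVc
    (inf_le_right.trans hDV)
  have hlarge : Nat.card V * Nat.card ↥(B ⊓ Subgroup.centralizer (V : Set G)) ≤
      Nat.card B * Nat.card ↥(V ⊓ Subgroup.centralizer (B : Set G)) := by
    rw [hBD, hVB, mul_comm (Nat.card V)]
    refine (CfsgLib.PLocal.card_mul_card_le_sup_inf _ _).trans (Nat.mul_le_mul ?_ ?_)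
    · exact hB.max _ (hED.trans hDR) hEc fun a _ => pow_zero a
    · exact Subgroup.card_le_of_le (le_inf (inf_le_left.trans inf_le_left) inf_le_right)
  have hoff : IsOffender V (img hNV B) :=
    isOffender_img hNV hBN (h.sylow.pgroup.to_le hB.le) hBc hBne hBq hlarge
  set q := Nat.card (fixS (V := V) (img hNV B)) with hqdef
  have hq1 : 1 < q := hoff.one_lt hset
  have hqV : q ^ 2 = Nat.card V := hoff.card_V hset
  have hqBV : Nat.card ↥(B ⊓ V) = q := by rw [hqdef, card_fix_img hNV hBN, hVB]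
  have hBcard : q * Nat.card ↥(B ⊓ D) = Nat.card B := by
    rw [← hBD, hqdef, ← hoff.card_eq hset, card_img_mul hNV hBN]
  have hEmax : IsMaxAb 0 R E := by
    refine ⟨hED.trans hDR, hEc, fun a _ => pow_zero a, fun C hC' hCc hCe =>
      (hB.max C hC' hCc hCe).trans (Nat.le_of_mul_le_mul_right ?_ (by omega : 0 < q))⟩
    rw [← hBcard]
    calc q * Nat.card ↥(B ⊓ D) * q = Nat.card ↥(B ⊓ D) * Nat.card V := by rw [← hqV]; ring
      _ ≤ Nat.card E * Nat.card ↥(B ⊓ D ⊓ V) := CfsgLib.PLocal.card_mul_card_le_sup_inf _ _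
      _ ≤ Nat.card E * q := Nat.mul_le_mul_left _ (hqBV ▸ Subgroup.card_le_of_le
          (inf_le_inf_right _ inf_le_left))
  -- an element of order three inverted modulo `D` by an element of `B`
  obtain ⟨a, haB, haV⟩ := SetLike.not_le_iff_exists.1 hBne
  set ab := (rep hNV).rangeRestrict ⟨a, hBN haB⟩ with hab
  have habm : ab ∈ img hNV B := (mem_img hNV hBN).2 ⟨a, haB, rfl⟩
  have hab1 : ab ≠ 1 := fun e => haV ((rep_eq_one_iff hNV _).1 (congrArg Subtype.val e))
  obtain ⟨x, hx⟩ := hoff.exists_conj_ne hset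
  obtain ⟨w, hw2, hwA, hwC, -, hw3⟩ := hoff.exists_swap hset hx habm hab1
  obtain ⟨g, hg⟩ := (rep hNV).rangeRestrict_surjective (ab * w)
  have hker' : ∀ n : N, (rep hNV).rangeRestrict n = 1 → (n : G) ∈ D := fun n hn =>
    hkerD.le ⟨n.2, (rep_eq_one_iff hNV n).1 (congrArg Subtype.val hn)⟩
  obtain ⟨k, hk⟩ := hD2 ⟨((g ^ 3 : N) : G), hker' _ (by rw [map_pow, hg, ← hw3, pow_orderOf_eq_one])⟩
  set yN : N := g ^ (2 ^ k * 2 ^ k) with hyN
  set y : G := (yN : G) with hydef
  have hyr : (rep hNV).rangeRestrict yN = ab * w := by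
    have h3 : (ab * w) ^ 3 = 1 := by rw [← hw3, pow_orderOf_eq_one]
    rw [hyN, map_pow, hg, ← Nat.mod_add_div (2 ^ k * 2 ^ k) 3, pow_add, pow_mul, h3, one_pow,
      mul_one, ← mul_pow, Nat.pow_mod]
    norm_num
  have hy1 : y ≠ 1 := fun e => by
    have : yN = 1 := Subtype.ext e
    rw [this, map_one] at hyr
    rw [← hyr, orderOf_one] at hw3
    omega
  have hy3 : y ^ 3 = 1 := by
    have h1 : ((g : G) ^ 3) ^ 2 ^ k = 1 := by simpa using congrArg Subtype.val hk
    rw [hydef, hyN, Subgroup.coe_pow, ← pow_mul,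
      show 2 ^ k * 2 ^ k * 3 = 3 * 2 ^ k * 2 ^ k by ring, pow_mul, pow_mul, h1, one_pow]
  have hyo : Odd (orderOf y) := (by decide : Odd 3).of_dvd_nat (orderOf_dvd_of_pow_eq_one hy3)
  have hyD : ∀ d, d ∈ D ↔ y * d * y⁻¹ ∈ D := fun d => Subgroup.mem_normalizer_iff.1 (hND yN.2) d
  let ρ : MulAut D :=
    { toFun := fun d => ⟨y * d * y⁻¹, (hyD d).1 d.2⟩
      invFun := fun d => ⟨y⁻¹ * d * y, (hyD _).2 (by
        rw [show y * (y⁻¹ * d * y) * y⁻¹ = (d : G) by group]; exact d.2)⟩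
      left_inv := fun d => Subtype.ext (show y⁻¹ * (y * d * y⁻¹) * y = d by group)
      right_inv := fun d => Subtype.ext (show y * (y⁻¹ * d * y) * y⁻¹ = d by group)
      map_mul' := fun c d => Subtype.ext
        (show y * (c * d : G) * y⁻¹ = y * c * y⁻¹ * (y * d * y⁻¹) by group) }
  have hρ : ∀ d : D, ((ρ d : D) : G) = y * d * y⁻¹ := fun d => rfl
  have hy2 : y * y = y⁻¹ := eq_inv_of_mul_eq_one_left (by rw [mul_assoc, ← pow_three]; exact hy3)
  have hρ3 : ∀ d : D, ρ (ρ (ρ d)) = d := fun d => Subtype.ext (by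
    rw [hρ, hρ, hρ]
    calc y * (y * (y * d * y⁻¹) * y⁻¹) * y⁻¹ = y ^ 3 * d * (y ^ 3)⁻¹ := by rw [pow_three]; group
      _ = d := by rw [hy3, one_mul, inv_one, mul_one])
  have hρf : ∀ d : D, ρ d = d → d = 1 := fun d hd => by
    by_contra hd1
    have hc : Commute (d : G) y := by
      have := congrArg Subtype.val hd
      rw [hρ, mul_inv_eq_iff_eq_mul] at this
      exact this.symm
    obtain ⟨j, hj⟩ := hD2 d
    obtain ⟨i, hi⟩ := two_pow_of_commute hC (fun e => hd1 (Subtype.ext e))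
      (congrArg Subtype.val hj) hc
    have h1 : orderOf y ∣ 1 := ((Nat.coprime_two_right.2 hyo).pow_right i).dvd_of_dvd_mul_right
      (by rw [one_mul]; exact orderOf_dvd_of_pow_eq_one hi)
    exact hy1 (orderOf_eq_one_iff.1 (Nat.dvd_one.1 h1))
  -- `a` inverts `y` modulo `D`
  have hd0 : y * (a * y * a⁻¹) ∈ D := by
    refine hker' (yN * (⟨a, hBN haB⟩ * yN * ⟨a, hBN haB⟩⁻¹)) ?_
    have haa : ab * ab = 1 := hoff.mul_self hset habm
    have hww : w * w = 1 := by rw [← pow_two, ← hw2, pow_orderOf_eq_one]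
    rw [map_mul, map_mul, map_mul, map_inv, hyr, ← hab, inv_eq_of_mul_eq_one_right haa]
    calc ab * w * (ab * (ab * w) * ab) = ab * w * ((ab * ab) * w * ab) := by group
      _ = ab * (w * w) * ab := by rw [haa]; group
      _ = 1 := by rw [hww, mul_one, haa]
  set d0 := y * (a * y * a⁻¹) with hd0def
  have haD : ∀ d ∈ D, a * d * a⁻¹ ∈ D := fun d hd =>
    (Subgroup.mem_normalizer_iff.1 (hND (hBN haB)) d).1 hd
  have hcen : ∀ v ∈ V, ∀ d ∈ D, Commute v d := fun v hv d hd => (hv.2.1 d hd).symm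
  -- congruences modulo `V`
  have hVD' : ∀ v ∈ V, ∀ d ∈ D, d * v * d⁻¹ = v := fun v hv d hd => by
    rw [← (hcen v hv d hd).eq, mul_inv_cancel_right]
  have hmain : ∀ e ∈ D, a * e * a⁻¹ * e⁻¹ ∈ V →
      a * (y * e * y⁻¹) * a⁻¹ * (y * e * y⁻¹)⁻¹ ∈ V → d0 * e * d0⁻¹ * e⁻¹ ∈ V → e ∈ V := by
    intro e he h1 h2 h3
    set f := y * e * y⁻¹ with hf
    set f' := y⁻¹ * e * y with hf'
    -- conjugate the congruence `a e a⁻¹ ≡ e` by `a y a⁻¹ = y⁻¹ d₀`
    have h4 : a * f * a⁻¹ * f'⁻¹ ∈ V := by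
      have hid : a * f * a⁻¹ * f'⁻¹ =
          y⁻¹ * (d0 * (a * e * a⁻¹ * e⁻¹) * d0⁻¹ * (d0 * e * d0⁻¹ * e⁻¹)) * y := by
        rw [hf, hf', hd0def]; group
      rw [hid]
      have := (Subgroup.mem_normalizer_iff''.1 (hNV yN.2) _).1
        (mul_mem (by rw [hVD' _ h1 d0 hd0]; exact h1 : d0 * (a * e * a⁻¹ * e⁻¹) * d0⁻¹ ∈ V) h3)
      exact this
    have h5 : f * f'⁻¹ ∈ V := by
      have : f * f'⁻¹ = (a * f * a⁻¹ * f⁻¹)⁻¹ * (a * f * a⁻¹ * f'⁻¹) := by group
      rw [this]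
      exact mul_mem (inv_mem h2) h4
    have h6 : f' * e⁻¹ ∈ V := by
      have h7 := (Subgroup.mem_normalizer_iff.1 (hNV yN.2) _).1 h5
      have : y * (f * f'⁻¹) * y⁻¹ = f' * e⁻¹ := by
        rw [hf, hf']
        calc y * (y * e * y⁻¹ * (y⁻¹ * e * y)⁻¹) * y⁻¹
            = (y * y) * e * (y * y)⁻¹ * (y * y⁻¹) * e⁻¹ * (y * y⁻¹) := by group
          _ = y⁻¹ * e * y * e⁻¹ := by rw [hy2, inv_inv]; group
      rwa [← hydef, this] at h7
    have h8 : f * e⁻¹ ∈ V := by
      have : f * e⁻¹ = f * f'⁻¹ * (f' * e⁻¹) := by group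
      rw [this]
      exact mul_mem h5 h6
    have h9 : e⁻¹ * f ∈ V := by
      rw [show e⁻¹ * f = e⁻¹ * (f * e⁻¹) * e⁻¹⁻¹ by group, hVD' _ h8 _ (inv_mem he)]
      exact h8
    exact StdForm.fpf_mod_central hρf (K := V.subgroupOf D)
      (fun v hv t => Subtype.ext (hcen _ hv _ t.2).eq)
      (fun v hv => (Subgroup.mem_normalizer_iff.1 (hNV yN.2) _).1 hv) (u := ⟨e, he⟩) h9
  -- commutators of `a` with `E` lie in `V`
  have hEa : ∀ e ∈ E, a * e * a⁻¹ * e⁻¹ ∈ V := by
    let K : Subgroup G :=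
      { carrier := {e | e ∈ D ∧ a * e * a⁻¹ * e⁻¹ ∈ V}
        one_mem' := ⟨one_mem _, by simp⟩
        mul_mem' := by
          rintro e f ⟨he, he'⟩ ⟨hf, hf'⟩
          refine ⟨mul_mem he hf, ?_⟩
          have : a * (e * f) * a⁻¹ * (e * f)⁻¹ =
              (a * e * a⁻¹ * e⁻¹) * (e * (a * f * a⁻¹ * f⁻¹) * e⁻¹) := by group
          rw [this, hVD' _ hf' e he]
          exact mul_mem he' hf'
        inv_mem' := by
          rintro e ⟨he, he'⟩
          refine ⟨inv_mem he, ?_⟩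
          have : a * e⁻¹ * a⁻¹ * e⁻¹⁻¹ = e⁻¹ * (a * e * a⁻¹ * e⁻¹)⁻¹ * e⁻¹⁻¹ := by group
          rw [this, hVD' _ (inv_mem he') _ (inv_mem he)]
          exact inv_mem he' }
    have hle : E ≤ K := sup_le (fun e he => ⟨he.2, by
        rw [hBc a haB e he.1, mul_inv_cancel_right, mul_inv_cancel]; exact one_mem _⟩)
      (fun v hv => ⟨hVD hv, mul_mem ((Subgroup.mem_normalizer_iff.1 (hNV (hBN haB)) v).1 hv)
        (inv_mem hv)⟩)
    exact fun e he => (hle he).2
  -- the centre of `D` is `V`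
  have hZV : ∀ z ∈ D, z ∈ Subgroup.centralizer (D : Set G) → z ∈ V := by
    have hZE : ∀ z ∈ D, z ∈ Subgroup.centralizer (D : Set G) → z ∈ E := fun z hz hzc =>
      PLoc.mem_of_commute hEmax (hDR hz) (pow_zero z) fun e he => hzc e (hED he)
    intro z hz hzc
    refine hmain z hz (hEa z (hZE z hz hzc)) (hEa _ (hZE _ ((hyD z).1 hz) fun d hd => ?_)) ?_
    · have h1 := hzc (y⁻¹ * d * y) ((hyD _).2 (by
        rw [show y * (y⁻¹ * d * y) * y⁻¹ = d by group]; exact hd))
      calc d * (y * z * y⁻¹) = y * ((y⁻¹ * d * y) * z) * y⁻¹ := by group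
        _ = y * z * y⁻¹ * d := by rw [h1]; group
    · rw [hzc d0 hd0, mul_inv_cancel_right, mul_inv_cancel]
      exact one_mem _
  have hcomm : ∀ p ∈ D, ∀ r ∈ D, ⁅p, r⁆ ∈ V := fun p hp r hr => by
    have hz := TwoFusion.RankTwo.commutator_mem_center hD2 hρ3 hρf ⟨p, hp⟩ ⟨r, hr⟩
    exact hZV _ ((⁅(⟨p, hp⟩ : D), (⟨r, hr⟩ : D)⁆ : D)).2 fun d hd =>
      congrArg Subtype.val (Subgroup.mem_center_iff.1 hz ⟨d, hd⟩)
  -- the bilinear commutator map and the element of order three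
  have hmulr : ∀ b ∈ D, ∀ p ∈ D, ∀ r ∈ D, ⁅b, p * r⁆ = ⁅b, p⁆ * ⁅b, r⁆ := fun b hb p hp r hr => by
    have : ⁅b, p * r⁆ = ⁅b, p⁆ * (p * ⁅b, r⁆ * p⁻¹) := by simp only [commutatorElement_def]; group
    rw [this, hVD' _ (hcomm b hb r hr) p hp]
  have hsym : ∀ b ∈ D, ∀ p ∈ D, ⁅b, p⁆ = ⁅p, b⁆ := fun b hb p hp => by
    rw [← commutatorElement_inv b p]
    exact (inv_eq_of_mul_eq_one_right (hcomm b hb p hp).2.2).symm
  have hyin : ∀ d ∈ D, y⁻¹ * d * y ∈ D := fun d hd => (hyD _).2 (by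
    rw [show y * (y⁻¹ * d * y) * y⁻¹ = d by group]; exact hd)
  have hfix : ∀ b ∈ B ⊓ D, ∀ c ∈ B ⊓ D,
      ⁅b, y * c * y⁻¹⁆ = ⁅b, y⁻¹ * c * y⁆ ∧
        a * ⁅b, y * c * y⁻¹⁆ * a⁻¹ = ⁅b, y * c * y⁻¹⁆ := by
    intro b hb c hc
    set p := y * c * y⁻¹ with hp
    set p' := y⁻¹ * c * y with hp'
    have hpD : p ∈ D := (hyD c).1 hc.2
    have hp'D : p' ∈ D := hyin c hc.2
    have hprod : c * p * p' = 1 := by
      have h1 := congrArg Subtype.val (StdForm.fpf_prod_eq_one hρ3 hρf ⟨c, hc.2⟩)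
      have e : p' = y * (y * c * y⁻¹) * y⁻¹ := by
        calc p' = (y * y) * c * (y * y)⁻¹ := by rw [hy2, inv_inv]
          _ = _ := by group
      rw [e]
      exact h1
    have hbc : ⁅b, c⁆ = 1 := commutatorElement_eq_one_iff_commute.2 (hBc b hb.1 c hc.1)
    have heq : ⁅b, p⁆ = ⁅b, p'⁆ := by
      have h1 : ⁅b, p⁆ * ⁅b, p'⁆ = 1 := by
        calc ⁅b, p⁆ * ⁅b, p'⁆ = ⁅b, c⁆ * ⁅b, p⁆ * ⁅b, p'⁆ := by rw [hbc, one_mul]
          _ = ⁅b, c * p * p'⁆ := by
              rw [hmulr b hb.2 _ (mul_mem hc.2 hpD) p' hp'D, hmulr b hb.2 c hc.2 p hpD]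
          _ = 1 := by rw [hprod, commutatorElement_one_right]
      rw [← inv_eq_of_mul_eq_one_right h1]
      exact (inv_eq_of_mul_eq_one_right (hcomm b hb.2 p hpD).2.2).symm
    refine ⟨heq, ?_⟩
    have ha1 : a * b * a⁻¹ = b := by rw [hBc a haB b hb.1, mul_inv_cancel_right]
    have ha2 : a * c * a⁻¹ = c := by rw [hBc a haB c hc.1, mul_inv_cancel_right]
    have hap : a * p * a⁻¹ = (y⁻¹ * ⁅d0, c⁆ * y) * p' := by
      calc a * p * a⁻¹ = (a * y * a⁻¹) * (a * c * a⁻¹) * (a * y * a⁻¹)⁻¹ := by rw [hp]; group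
        _ = _ := by rw [ha2, hd0def, hp', commutatorElement_def]; group
    have hvD : y⁻¹ * ⁅d0, c⁆ * y ∈ V :=
      (Subgroup.mem_normalizer_iff''.1 (hNV yN.2) _).1 (hcomm d0 hd0 c hc.2)
    calc a * ⁅b, p⁆ * a⁻¹ = ⁅a * b * a⁻¹, a * p * a⁻¹⁆ := by
          simp only [commutatorElement_def]; group
      _ = ⁅b, y⁻¹ * ⁅d0, c⁆ * y⁆ * ⁅b, p'⁆ := by
          rw [ha1, hap, hmulr b hb.2 _ (hVD hvD) p' hp'D]
      _ = ⁅b, p⁆ := by
          rw [commutatorElement_eq_one_iff_commute.2 (hcen _ hvD b hb.2).symm, one_mul, heq]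
  have htriv : ∀ b ∈ B ⊓ D, ∀ c ∈ B ⊓ D, ⁅b, y * c * y⁻¹⁆ = 1 := by
    intro b hb c hc
    set v := ⁅b, y * c * y⁻¹⁆ with hv
    have hvV : v ∈ V := hcomm b hb.2 _ ((hyD c).1 hc.2)
    have hzV : y⁻¹ * v * y ∈ V := (Subgroup.mem_normalizer_iff''.1 (hNV yN.2) _).1 hvV
    have hzeq : y⁻¹ * v * y = ⁅c, y * b * y⁻¹⁆ := by
      rw [(hfix c hc b hb).1, hsym c hc.2 _ (hyin b hb.2), hv]
      simp only [commutatorElement_def]; group
    have hfixS : ∀ u : V, a * (u : G) * a⁻¹ = u → u ∈ fixS (V := V) (img hNV B) := by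
      intro u hu
      rw [← hoff.fixE_eq hset habm hab1, mem_fixE, smul_eq_iff]
      exact mul_inv_eq_iff_eq_mul.1 hu
    set z : V := ⟨y⁻¹ * v * y, hzV⟩ with hz
    have hzf : z ∈ fixS (V := V) (img hNV B) := hfixS z (by
      show a * (y⁻¹ * v * y) * a⁻¹ = y⁻¹ * v * y
      rw [hzeq]
      exact (hfix c hc b hb).2)
    have hyz : (ab * w) • z = ⟨v, hvV⟩ := by
      rw [← hyr]
      refine Subtype.ext ?_
      rw [smul_coe, ← hydef, hz]
      group
    have hvf : (⟨v, hvV⟩ : V) ∈ fixS (V := V) (img hNV B) := hfixS _ (hfix b hb c hc).2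
    rw [← hyz, mul_smul, hoff.smul_swap hset hx habm hw2 hwA hw3 hzf] at hvf
    have hwz : w • z ∈ fixS (V := V) (img hNV B) := by
      have := mul_mem hvf (inv_mem hzf)
      rwa [mul_inv_cancel_right] at this
    have hwz' : w • z ∈ fixS (V := V) (cj x (img hNV B)) := by
      rw [← hwA, mem_fixS_cj, inv_smul_smul]
      exact hzf
    have h0 : w • z = 1 := by
      rw [← Subgroup.mem_bot, ← hoff.inf_fixS_eq_bot hset (hoff.conj x) hx]
      exact ⟨hwz, hwz'⟩
    have hz1 : y⁻¹ * v * y = 1 :=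
      congrArg Subtype.val (smul_left_cancel w (h0.trans (smul_one w).symm))
    calc v = y * (y⁻¹ * v * y) * y⁻¹ := by group
      _ = 1 := by rw [hz1, mul_one, mul_inv_cancel]
  -- `E` is invariant under `y`, hence equal to `V`
  have hEy : ∀ e ∈ E, y * e * y⁻¹ ∈ E := by
    set E' := E.map (MulAut.conj y).toMonoidHom with hE'
    have hE'mem : ∀ e ∈ E, y * e * y⁻¹ ∈ E' := fun e he => ⟨e, he, by simp⟩
    have hpair : ∀ e ∈ E, ∀ f ∈ E, Commute e (y * f * y⁻¹) := by
      have h1 : ∀ c ∈ B ⊓ D, ∀ e ∈ E, Commute e (y * c * y⁻¹) := fun c hc => by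
        have hle : E ≤ Subgroup.centralizer ({y * c * y⁻¹} : Set G) :=
          sup_le (fun b hb => Subgroup.mem_centralizer_singleton_iff.2
            (commutatorElement_eq_one_iff_commute.1 (htriv b hb c hc)).eq)
          (fun v hv => Subgroup.mem_centralizer_singleton_iff.2
            (hcen v hv _ ((hyD c).1 hc.2)).eq)
        exact fun e he => Subgroup.mem_centralizer_singleton_iff.1 (hle he)
      intro e he
      have hle : E ≤ (Subgroup.centralizer ({e} : Set G)).comap (MulAut.conj y).toMonoidHom :=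
        sup_le (fun c hc => by
          rw [Subgroup.mem_comap, Subgroup.mem_centralizer_singleton_iff]
          simpa using (h1 c hc e he).eq.symm)
          (fun v hv => by
          rw [Subgroup.mem_comap, Subgroup.mem_centralizer_singleton_iff]
          simpa using (hcen _ ((Subgroup.mem_normalizer_iff.1 (hNV yN.2) v).1 hv) e (hED he)).eq)
      intro f hf
      have := Subgroup.mem_centralizer_singleton_iff.1 (hle hf)
      simpa [Commute, SemiconjBy] using this.symm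
    have hc' : IsMulCommutative ↥(E ⊔ E') := by
      refine LocEven.comm_sup hEc (IsMulCommutative.of_setLike_mul_comm ?_) ?_
      · rintro _ ⟨p, hp, rfl⟩ _ ⟨r, hr, rfl⟩
        rw [← map_mul, ← map_mul, LocEven.commute_of_comm hEc hp hr]
      · rintro e he _ ⟨f, hf, rfl⟩
        simpa using (hpair e he f hf).eq.symm
    have hle : Nat.card ↥(E ⊔ E') ≤ Nat.card E := hEmax.max _
      (sup_le (hED.trans hDR) (by
        rintro _ ⟨f, hf, rfl⟩
        exact hDR (by simpa using (hyD f).1 (hED hf)))) hc' fun a _ => pow_zero a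
    intro e he
    rw [Subgroup.eq_of_le_of_card_ge (le_sup_left : E ≤ E ⊔ E') hle]
    exact Subgroup.mem_sup_right (hE'mem e he)
  have hEV : E ≤ V := fun e he => hmain e (hED he) (hEa e he) (hEa _ (hEy e he))
    (hcomm d0 hd0 e (hED he))
  have hBDV : B ⊓ D = B ⊓ V :=
    le_antisymm (le_inf inf_le_left (le_sup_left.trans hEV)) (inf_le_inf_left _ hVD)
  have hDeq : D = V := le_antisymm (fun d hd => hEV (PLoc.mem_of_commute hEmax (hDR hd)
    (pow_zero d) fun e he => (hcen e (hEV he) d hd).eq)) hVD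
  rw [hDeq]
  refine ⟨q, B, hq1, hVc, fun v hv => hv.2.2, hqV.symm, ?_, hB, hBne, hBq, ?_, hqBV⟩
  · rw [hkerD, hDeq]
  · rw [← hBcard, hBDV, hqBV, pow_two]

theorem IsOffender.eq_top_of_invariant {X V : Type*} [Group X] [CommGroup V]
    [MulDistribMulAction X V] [Finite X] [Finite V] {A : Subgroup X} (h : FFSetting X V)
    (hA : IsOffender V A) {W : Subgroup V} (hW : ∀ (x : X), ∀ v ∈ W, x • v ∈ W) (hne : W ≠ ⊥) :
    W = ⊤ := by
  obtain ⟨x, hx⟩ := hA.exists_conj_ne h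
  obtain ⟨v, hv, hvA⟩ : ∃ v ∈ W, v ∉ fixS (V := V) A := by
    by_contra hall
    push Not at hall
    apply hne
    rw [eq_bot_iff]
    intro v hv
    rw [← hA.inf_fixS_eq_bot h (hA.conj x) hx]
    exact ⟨hall v hv, mem_fixS_cj.2 (hall _ (hW _ v hv))⟩
  have hle : fixS (V := V) A ≤ W := fun z hz => by
    obtain ⟨a, -, rfl⟩ := hA.exists_dlt_eq h hvA hz
    exact W.div_mem (hW a v hv) hv
  have hle' : fixS (V := V) (cj x A) ≤ W := fun z hz => by
    have := hW x _ (hle (mem_fixS_cj.1 hz))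
    rwa [smul_inv_smul] at this
  refine Subgroup.eq_top_of_card_eq _ (le_antisymm (Subgroup.card_le_card_group _) ?_)
  rw [← hA.card_V h, pow_two]
  have := CfsgLib.PLocal.card_mul_card_le_sup_inf (fixS (V := V) A) (fixS (V := V) (cj x A))
  rw [hA.inf_fixS_eq_bot h (hA.conj x) hx, Subgroup.card_bot, mul_one,
    ← hA.fix_card_eq h (hA.conj x)] at this
  exact this.trans (Subgroup.card_le_of_le (sup_le hle hle'))

/-- An offending subgroup gives a natural 2-local, namely `D = O₂(N(Q))`. -/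
theorem naturalLocal_core (hC : IsCIT G) {Q R A : Subgroup G} (h : IsOffending Q R A) :
    ∃ (q : ℕ) (A' : Subgroup G),
      NaturalLocal (Cfsg.pCoreOf 2 (Subgroup.normalizer (Q : Set G))) A' q ∧ A' ≤ R := by
  haveI : Fact (Nat.Prime 2) := ⟨Nat.prime_two⟩
  obtain ⟨q, B, hq, hDc, hDsq, hDcard, hker, hB, hBne, hBq, hBcard, hBD⟩ := offending_core hC h
  set N := Subgroup.normalizer (Q : Set G) with hN
  set D := Cfsg.pCoreOf 2 N with hD
  haveI := hDc
  have hD2 : IsPGroup 2 D := isPGroup_pCoreOf_two N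
  have hQD : Q ≤ D := le_pCoreOf_two Subgroup.le_normalizer h.pgroup le_rfl
  have hDne : D ≠ ⊥ := fun e => h.ne_bot (le_bot_iff.1 (e ▸ hQD))
  have hND : N ≤ Subgroup.normalizer (D : Set G) := le_normalizer_pCoreOf_two N
  have hBN : B ≤ N := hB.le.trans h.sylow.le
  have hCD : Subgroup.centralizer (D : Set G) = D := by
    refine le_antisymm (fun x hx => ?_) (LocEven.le_centralizer_self hDc)
    exact hker.le ⟨Subgroup.centralizer_le_normalizer _ (Subgroup.centralizer_le hQD hx), hx⟩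
  have hBinf : B ⊓ Subgroup.centralizer (D : Set G) = B ⊓ D := by rw [hCD]
  have hlarge : Nat.card D * Nat.card ↥(B ⊓ Subgroup.centralizer (D : Set G)) ≤
      Nat.card B * Nat.card ↥(D ⊓ Subgroup.centralizer (B : Set G)) := by
    rw [hBinf, hDcard, hBcard]
    exact Nat.mul_le_mul_left _ (Subgroup.card_le_of_le (le_inf inf_le_right
      (inf_le_left.trans (LocEven.le_centralizer_self hB.comm))))
  have hBc : ∀ a ∈ B, ∀ b ∈ B, a * b = b * a := fun a ha b hb =>
    LocEven.commute_of_comm hB.comm ha hb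
  have hB2 : IsPGroup 2 B := h.sylow.pgroup.to_le hB.le
  set N' := Subgroup.normalizer (D : Set G) with hN'
  set P := Cfsg.pCoreOf 2 N' with hP
  have hcore : P ≤ D := by
    have hset : FFSetting (rep hND).range D := setting hND hC hDne hDsq
      (by rw [hker]; exact hD2) fun S hS hS2 hSn =>
        (le_pCoreOf_two hS hS2 hSn).trans (LocEven.le_centralizer_self hDc)
    have hoff := isOffender_img hND hBN hB2 hBc hBne hBq hlarge
    have hDP : D ≤ P := le_pCoreOf_two Subgroup.le_normalizer hD2 le_rfl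
    haveI : Nontrivial P := (Subgroup.nontrivial_iff_ne_bot P).2 fun e =>
      hDne (le_bot_iff.1 (e ▸ hDP))
    haveI := (isPGroup_pCoreOf_two N').center_nontrivial
    obtain ⟨c, hc⟩ := exists_ne (1 : Subgroup.center P)
    have hcP : ((c : P) : G) ∈ Subgroup.centralizer (P : Set G) := fun p hp =>
      congrArg Subtype.val (Subgroup.mem_center_iff.1 c.2 ⟨p, hp⟩)
    have hcD : ((c : P) : G) ∈ D := hCD.le (Subgroup.centralizer_le hDP hcP)
    set W := (Subgroup.centralizer (P : Set G)).subgroupOf D with hW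
    have hWtop : W = ⊤ := hoff.eq_top_of_invariant hset (fun x v hv => by
      obtain ⟨n, rfl⟩ := (rep hND).rangeRestrict_surjective x
      rw [hW, Subgroup.mem_subgroupOf, smul_coe, Subgroup.mem_centralizer_iff]
      intro p hp
      have hn' := hND n.2
      have h1 : (n : G)⁻¹ * p * n * v = v * ((n : G)⁻¹ * p * n) := hv ((n : G)⁻¹ * p * n)
        ((Subgroup.mem_normalizer_iff''.1 (le_normalizer_pCoreOf_two N' hn') p).1 hp)
      calc p * ((n : G) * v * (n : G)⁻¹) = n * ((n : G)⁻¹ * p * n * v) * (n : G)⁻¹ := by group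
        _ = (n : G) * v * (n : G)⁻¹ * p := by rw [h1]; group)
      (fun e => by
        have h1 : (⟨_, hcD⟩ : D) ∈ W := hcP
        rw [e, Subgroup.mem_bot] at h1
        exact hc (Subtype.ext (Subtype.ext (congrArg Subtype.val h1 : _))))
    exact (Subgroup.le_centralizer_iff.1 (Subgroup.subgroupOf_eq_top.1 hWtop)).trans hCD.le
  have hPeq : P = D := le_antisymm hcore (le_pCoreOf_two Subgroup.le_normalizer hD2 le_rfl)
  refine ⟨q, B, ⟨hq, hDc, hDsq, hB.comm, hDcard, hBcard, hBD, hBN.trans hND, hCD, hPeq, ?_⟩,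
    hB.le⟩
  intro S hS hS2
  have hker' : IsPGroup 2 ↥(N' ⊓ Subgroup.centralizer (D : Set G)) :=
    hD2.to_le (inf_le_right.trans hCD.le)
  have hset : FFSetting (rep (le_refl N')).range D := setting (le_refl N') hC hDne hDsq hker'
    fun S hS hS2 hSn =>
      ((le_pCoreOf_two hS hS2 hSn).trans hPeq.le).trans (LocEven.le_centralizer_self hDc)
  have hoff := isOffender_img (le_refl N') (hBN.trans hND) hB2 hBc hBne hBq hlarge
  obtain ⟨T, hT⟩ := hoff.exists_sylow hset
  have hTq : Nat.card (T : Subgroup (rep (le_refl N')).range) = q := by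
    rw [hT, hoff.card_eq hset]
    exact Nat.pow_left_injective (by norm_num : (2 : ℕ) ≠ 0)
      ((hoff.card_V hset).trans hDcard)
  obtain ⟨T', hT'⟩ := ((hS2.comap_of_injective N'.subtype N'.subtype_injective).map
    (rep (le_refl N')).rangeRestrict).exists_le_sylow
  rw [← card_img_mul (le_refl N') hS, pow_succ']
  refine Nat.mul_le_mul ?_ (hDcard ▸ Subgroup.card_le_of_le (inf_le_right.trans hCD.le))
  exact (Subgroup.card_le_of_le hT').trans (by
    rw [← hTq, T.card_eq_multiplicity, T'.card_eq_multiplicity])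

theorem exists_naturalLocal (hC : IsCIT G) {Q R A : Subgroup G} (h : IsOffending Q R A) :
    ∃ (V A' : Subgroup G) (q : ℕ), NaturalLocal V A' q := by
  obtain ⟨q, A', hn, -⟩ := naturalLocal_core hC h
  exact ⟨_, A', q, hn⟩

end CfsgLib.CIT
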