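import Cfsg.Agent.Lib.CIT.FFOffender
import Mathlib.GroupTheory.GroupAction.ConjAct
import Mathlib.GroupTheory.GroupAction.Period
import Mathlib.Tactic.NormNum.Prime

/-!
# Orders in failure of factorization modules of CIT type

With an offender of order `q` the group has order `q (q² - 1)`, exactly `q² - 1` involutions and no
elements of order three commuting with elements of order five when `q = 4`.
-/

set_option autoImplicit false

namespace CfsgLib.CIT

open Subgroup

variable {X V : Type*} [Group X] [CommGroup V] [MulDistribMulAction X V] [Finite X] [Finite V]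

namespace IsOffender

variable {A : Subgroup X} (h : FFSetting X V) (hA : IsOffender V A)

/-- The conjugates of the offender. -/
def orb (A : Subgroup X) : Set (Subgroup X) := Set.range fun x : X => cj x A

include h hA

theorem card_orb : Nat.card (orb A) = Nat.card A + 1 := by
  classical
  obtain ⟨g, hg⟩ := hA.exists_conj_ne h
  let f : Option A → orb A := fun o => match o with
    | none => ⟨A, 1, cj_one A⟩
    | some a => ⟨cj (a : X) (cj g A), (a : X) * g, (cj_cj _ _ _).symm⟩
  have hne : ∀ a : A, cj (a : X) (cj g A) ≠ A := fun a e => by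
    apply hg
    have := cj_inv_eq e
    rwa [cj_of_mem (inv_mem a.2), eq_comm] at this
  have hf : Function.Bijective f := by
    constructor
    · rintro (_ | a) (_ | b) he
      · rfl
      · exact absurd (congrArg Subtype.val he).symm (hne b)
      · exact absurd (congrArg Subtype.val he) (hne a)
      · exact congrArg some (Subtype.ext
          (hA.injective_cj h (hA.conj g) hg a.2 b.2 (congrArg Subtype.val he)))
    · rintro ⟨_, x, rfl⟩
      by_cases hx : cj x A = A
      · exact ⟨none, Subtype.ext hx.symm⟩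
      · obtain ⟨a, ha, hax⟩ := hA.exists_cj_eq h hg hx
        exact ⟨some ⟨a, ha⟩, Subtype.ext hax⟩
  rw [← Nat.card_congr (Equiv.ofBijective f hf), Finite.card_option]

theorem card_normalizer :
    Nat.card (normalizer (A : Set X)) = Nat.card A * (Nat.card A - 1) := by
  obtain ⟨g, hg⟩ := hA.exists_conj_ne h
  set D := normalizer (A : Set X) ⊓ normalizer (cj g A : Set X) with hD
  have hDc : Nat.card D = Nat.card A - 1 := by rw [hD, (hA.pair_data h hg).1, hA.card_eq h]
  let f : A × D → normalizer (A : Set X) := fun p =>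
    ⟨(p.1 : X) * p.2, mul_mem (Subgroup.le_normalizer p.1.2) p.2.2.1⟩
  have hfix : ∀ d : D, cj (d : X) (cj g A) = cj g A := fun d => cj_eq_iff_mem_normalizer.2 d.2.2
  have hf : Function.Bijective f := by
    constructor
    · rintro ⟨a, d⟩ ⟨b, e⟩ he
      have he' : (a : X) * d = b * e := congrArg Subtype.val he
      have h1 : cj (a : X) (cj g A) = cj (b : X) (cj g A) := by
        have h2 := congrArg (fun z => cj z (cj g A)) he'
        simp only [← cj_cj, hfix] at h2
        exact h2
      have hab : a = b := Subtype.ext (hA.injective_cj h (hA.conj g) hg a.2 b.2 h1)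
      subst hab
      exact Prod.ext rfl (Subtype.ext (mul_left_cancel he'))
    · rintro ⟨n, hn⟩
      have hne : cj (n * g) A ≠ A := fun e => hg (by
        rw [← cj_cj] at e
        have := cj_inv_eq e
        rwa [cj_eq_iff_mem_normalizer.2 (inv_mem hn), eq_comm] at this)
      obtain ⟨a, ha, hag⟩ := hA.exists_cj_eq h hg hne
      refine ⟨(⟨a, ha⟩, ⟨a⁻¹ * n, Subgroup.mem_inf.2 ⟨mul_mem (inv_mem (Subgroup.le_normalizer ha)) hn, ?_⟩⟩),
        Subtype.ext (mul_inv_cancel_left a n)⟩
      apply cj_eq_iff_mem_normalizer.1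
      rw [← cj_cj, cj_cj n g, ← hag, cj_cj, inv_mul_cancel, cj_one]
  rw [← Nat.card_congr (Equiv.ofBijective f hf), Nat.card_prod, hDc]

theorem card_X : Nat.card X = (Nat.card A + 1) * (Nat.card A * (Nat.card A - 1)) := by
  rw [← hA.card_orb h, ← hA.card_normalizer h, ← Nat.card_prod]
  choose rep hrep using fun O : orb A => O.2
  refine (Nat.card_congr (Equiv.ofBijective (fun p : orb A × normalizer (A : Set X) =>
    rep p.1 * (p.2 : X)) ⟨?_, ?_⟩)).symm
  · rintro ⟨O, n⟩ ⟨O', n'⟩ he
    simp only at he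
    have hO : O = O' := Subtype.ext (by
      rw [← hrep O, ← hrep O']
      have := congrArg (fun z => cj z A) he
      simp only [← cj_cj, cj_eq_iff_mem_normalizer.2 n.2, cj_eq_iff_mem_normalizer.2 n'.2] at this
      exact this)
    subst hO
    exact Prod.ext rfl (Subtype.ext (mul_left_cancel he))
  · intro x
    refine ⟨(⟨cj x A, x, rfl⟩, ⟨(rep ⟨cj x A, x, rfl⟩)⁻¹ * x, ?_⟩), mul_inv_cancel_left _ x⟩
    apply cj_eq_iff_mem_normalizer.1
    rw [← cj_cj]
    exact cj_inv_eq (hrep _)

theorem exists_cj_mem {t : X} (ht : t * t = 1) : ∃ x : X, t ∈ cj x A := by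
  haveI : Fact (Nat.Prime 2) := ⟨Nat.prime_two⟩
  obtain ⟨S, hS⟩ := hA.exists_sylow h
  have hT : IsPGroup 2 (zpowers t) := by
    intro y
    obtain ⟨i, hi⟩ := Subgroup.mem_zpowers_iff.1 y.2
    refine ⟨1, Subtype.ext ?_⟩
    show (y : X) ^ 2 ^ 1 = 1
    rw [← hi, pow_one, ← zpow_natCast, ← zpow_mul, mul_comm, zpow_mul]
    simp [pow_two, ht]
  obtain ⟨T, hTle⟩ := hT.exists_le_sylow
  obtain ⟨x, hx⟩ := MulAction.exists_smul_eq X S T
  refine ⟨x, ?_⟩
  have hmem : t ∈ (T : Subgroup X) := hTle (mem_zpowers t)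
  rw [← hx, Sylow.coe_subgroup_smul, Subgroup.mem_pointwise_smul_iff_inv_smul_mem, hS,
    MulAut.smul_def] at hmem
  rw [mem_cj]
  simpa using hmem

theorem eq_of_mem_cj {x y : X} {t : X} (ht : t ≠ 1) (hx : t ∈ cj x A) (hy : t ∈ cj y A) :
    cj x A = cj y A := by
  by_contra hne
  exact ht ((hA.conj x).eq_one_of_normalizes h (hA.conj y) (Ne.symm hne) hx
    (Subgroup.le_normalizer hy))

theorem card_involutions : Nat.card {t : X // orderOf t = 2} =
    (Nat.card A + 1) * (Nat.card A - 1) := by
  classical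
  haveI : Fintype X := Fintype.ofFinite X
  let f : (Σ O : orb A, {a : (O : Subgroup X) // a ≠ 1}) → {t : X // orderOf t = 2} := fun p =>
    ⟨(p.2.1 : X), by
      obtain ⟨x, hx⟩ := p.1.2
      have hO : IsOffender V (p.1 : Subgroup X) := hx ▸ hA.conj x
      exact hO.invol h p.2.1.2 fun e => p.2.2 (Subtype.ext e)⟩
  have hf : Function.Bijective f := by
    constructor
    · rintro ⟨O, ⟨⟨a, ha⟩, ha1⟩⟩ ⟨O', ⟨⟨b, hb⟩, hb1⟩⟩ he
      obtain rfl : a = b := congrArg Subtype.val he
      have hOO : O = O' := by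
        obtain ⟨x, hx⟩ := O.2
        obtain ⟨y, hy⟩ := O'.2
        simp only at hx hy
        refine Subtype.ext ?_
        rw [← hx, ← hy]
        exact hA.eq_of_mem_cj h (fun e => ha1 (Subtype.ext e)) (by rw [hx]; exact ha) (by rw [hy]; exact hb)
      subst hOO
      rfl
    · rintro ⟨t, ht⟩
      obtain ⟨x, hx⟩ := hA.exists_cj_mem h (t := t) (by rw [← pow_two, ← ht, pow_orderOf_eq_one])
      exact ⟨⟨⟨cj x A, x, rfl⟩, ⟨t, hx⟩, fun e => by
        have h1 : t = 1 := congrArg Subtype.val e
        rw [h1, orderOf_one] at ht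
        omega⟩, rfl⟩
  rw [← Nat.card_congr (Equiv.ofBijective f hf), Nat.card_sigma]
  rw [Finset.sum_const_nat (m := Nat.card A - 1) fun O _ => ?_, Finset.card_univ,
    ← Nat.card_eq_fintype_card, hA.card_orb h]
  obtain ⟨_, x, rfl⟩ := O
  haveI : Fintype (cj x A) := Fintype.ofFinite _
  rw [Nat.card_eq_fintype_card, Fintype.card_subtype_compl, Fintype.card_subtype_eq,
    ← Nat.card_eq_fintype_card, card_cj]

/-- An element fixing all the conjugates of the offender is trivial. -/
theorem eq_one_of_fix_all {y : X} (hy : ∀ x : X, y ∈ normalizer (cj x A : Set X)) : y = 1 := by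
  obtain ⟨g, hg⟩ := hA.exists_conj_ne h
  obtain ⟨a, ha, ha1⟩ := hA.exists_mem h
  have hyA : y ∈ normalizer (A : Set X) := by simpa [cj_one] using hy 1
  have hodd := hA.odd_pair h (hA.conj g) hg ⟨hyA, hy g⟩
  have hcomm : a * y * a⁻¹ * y⁻¹ = 1 := by
    refine hA.eq_one_of_normalizes h (hA.conj g) hg ?_ (mul_mem ?_ (inv_mem (hy g)))
    · have := (mem_normalizer_iff.1 hyA a⁻¹).1 (inv_mem ha)
      have := mul_mem ha this
      simpa [mul_assoc] using this
    · have h2 := hy (a⁻¹ * g)
      rw [← cj_cj] at h2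
      rw [← cj_eq_iff_mem_normalizer] at h2 ⊢
      calc cj (a * y * a⁻¹) (cj g A) = cj a (cj y (cj a⁻¹ (cj g A))) := by simp only [cj_cj, mul_assoc]
        _ = cj g A := by rw [h2, cj_cj, mul_inv_cancel, cj_one]
  have hc : Commute a y := by
    have := mul_inv_eq_one.1 hcomm
    exact mul_inv_eq_iff_eq_mul.1 this
  exact h.cit a y (hA.invol h ha ha1) hodd hc

/-- For `q = 4` elements of orders three and five do not commute. -/
theorem not_commute_three_five (h4 : Nat.card A = 4) {y z : X} (hy : orderOf y = 3)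
    (hz : orderOf z = 5) (hc : Commute y z) : False := by
  haveI : Fact (Nat.Prime 5) := ⟨by norm_num⟩
  haveI : Fact (Nat.Prime 3) := ⟨by norm_num⟩
  letI : MulAction X (orb A) :=
    { smul := fun g O => ⟨cj g O.1, by
        obtain ⟨x, hx⟩ := O.2
        exact ⟨g * x, by rw [← hx, cj_cj]⟩⟩
      one_smul := fun O => Subtype.ext (cj_one _)
      mul_smul := fun a b O => Subtype.ext (cj_cj a b _).symm }
  have hn : ∀ (g : X) (O : orb A), g • O = O ↔ g ∈ normalizer ((O : Subgroup X) : Set X) :=
    fun g O => by rw [← cj_eq_iff_mem_normalizer]; exact Subtype.ext_iff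
  have hc5 : Nat.card (orb A) = 5 := by rw [hA.card_orb h, h4]
  -- `z` fixes no conjugate
  have hz0 : ∀ O : orb A, z • O ≠ O := by
    intro O hO
    obtain ⟨_, x, rfl⟩ := O
    have h12 := (hA.conj x).card_normalizer h
    rw [card_cj, h4] at h12
    have hdvd := Subgroup.orderOf_dvd_natCard _ ((hn z _).1 hO)
    rw [hz, h12] at hdvd
    norm_num at hdvd
  have hy1 : y ≠ 1 := fun e => by rw [e, orderOf_one] at hy; omega
  have hyP : IsPGroup 3 (zpowers y) := IsPGroup.of_card (n := 1) (by rw [Nat.card_zpowers, hy, pow_one])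
  have hmod := hyP.card_modEq_card_fixedPoints (orb A)
  rw [hc5] at hmod
  obtain ⟨O, hO⟩ : ∃ O : orb A, y • O = O := by
    by_contra! hne
    haveI : IsEmpty (MulAction.fixedPoints (zpowers y) (orb A)) :=
      ⟨fun O => hne O.1 (O.2 ⟨y, mem_zpowers y⟩)⟩
    rw [Nat.card_of_isEmpty] at hmod
    exact absurd hmod (by decide)
  have hall : ∀ n : ℕ, y • z ^ n • O = z ^ n • O := fun n => by
    rw [← mul_smul, (hc.pow_right n).eq, mul_smul, hO]
  have horb : ∀ O' : orb A, ∃ n : ℕ, z ^ n • O = O' := by
    have hinj : Function.Injective fun i : Fin 5 => z ^ (i : ℕ) • O := by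
      intro i j hij
      simp only at hij
      by_contra hne
      have hmin : MulAction.period z O ∣ 5 := hz ▸ MulAction.period_dvd_orderOf z O
      rcases (Nat.dvd_prime (Fact.out : Nat.Prime 5)).1 hmin with h1 | h5
      · exact hz0 O (MulAction.period_eq_one_iff.1 h1)
      · apply hne
        rcases le_total (i : ℕ) j with hle | hle
        · have h6 : z ^ ((j : ℕ) - i) • O = O := by
            apply smul_left_cancel (z ^ (i : ℕ))
            rw [smul_smul, ← pow_add, Nat.add_sub_cancel' hle, hij]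
          rw [MulAction.pow_smul_eq_iff_period_dvd, h5] at h6
          exact Fin.ext (by omega)
        · have h6 : z ^ ((i : ℕ) - j) • O = O := by
            apply smul_left_cancel (z ^ (j : ℕ))
            rw [smul_smul, ← pow_add, Nat.add_sub_cancel' hle, hij]
          rw [MulAction.pow_smul_eq_iff_period_dvd, h5] at h6
          exact Fin.ext (by omega)
    intro O'
    obtain ⟨i, hi⟩ := (hinj.bijective_of_nat_card_le (by rw [hc5, Nat.card_fin])).2 O'
    exact ⟨i, hi⟩
  refine hy1 (hA.eq_one_of_fix_all h fun x => (hn y ⟨cj x A, x, rfl⟩).1 ?_)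
  obtain ⟨n, hn'⟩ := horb ⟨cj x A, x, rfl⟩
  rw [← hn']
  exact hall n

end IsOffender

end CfsgLib.CIT
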