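import Cfsg.Agent.Lib.CIT.Main
import Cfsg.Agent.Lib.CIT.MaxAbelian
import Cfsg.Agent.Lib.CIT.CutTwo
import Cfsg.Agent.Lib.CIT.FourCase
import Cfsg.Agent.Lib.CIT.Natural.Large
import Cfsg.Agent.Lib.CIT.CNReduction

/-!
# The classification of simple CIT groups and of simple CN groups
-/

set_option autoImplicit false

namespace CfsgLib.CIT

/-- A simple CIT group is one of the small answers or has TI Sylow 2-subgroups. -/
theorem nonTI_or_exists_isTI {G : Type*} [Group G] [Finite G] [IsSimpleGroup G]
    (hab : ∃ a b : G, a * b ≠ b * a) (hC : IsCIT G) : NonTI G ∨ ∃ S : Sylow 2 G, IsTI S :=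
  nonTI_or_exists_isTI_of hab hC (fun _ _ _ h => exists_naturalLocal hC h)
    (fun V _ h => Or.inl (psl_of_self_centralising_four hab hC V (by rw [h.card_V]; norm_num)
      h.sq_V h.centralizer_eq))
    (fun V A q h hq => nonTI_of_large hC V A q h hq)

theorem classification {G : Type*} [Group G] [Finite G] [IsSimpleGroup G]
    (hab : ∃ a b : G, a * b ≠ b * a) (hC : IsCIT G) : Conclusion G :=
  classification_of hab hC (fun F _ _ he => psl_two_card hC F he)
    (fun _ _ _ h => exists_naturalLocal hC h)
    (fun V _ h => Or.inl (psl_of_self_centralising_four hab hC V (by rw [h.card_V]; norm_num)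
      h.sq_V h.centralizer_eq))
    (fun V A q h hq => nonTI_of_large hC V A q h hq)

end CfsgLib.CIT
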