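import Cfsg.Agent.Lib.Invol.BaerSuzuki

/-!
# Failure of factorization modules of CIT type

A finite group `X` acts faithfully on an elementary abelian 2-group `V` so that elements of odd
order act fixed-point-freely, no involution centralises a non-trivial element of odd order and no
non-trivial normal 2-subgroup exists. Every involution then fixes exactly a square root of `V`,
and a quadratic offender is a Sylow 2-subgroup of order `q = √|V|`.
-/

set_option autoImplicit false

namespace CfsgLib.CIT

open scoped Pointwise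

/-- The hypotheses on the pair `(X, V)`. -/
structure FFSetting (X V : Type*) [Group X] [CommGroup V] [MulDistribMulAction X V] : Prop where
  faithful : ∀ x : X, (∀ v : V, x • v = v) → x = 1
  two : ∀ v : V, v * v = 1
  fpf : ∀ x : X, Odd (orderOf x) → x ≠ 1 → ∀ v : V, x • v = v → v = 1
  cit : ∀ t x : X, orderOf t = 2 → Odd (orderOf x) → Commute t x → x = 1
  core : ∀ N : Subgroup X, N.Normal → IsPGroup 2 N → N = ⊥

variable {X V : Type*} [Group X] [CommGroup V] [MulDistribMulAction X V]

/-- The fixed points of an element, as a subgroup. -/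
def fixE (x : X) : Subgroup V where
  carrier := {v | x • v = v}
  mul_mem' {a b} ha hb := by
    show x • (a * b) = a * b
    rw [smul_mul', ha, hb]
  one_mem' := smul_one x
  inv_mem' {a} ha := by
    show x • a⁻¹ = a⁻¹
    rw [smul_inv', ha]

theorem mem_fixE {x : X} {v : V} : v ∈ fixE (V := V) x ↔ x • v = v := Iff.rfl

/-- The fixed points of a subgroup. -/
def fixS (A : Subgroup X) : Subgroup V := ⨅ a : A, fixE (V := V) (a : X)

theorem mem_fixS {A : Subgroup X} {v : V} : v ∈ fixS (V := V) A ↔ ∀ a ∈ A, a • v = v := by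
  simp [fixS, Subgroup.mem_iInf, mem_fixE]

theorem mem_fixE_conj {g x : X} {v : V} :
    v ∈ fixE (V := V) (g * x * g⁻¹) ↔ g⁻¹ • v ∈ fixE (V := V) x := by
  rw [mem_fixE, mem_fixE, mul_smul, mul_smul, eq_inv_smul_iff]

theorem card_fixE_conj (g x : X) :
    Nat.card (fixE (V := V) (g * x * g⁻¹)) = Nat.card (fixE (V := V) x) :=
  Nat.card_congr
    { toFun := fun v => ⟨g⁻¹ • (v : V), mem_fixE_conj.1 v.2⟩
      invFun := fun v => ⟨g • (v : V), mem_fixE_conj.2 (by rw [inv_smul_smul]; exact v.2)⟩
      left_inv := fun v => Subtype.ext (smul_inv_smul g (v : V))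
      right_inv := fun v => Subtype.ext (inv_smul_smul g (v : V)) }

/-- The commutator homomorphism `v ↦ (x • v) / v`. -/
def dlt (x : X) : V →* V where
  toFun v := x • v / v
  map_one' := by rw [smul_one, div_one]
  map_mul' a b := by rw [smul_mul', mul_div_mul_comm]

theorem dlt_apply (x : X) (v : V) : dlt x v = x • v / v := rfl

theorem smul_eq_dlt_mul (x : X) (v : V) : x • v = dlt x v * v := by
  rw [dlt_apply, div_mul_cancel]

theorem ker_dlt (x : X) : (dlt (V := V) x).ker = fixE (V := V) x := by
  ext v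
  rw [MonoidHom.mem_ker, dlt_apply, div_eq_one, mem_fixE]

namespace FFSetting

variable (h : FFSetting X V)
include h

theorem inv_eq (v : V) : v⁻¹ = v := inv_eq_of_mul_eq_one_right (h.two v)

theorem range_le_fixE {a : X} (ha : a * a = 1) : (dlt (V := V) a).range ≤ fixE (V := V) a := by
  rintro _ ⟨v, rfl⟩
  rw [mem_fixE, dlt_apply, smul_div', smul_smul, ha, one_smul]
  rw [div_eq_mul_inv, div_eq_mul_inv, h.inv_eq, h.inv_eq, mul_comm]

variable [Finite X] [Finite V]

/-- An involution fixes exactly a square root of the module, and that is its commutator. -/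
theorem invol_data {a : X} (ha : orderOf a = 2) :
    Nat.card (fixE (V := V) a) ^ 2 = Nat.card V ∧
      (dlt (V := V) a).range = fixE (V := V) a := by
  have ha2 : a * a = 1 := by rw [← pow_two, ← ha, pow_orderOf_eq_one]
  have hle := h.range_le_fixE ha2
  have hmul : Nat.card (fixE (V := V) a) * Nat.card (dlt (V := V) a).range = Nat.card V := by
    rw [← ker_dlt, ← Subgroup.index_ker, Subgroup.card_mul_index]
  obtain ⟨y, hy1, hyo, hay⟩ := Invol.exists_odd_inverted_of_notMem_normal_two ha fun N hN hN2 hmem => by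
    rw [h.core N hN hN2, Subgroup.mem_bot] at hmem
    rw [hmem, orderOf_one] at ha
    exact absurd ha (by norm_num)
  -- a second conjugate with trivially meeting fixed points
  have hc : ∃ g : X, g * a * g⁻¹ = a * y := by
    obtain ⟨k, hk⟩ := hyo
    refine ⟨y ^ k, ?_⟩
    have h1 : a * y ^ k = (y ^ k)⁻¹ * a := by
      have := congrArg (fun z => z ^ k) hay
      simp only [conj_pow] at this
      rw [inv_pow] at this
      rw [← this]
      group
    have h2 : (y ^ k)⁻¹ = y ^ (k + 1) := by
      apply inv_eq_of_mul_eq_one_right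
      rw [← pow_add, show k + (k + 1) = 2 * k + 1 by ring, ← hk, pow_orderOf_eq_one]
    calc y ^ k * a * (y ^ k)⁻¹ = a * (a⁻¹ * y ^ k * a) * (y ^ k)⁻¹ := by group
      _ = a * (y ^ k)⁻¹ * (y ^ k)⁻¹ := by
          rw [inv_eq_of_mul_eq_one_right ha2]
          have : a * y ^ k * a = (y ^ k)⁻¹ := by rw [h1, mul_assoc, ha2, mul_one]
          rw [this]
      _ = a * y := by
          rw [h2, mul_assoc, ← pow_add]
          congr 1
          rw [show k + 1 + (k + 1) = (2 * k + 1) + 1 by ring, pow_succ, ← hk, pow_orderOf_eq_one,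
            one_mul]
  obtain ⟨g, hg⟩ := hc
  have hdis : fixE (V := V) a ⊓ fixE (V := V) (a * y) = ⊥ := by
    rw [eq_bot_iff]
    rintro v ⟨hv1, hv2⟩
    refine Subgroup.mem_bot.2 (h.fpf y hyo hy1 v ?_)
    have e : y = a * (a * y) := by rw [← mul_assoc, ha2, one_mul]
    rw [e, mul_smul]
    rw [mem_fixE.1 hv2, mem_fixE.1 hv1]
  have hcard : Nat.card (fixE (V := V) a) * Nat.card (fixE (V := V) (a * y)) ≤ Nat.card V := by
    rw [← Nat.card_prod]
    refine Nat.card_le_card_of_injective
      (fun p : fixE (V := V) a × fixE (V := V) (a * y) => (p.1 : V) * p.2) ?_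
    exact Subgroup.mul_injective_of_disjoint (disjoint_iff.2 hdis)
  rw [← hg, card_fixE_conj] at hcard
  have hrle : Nat.card (dlt (V := V) a).range ≤ Nat.card (fixE (V := V) a) :=
    Subgroup.card_le_of_le hle
  have hpos : 0 < Nat.card (fixE (V := V) a) := Nat.card_pos
  have heq : Nat.card (dlt (V := V) a).range = Nat.card (fixE (V := V) a) := by
    refine le_antisymm hrle (Nat.le_of_mul_le_mul_left ?_ hpos)
    rw [hmul]
    exact hcard
  refine ⟨?_, Subgroup.eq_of_le_of_card_ge hle heq.ge⟩
  rw [pow_two]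
  calc Nat.card (fixE (V := V) a) * Nat.card (fixE (V := V) a)
      = Nat.card (fixE (V := V) a) * Nat.card (dlt (V := V) a).range := by rw [heq]
    _ = _ := hmul

theorem card_fixE_eq {a b : X} (ha : orderOf a = 2) (hb : orderOf b = 2) :
    Nat.card (fixE (V := V) a) = Nat.card (fixE (V := V) b) :=
  Nat.pow_left_injective (by norm_num : (2 : ℕ) ≠ 0)
    ((h.invol_data ha).1.trans (h.invol_data hb).1.symm)

/-- The stabiliser of a non-trivial vector is a 2-group. -/
theorem isPGroup_stabilizer {v : V} (hv : v ≠ 1) : IsPGroup 2 (MulAction.stabilizer X v) := by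
  intro x
  obtain ⟨k, m, hm, hkm⟩ := Nat.exists_eq_two_pow_mul_odd (orderOf_pos (x : X)).ne'
  refine ⟨k, Subtype.ext ?_⟩
  show (x : X) ^ 2 ^ k = 1
  by_contra hne
  have ho : Odd (orderOf ((x : X) ^ 2 ^ k)) := by
    rw [orderOf_pow, hkm, Nat.gcd_mul_right_left, Nat.mul_div_cancel_left _ (Nat.two_pow_pos k)]
    exact hm
  exact hv (h.fpf _ ho hne v (MulAction.mem_stabilizer_iff.1 (x ^ 2 ^ k).2))

end FFSetting

end CfsgLib.CIT
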