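import Cfsg.Agent.Lib.CIT.FFModule
import Mathlib.GroupTheory.Nilpotent

/-!
# Quadratic offenders of CIT type

In the situation of `FFSetting` a quadratic offender `A` is a Sylow 2-subgroup of order `q`, the
conjugates of its fixed space form a spread with `q + 1` members, the stabiliser of two of them is
a group of order `q - 1` inverted by the swapping involutions, and every element `a ≠ 1` of `A`
has a swapping involution `w` with `(a * w) ^ 3 = 1`.
-/

set_option autoImplicit false

namespace CfsgLib.CIT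

open Subgroup

variable {X V : Type*} [Group X] [CommGroup V] [MulDistribMulAction X V]

/-- The conjugate of a subgroup. -/
def cj (g : X) (A : Subgroup X) : Subgroup X := A.map (MulAut.conj g).toMonoidHom

theorem mem_cj {g : X} {A : Subgroup X} {x : X} : x ∈ cj g A ↔ g⁻¹ * x * g ∈ A := by
  constructor
  · rintro ⟨y, hy, rfl⟩
    simpa [MulAut.conj_apply, mul_assoc] using hy
  · intro hx
    exact ⟨_, hx, by simp [MulAut.conj_apply, mul_assoc]⟩

theorem cj_one (A : Subgroup X) : cj 1 A = A := by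
  ext x; simp [mem_cj]

theorem cj_cj (g h : X) (A : Subgroup X) : cj g (cj h A) = cj (g * h) A := by
  ext x; simp [mem_cj, mul_assoc]

theorem cj_eq_iff_mem_normalizer {g : X} {A : Subgroup X} :
    cj g A = A ↔ g ∈ normalizer (A : Set X) := by
  rw [mem_normalizer_iff]
  constructor
  · intro he x
    conv_rhs => rw [← he, mem_cj]
    simp [mul_assoc]
  · intro he
    ext x
    rw [mem_cj, he]
    simp [mul_assoc]

theorem cj_of_mem {g : X} {A : Subgroup X} (hg : g ∈ A) : cj g A = A :=
  cj_eq_iff_mem_normalizer.2 (Subgroup.le_normalizer hg)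

theorem cj_inv_eq {g : X} {A C : Subgroup X} (h : cj g A = C) : cj g⁻¹ C = A := by
  rw [← h, cj_cj, inv_mul_cancel, cj_one]

theorem card_cj (g : X) (A : Subgroup X) : Nat.card (cj g A) = Nat.card A :=
  Subgroup.card_map_of_injective (MulAut.conj g).injective

theorem mem_fixS_cj {g : X} {A : Subgroup X} {v : V} :
    v ∈ fixS (V := V) (cj g A) ↔ g⁻¹ • v ∈ fixS (V := V) A := by
  simp only [mem_fixS, mem_cj]
  constructor
  · intro h a ha
    have := h (g * a * g⁻¹) (by simpa [mul_assoc] using ha)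
    rwa [mul_smul, mul_smul, ← eq_inv_smul_iff] at this
  · intro h x hx
    have := h _ hx
    rw [mul_smul, mul_smul, smul_inv_smul, smul_left_cancel_iff] at this
    exact this

theorem smul_mem_fixS {g : X} {A : Subgroup X} (hg : g ∈ normalizer (A : Set X)) {v : V}
    (hv : v ∈ fixS (V := V) A) : g • v ∈ fixS (V := V) A := by
  have h : g • v ∈ fixS (V := V) (cj g A) := mem_fixS_cj.2 (by rw [inv_smul_smul]; exact hv)
  rwa [cj_eq_iff_mem_normalizer.2 hg] at h

/-- A quadratic offender. -/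
structure IsOffender (V : Type*) [CommGroup V] [MulDistribMulAction X V] (A : Subgroup X) :
    Prop where
  two : IsPGroup 2 A
  ne : A ≠ ⊥
  comm : ∀ a ∈ A, ∀ b ∈ A, a * b = b * a
  quad : ∀ a ∈ A, ∀ b ∈ A, ∀ v : V, b • dlt a v = dlt a v
  large : Nat.card V ≤ Nat.card A * Nat.card (fixS (V := V) A)

theorem IsOffender.conj {A : Subgroup X} (hA : IsOffender V A) (g : X) :
    IsOffender V (cj g A) := by
  refine ⟨hA.two.map _, ?_, ?_, ?_, ?_⟩
  · intro h
    exact hA.ne ((Subgroup.map_eq_bot_iff_of_injective _ (MulAut.conj g).injective).1 h)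
  · intro a ha b hb
    have := hA.comm _ (mem_cj.1 ha) _ (mem_cj.1 hb)
    have h2 := congrArg (fun z => g * z * g⁻¹) this
    simpa [mul_assoc] using h2
  · intro a ha b hb v
    have := hA.quad _ (mem_cj.1 ha) _ (mem_cj.1 hb) (g⁻¹ • v)
    simp only [dlt_apply, mul_smul, smul_inv_smul, ← smul_div', smul_left_cancel_iff] at this
    simpa [dlt_apply] using this
  · rw [card_cj]
    refine hA.large.trans (Nat.mul_le_mul_left _ (le_of_eq ?_))
    exact Nat.card_congr
      { toFun := fun v => ⟨g • (v : V), mem_fixS_cj.2 (by rw [inv_smul_smul]; exact v.2)⟩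
        invFun := fun v => ⟨g⁻¹ • (v : V), mem_fixS_cj.1 v.2⟩
        left_inv := fun v => Subtype.ext (inv_smul_smul g (v : V))
        right_inv := fun v => Subtype.ext (smul_inv_smul g (v : V)) }

variable (h : FFSetting X V) {A C : Subgroup X}
include h

namespace IsOffender

theorem mul_self (hA : IsOffender V A) {a : X} (ha : a ∈ A) : a * a = 1 := by
  refine h.faithful _ fun v => ?_
  rw [mul_smul, smul_eq_dlt_mul a v, smul_mul', hA.quad a ha a ha v, smul_eq_dlt_mul a v,
    ← mul_assoc, h.two, one_mul]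

theorem invol (hA : IsOffender V A) {a : X} (ha : a ∈ A) (ha1 : a ≠ 1) : orderOf a = 2 :=
  orderOf_eq_prime (by rw [pow_two]; exact hA.mul_self h ha) ha1

variable [Finite X] [Finite V]

theorem fixE_eq (hA : IsOffender V A) {a : X} (ha : a ∈ A) (ha1 : a ≠ 1) :
    fixE (V := V) a = fixS (V := V) A := by
  refine le_antisymm ?_ fun v hv => mem_fixS.1 hv a ha
  rw [← (h.invol_data (hA.invol h ha ha1)).2]
  rintro _ ⟨v, rfl⟩
  exact mem_fixS.2 fun b hb => hA.quad a ha b hb v

omit [Finite V] in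
theorem exists_mem (hA : IsOffender V A) : ∃ a ∈ A, a ≠ 1 := by
  obtain ⟨a, ha⟩ := A.ne_bot_iff_exists_ne_one.1 hA.ne
  exact ⟨a, a.2, fun e => ha (Subtype.ext e)⟩

theorem card_V (hA : IsOffender V A) : Nat.card (fixS (V := V) A) ^ 2 = Nat.card V := by
  obtain ⟨a, ha, ha1⟩ := hA.exists_mem h
  rw [← hA.fixE_eq h ha ha1]
  exact (h.invol_data (hA.invol h ha ha1)).1

theorem one_lt (hA : IsOffender V A) : 1 < Nat.card (fixS (V := V) A) := by
  obtain ⟨a, ha, ha1⟩ := hA.exists_mem h
  by_contra hle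
  have h1 : Nat.card (fixS (V := V) A) = 1 := le_antisymm (not_lt.1 hle) Nat.card_pos
  have hV : Nat.card V = 1 := by rw [← hA.card_V h, h1, one_pow]
  haveI : Subsingleton V := (Nat.card_eq_one_iff_unique.1 hV).1
  exact ha1 (h.faithful a fun v => Subsingleton.elim _ _)

theorem exists_notMem (hA : IsOffender V A) : ∃ w : V, w ∉ fixS (V := V) A := by
  by_contra hne
  push Not at hne
  have h1 := hA.card_V h
  rw [Nat.card_congr (Equiv.subtypeUnivEquiv hne), pow_two] at h1
  have h2 : Nat.card V ≤ 1 := Nat.le_of_mul_le_mul_left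
    (by rw [h1, mul_one]) Nat.card_pos
  have h3 := hA.one_lt h
  rw [Nat.card_congr (Equiv.subtypeUnivEquiv hne)] at h3
  omega

theorem dlt_mem (hA : IsOffender V A) {a : X} (ha : a ∈ A) (v : V) :
    dlt a v ∈ fixS (V := V) A :=
  mem_fixS.2 fun b hb => hA.quad a ha b hb v

theorem eq_of_smul_eq (hA : IsOffender V A) {a b : X} (ha : a ∈ A) (hb : b ∈ A) {w : V}
    (hw : w ∉ fixS (V := V) A) (he : a • w = b • w) : a = b := by
  by_contra hne
  have h1 : b⁻¹ * a ≠ 1 := fun e => hne (inv_mul_eq_one.1 e).symm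
  apply hw
  rw [← hA.fixE_eq h (mul_mem (inv_mem hb) ha) h1, mem_fixE, mul_smul, he, inv_smul_smul]

theorem card_eq (hA : IsOffender V A) : Nat.card A = Nat.card (fixS (V := V) A) := by
  obtain ⟨w, hw⟩ := hA.exists_notMem h
  refine le_antisymm (Nat.card_le_card_of_injective
    (fun a : A => (⟨dlt (a : X) w, hA.dlt_mem h a.2 w⟩ : fixS (V := V) A)) ?_) ?_
  · intro a b hab
    have : dlt (a : X) w = dlt (b : X) w := congrArg Subtype.val hab
    exact Subtype.ext (hA.eq_of_smul_eq h a.2 b.2 hw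
      (by rw [smul_eq_dlt_mul, smul_eq_dlt_mul (b : X), this]))
  · refine Nat.le_of_mul_le_mul_right ?_ (Nat.card_pos (α := fixS (V := V) A))
    rw [← pow_two, hA.card_V h]
    exact hA.large

theorem exists_dlt_eq (hA : IsOffender V A) {w : V} (hw : w ∉ fixS (V := V) A) {z : V}
    (hz : z ∈ fixS (V := V) A) : ∃ a ∈ A, dlt a w = z := by
  have hb : Function.Bijective
      (fun a : A => (⟨dlt (a : X) w, hA.dlt_mem h a.2 w⟩ : fixS (V := V) A)) := by
    refine Function.Injective.bijective_of_nat_card_le ?_ (hA.card_eq h).ge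
    intro a b hab
    have : dlt (a : X) w = dlt (b : X) w := congrArg Subtype.val hab
    exact Subtype.ext (hA.eq_of_smul_eq h a.2 b.2 hw
      (by rw [smul_eq_dlt_mul, smul_eq_dlt_mul (b : X), this]))
  obtain ⟨a, ha⟩ := hb.2 ⟨z, hz⟩
  exact ⟨a, a.2, congrArg Subtype.val ha⟩

theorem fix_card_eq (hA : IsOffender V A) (hC : IsOffender V C) :
    Nat.card (fixS (V := V) A) = Nat.card (fixS (V := V) C) :=
  Nat.pow_left_injective (by norm_num : (2 : ℕ) ≠ 0) ((hA.card_V h).trans (hC.card_V h).symm)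

/-- `A` is the group of all elements trivial on its fixed space and on the quotient by it. -/
theorem mem_of_trivial (hA : IsOffender V A) {k : X}
    (h1 : ∀ z ∈ fixS (V := V) A, k • z = z) (h2 : ∀ v : V, dlt k v ∈ fixS (V := V) A) :
    k ∈ A := by
  obtain ⟨w, hw⟩ := hA.exists_notMem h
  obtain ⟨a, ha, haw⟩ := hA.exists_dlt_eq h hw (h2 w)
  have hakw : (a * k) • w = w := by
    rw [mul_smul, smul_eq_dlt_mul k w, smul_mul', mem_fixS.1 (h2 w) a ha, smul_eq_dlt_mul a w,
      haw, ← mul_assoc, h.two, one_mul]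
  have h2' : ∀ v : V, dlt (a * k) v ∈ fixS (V := V) A := fun v => by
    have e : dlt (a * k) v = dlt k v * dlt a v := by
      rw [dlt_apply, mul_smul, smul_eq_dlt_mul k v, smul_mul', mem_fixS.1 (h2 v) a ha,
        dlt_apply a, mul_div_assoc]
    rw [e]
    exact mul_mem (h2 v) (hA.dlt_mem h ha v)
  have h1' : ∀ z ∈ fixS (V := V) A, (a * k) • z = z := fun z hz => by
    rw [mul_smul, h1 z hz, mem_fixS.1 hz a ha]
  have hsq : a * k * (a * k) = 1 := h.faithful _ fun v => by
    rw [mul_smul, smul_eq_dlt_mul (a * k) v, smul_mul', h1' _ (h2' v), smul_eq_dlt_mul (a * k) v,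
      ← mul_assoc, h.two, one_mul]
  by_contra hk
  have hne : a * k ≠ 1 := fun e => hk (by
    rw [← inv_eq_of_mul_eq_one_right e]
    exact inv_mem ha)
  have ho : orderOf (a * k) = 2 := orderOf_eq_prime (by rw [pow_two]; exact hsq) hne
  obtain ⟨a0, ha0, ha01⟩ := hA.exists_mem h
  have heq : fixS (V := V) A = fixE (V := V) (a * k) :=
    Subgroup.eq_of_le_of_card_ge (fun z hz => h1' z hz)
      (le_of_eq (by rw [← hA.fixE_eq h ha0 ha01]
                    exact h.card_fixE_eq ho (hA.invol h ha0 ha01)))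
  exact hw (heq ▸ (hakw : w ∈ fixE (V := V) (a * k)))

theorem eq_of_normalizes (hA : IsOffender V A) (hC : IsOffender V C)
    (hn : C ≤ normalizer (A : Set X)) {v : V} (hv : v ≠ 1) (hvA : v ∈ fixS (V := V) A)
    (hvC : v ∈ fixS (V := V) C) : C = A := by
  have hinv : ∀ c ∈ C, ∀ z ∈ fixS (V := V) A, c • z ∈ fixS (V := V) A := fun c hc z hz => by
    exact smul_mem_fixS (hn hc) hz
  have hdl : ∀ c ∈ C, ∀ z ∈ fixS (V := V) A,
      dlt c z ∈ fixS (V := V) A ⊓ fixS (V := V) C := fun c hc z hz =>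
    ⟨Subgroup.div_mem _ (hinv c hc z hz) hz, hC.dlt_mem h hc z⟩
  have hle : fixS (V := V) A ≤ fixS (V := V) C := by
    by_contra hnle
    obtain ⟨w, hwA, hwC⟩ := SetLike.not_le_iff_exists.1 hnle
    have hc : Nat.card C ≤ Nat.card ↥(fixS (V := V) A ⊓ fixS (V := V) C) := by
      refine Nat.card_le_card_of_injective
        (fun c : C => (⟨dlt (c : X) w, hdl c c.2 w hwA⟩ :
          ↥(fixS (V := V) A ⊓ fixS (V := V) C))) ?_
      intro c d hcd
      have : dlt (c : X) w = dlt (d : X) w := congrArg Subtype.val hcd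
      exact Subtype.ext (hC.eq_of_smul_eq h c.2 d.2 hwC
        (by rw [smul_eq_dlt_mul, smul_eq_dlt_mul (d : X), this]))
    rw [hC.card_eq h, ← hA.fix_card_eq h hC] at hc
    have := Subgroup.eq_of_le_of_card_ge
      (inf_le_left : fixS (V := V) A ⊓ fixS (V := V) C ≤ fixS (V := V) A) hc
    exact hnle (inf_eq_left.1 this)
  have heq : fixS (V := V) A = fixS (V := V) C :=
    Subgroup.eq_of_le_of_card_ge hle (hA.fix_card_eq h hC).ge
  refine Subgroup.eq_of_le_of_card_ge (fun c hc => hA.mem_of_trivial h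
    (fun z hz => mem_fixS.1 (hle hz) c hc) fun u => heq ▸ hC.dlt_mem h hc u) ?_
  rw [hA.card_eq h, hC.card_eq h, heq]

theorem eq_of_common (hA : IsOffender V A) (hC : IsOffender V C) {v : V} (hv : v ≠ 1)
    (hvA : v ∈ fixS (V := V) A) (hvC : v ∈ fixS (V := V) C) : C = A := by
  haveI : Fact (Nat.Prime 2) := ⟨Nat.prime_two⟩
  set P := MulAction.stabilizer X v with hP
  have hP2 : IsPGroup 2 P := h.isPGroup_stabilizer hv
  have hAP : A ≤ P := fun a ha => MulAction.mem_stabilizer_iff.2 (mem_fixS.1 hvA a ha)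
  have hCP : C ≤ P := fun c hc => MulAction.mem_stabilizer_iff.2 (mem_fixS.1 hvC c hc)
  have hnorm : P ≤ normalizer (A : Set X) := by
    by_contra hnle
    haveI := hP2.isNilpotent
    set N := (normalizer (A : Set X)).subgroupOf P with hN
    have hlt : N < ⊤ := by
      rw [lt_top_iff_ne_top, Ne, subgroupOf_eq_top]
      exact hnle
    obtain ⟨⟨g, hgP⟩, hgn, hgN⟩ :=
      SetLike.exists_of_lt (Group.normalizerCondition_of_isNilpotent N hlt)
    apply hgN
    rw [hN, mem_subgroupOf]
    have hle : cj g A ≤ normalizer (A : Set X) := fun x hx => by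
      have hx' := mem_cj.1 hx
      have hmem : (⟨g⁻¹ * x * g, hAP hx'⟩ : P) ∈ N := by
        rw [hN, mem_subgroupOf]
        exact Subgroup.le_normalizer hx'
      have := (mem_normalizer_iff.1 hgn _).1 hmem
      rw [hN, mem_subgroupOf] at this
      simpa [mul_assoc] using this
    have hvg : v ∈ fixS (V := V) (cj g A) := by
      rw [mem_fixS_cj, inv_smul_eq_iff.2 (MulAction.mem_stabilizer_iff.1 hgP).symm]
      exact hvA
    exact cj_eq_iff_mem_normalizer.1 (hA.eq_of_normalizes h (hA.conj g) hle hv hvA hvg)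
  exact hA.eq_of_normalizes h hC (hCP.trans hnorm) hv hvA hvC

theorem inf_fixS_eq_bot (hA : IsOffender V A) (hC : IsOffender V C) (hne : C ≠ A) :
    fixS (V := V) A ⊓ fixS (V := V) C = ⊥ := by
  rw [eq_bot_iff]
  rintro v ⟨h1, h2⟩
  by_contra hv
  exact hne (hA.eq_of_common h hC (fun e => hv (Subgroup.mem_bot.2 e)) h1 h2)

/-- An element of `A` normalising another offender is trivial. -/
theorem eq_one_of_normalizes (hA : IsOffender V A) (hC : IsOffender V C) (hne : C ≠ A)
    {a : X} (ha : a ∈ A) (hn : a ∈ normalizer (C : Set X)) : a = 1 := by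
  by_contra ha1
  obtain ⟨z, hz, hz1⟩ : ∃ z ∈ fixS (V := V) C, z ≠ 1 := by
    obtain ⟨z, hz⟩ := (fixS (V := V) C).ne_bot_iff_exists_ne_one.1
      ((Subgroup.one_lt_card_iff_ne_bot _).1 (hC.one_lt h))
    exact ⟨z, z.2, fun e => hz (Subtype.ext e)⟩
  have haz : a • z ∈ fixS (V := V) C := smul_mem_fixS hn hz
  have hbot := hA.inf_fixS_eq_bot h hC hne
  by_cases hfix : a • z = z
  · apply hz1
    have : z ∈ fixS (V := V) A ⊓ fixS (V := V) C :=
      ⟨by rw [← hA.fixE_eq h ha ha1]; exact hfix, hz⟩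
    rwa [hbot, Subgroup.mem_bot] at this
  · apply hfix
    have : dlt a z ∈ fixS (V := V) A ⊓ fixS (V := V) C :=
      ⟨hA.dlt_mem h ha z, Subgroup.div_mem _ haz hz⟩
    rw [hbot, Subgroup.mem_bot, dlt_apply, div_eq_one] at this
    exact this

theorem exists_conj_ne (hA : IsOffender V A) : ∃ g : X, cj g A ≠ A := by
  by_contra hall
  push Not at hall
  exact hA.ne (h.core A ⟨fun a ha g => by
    have := (mem_normalizer_iff.1 (cj_eq_iff_mem_normalizer.1 (hall g)) a).1 ha
    simpa using this⟩ hA.two)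

theorem injective_cj (hA : IsOffender V A) (hC : IsOffender V C) (hne : C ≠ A) {a b : X}
    (ha : a ∈ A) (hb : b ∈ A) (he : cj a C = cj b C) : a = b := by
  have h1 : cj (b⁻¹ * a) C = C := by rw [← cj_cj, he, cj_cj, inv_mul_cancel, cj_one]
  have := hA.eq_one_of_normalizes h hC hne (mul_mem (inv_mem hb) ha)
    (cj_eq_iff_mem_normalizer.1 h1)
  exact (inv_mul_eq_one.1 this).symm

/-- The conjugates of `A` other than `A` form one regular `A`-orbit. -/
theorem exists_cj_eq (hA : IsOffender V A) {g g' : X} (hg : cj g A ≠ A) (hg' : cj g' A ≠ A) :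
    ∃ a ∈ A, cj a (cj g A) = cj g' A := by
  classical
  set q := Nat.card (fixS (V := V) A) with hq
  let O : Set (Subgroup X) := Set.range fun x : X => cj x A
  have hupper : Nat.card O * (q - 1) ≤ Nat.card V - 1 := by
    haveI : Fintype V := Fintype.ofFinite V
    let Z : O → Type _ := fun E => {z : fixS (V := V) (E : Subgroup X) // z ≠ 1}
    have hoff : ∀ E : O, IsOffender V (E : Subgroup X) := fun E => by
      obtain ⟨x, hx⟩ := E.2
      rw [← hx]
      exact hA.conj x
    have hZc : ∀ E : O, Nat.card (Z E) = q - 1 := fun E => by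
      haveI : Fintype (fixS (V := V) (E : Subgroup X)) := Fintype.ofFinite _
      rw [hq, hA.fix_card_eq h (hoff E), Nat.card_eq_fintype_card, Nat.card_eq_fintype_card,
        Fintype.card_subtype_compl, Fintype.card_subtype_eq]
    have hV1 : Nat.card {v : V // v ≠ 1} = Nat.card V - 1 := by
      rw [Nat.card_eq_fintype_card, Nat.card_eq_fintype_card, Fintype.card_subtype_compl,
        Fintype.card_subtype_eq]
    calc Nat.card O * (q - 1) = Nat.card (Σ E : O, Z E) := by
          haveI : Fintype O := Fintype.ofFinite O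
          rw [Nat.card_sigma, Finset.sum_congr rfl (fun E _ => hZc E), Finset.sum_const,
            Finset.card_univ, Nat.card_eq_fintype_card, smul_eq_mul]
      _ ≤ Nat.card {v : V // v ≠ 1} := by
          refine Nat.card_le_card_of_injective
            (fun p : Σ E : O, Z E => (⟨(p.2.1 : V), fun e => p.2.2 (Subtype.ext e)⟩ :
              {v : V // v ≠ 1})) ?_
          rintro ⟨E, ⟨⟨z, hz⟩, hz1⟩⟩ ⟨E', ⟨⟨z', hz'⟩, hz1'⟩⟩ he
          have e : z = z' := congrArg Subtype.val he
          subst e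
          have hEE : E' = E := Subtype.ext ((hoff E).eq_of_common h (hoff E')
            (fun e => hz1 (Subtype.ext e)) hz hz')
          subst hEE
          rfl
      _ = Nat.card V - 1 := hV1
  have hq1 : 1 < q := hA.one_lt h
  have hOle : Nat.card O ≤ q + 1 := by
    refine Nat.le_of_mul_le_mul_right (hupper.trans (le_of_eq ?_)) (Nat.sub_pos_of_lt hq1)
    rw [← hA.card_V h, ← hq, ← Nat.sq_sub_sq q 1, one_pow]
  let f : Option A → O := fun o => match o with
    | none => ⟨A, 1, cj_one A⟩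
    | some a => ⟨cj (a : X) (cj g A), (a : X) * g, (cj_cj _ _ _).symm⟩
  have hne : ∀ a : A, cj (a : X) (cj g A) ≠ A := fun a e => by
    apply hg
    have := cj_inv_eq e
    rwa [cj_of_mem (inv_mem a.2), eq_comm] at this
  have hfi : Function.Injective f := by
    rintro (_ | a) (_ | b) he
    · rfl
    · exact absurd (congrArg Subtype.val he).symm (hne b)
    · exact absurd (congrArg Subtype.val he) (hne a)
    · exact congrArg some (Subtype.ext
        (hA.injective_cj h (hA.conj g) hg a.2 b.2 (congrArg Subtype.val he)))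
  have hfb : Function.Bijective f := hfi.bijective_of_nat_card_le (by
    haveI : Fintype A := Fintype.ofFinite A
    rw [Nat.card_eq_fintype_card (α := Option A), Fintype.card_option, ← Nat.card_eq_fintype_card,
      hA.card_eq h]
    exact hOle)
  obtain ⟨o, ho⟩ := hfb.2 ⟨cj g' A, g', rfl⟩
  rcases o with _ | a
  · exact absurd (congrArg Subtype.val ho).symm hg'
  · exact ⟨a, a.2, congrArg Subtype.val ho⟩

theorem exists_fixed_mem (hA : IsOffender V A) {g : X} (hg : g * g = 1)
    (hgA : g ∈ normalizer (A : Set X)) : ∃ a ∈ A, a ≠ 1 ∧ Commute g a := by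
  obtain ⟨a, ha, ha1⟩ := hA.exists_mem h
  have hga : g * a * g ∈ A := by
    have := (mem_normalizer_iff.1 hgA a).1 ha
    rwa [inv_eq_of_mul_eq_one_right hg] at this
  by_cases hb : a * (g * a * g) = 1
  · refine ⟨a, ha, ha1, ?_⟩
    have e : g * a * g = a :=
      (inv_eq_of_mul_eq_one_right hb).symm.trans (inv_eq_of_mul_eq_one_right (hA.mul_self h ha))
    show g * a = a * g
    calc g * a = g * a * (g * g) := by rw [hg, mul_one]
      _ = g * a * g * g := by group
      _ = a * g := by rw [e]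
  · refine ⟨a * (g * a * g), mul_mem ha hga, hb, ?_⟩
    show g * (a * (g * a * g)) = a * (g * a * g) * g
    calc g * (a * (g * a * g)) = g * ((g * a * g) * a) := by rw [hA.comm a ha _ hga]
      _ = (g * g) * a * g * a := by group
      _ = a * g * a * (g * g) := by rw [hg, one_mul, mul_one]
      _ = a * (g * a * g) * g := by group

/-- No involution outside `A` normalises both `A` and another conjugate. -/
theorem no_invol_pair (hA : IsOffender V A) (hC : IsOffender V C) (hne : C ≠ A) {g : X}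
    (hg : orderOf g = 2) (hgA : g ∈ normalizer (A : Set X))
    (hgC : g ∈ normalizer (C : Set X)) : False := by
  haveI : Fact (Nat.Prime 2) := ⟨Nat.prime_two⟩
  have hgg : g * g = 1 := by rw [← pow_two, ← hg, pow_orderOf_eq_one]
  obtain ⟨a, ha, ha1, hga⟩ := hA.exists_fixed_mem h hgg hgA
  obtain ⟨c, hc, hc1, hgc⟩ := hC.exists_fixed_mem h hgg hgC
  obtain ⟨k, m, hm, hkm⟩ := Nat.exists_eq_two_pow_mul_odd (orderOf_pos (a * c)).ne'
  have hy : (a * c) ^ 2 ^ k = 1 := by
    refine h.cit g _ hg ?_ ((hga.mul_right hgc).pow_right _)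
    rw [orderOf_pow, hkm, Nat.gcd_mul_right_left, Nat.mul_div_cancel_left _ (Nat.two_pow_pos k)]
    exact hm
  obtain ⟨i, -, hi⟩ := (Nat.dvd_prime_pow Nat.prime_two).1 (orderOf_dvd_of_pow_eq_one hy)
  have hD := Invol.isPGroup_two_closure_pair (hA.invol h ha ha1) (hC.invol h hc hc1) hi
  set D := closure ({a, c} : Set X) with hDdef
  obtain ⟨n, hn⟩ := (IsPGroup.iff_card (p := 2) (G := V)).1 fun v => ⟨1, by rw [pow_one, pow_two, h.two]⟩
  have hn0 : n ≠ 0 := by
    rintro rfl
    have := hA.card_V h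
    rw [hn, pow_zero, pow_two] at this
    have h2 := hA.one_lt h
    nlinarith
  have hfix := hD.card_modEq_card_fixedPoints V
  obtain ⟨v, hv, hv1⟩ : ∃ v : V, v ∈ MulAction.fixedPoints D V ∧ v ≠ 1 := by
    by_contra hnone
    push Not at hnone
    have h1 : Nat.card (MulAction.fixedPoints D V) = 1 := by
      rw [Nat.card_eq_one_iff_unique]
      exact ⟨⟨fun x y => Subtype.ext ((hnone _ x.2).trans (hnone _ y.2).symm)⟩,
        ⟨⟨1, fun d => smul_one _⟩⟩⟩
    rw [h1, hn] at hfix
    have : (2 ^ n) % 2 = 1 % 2 := hfix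
    rw [Nat.pow_mod] at this
    simp [zero_pow hn0] at this
  have hva : v ∈ fixS (V := V) A := by
    rw [← hA.fixE_eq h ha ha1]
    exact hv ⟨a, subset_closure (by simp)⟩
  have hvc : v ∈ fixS (V := V) C := by
    rw [← hC.fixE_eq h hc hc1]
    exact hv ⟨c, subset_closure (by simp)⟩
  exact hne (hA.eq_of_common h hC hv1 hva hvc)

/-- A 2-element normalising `A` lies in `A`. -/
theorem mem_of_two_element (hA : IsOffender V A) {g : X} {k : ℕ} (hk : g ^ 2 ^ k = 1)
    (hn : g ∈ normalizer (A : Set X)) : g ∈ A := by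
  by_contra hgA
  obtain ⟨x, hx⟩ := hA.exists_conj_ne h
  set C := cj x A with hCdef
  have hg2 : cj g C ≠ A := fun e => by
    apply hx
    have := cj_inv_eq e
    rwa [cj_eq_iff_mem_normalizer.2 (inv_mem hn), eq_comm] at this
  obtain ⟨a, ha, hag⟩ := hA.exists_cj_eq h hx (g' := g * x) (by rw [← cj_cj]; exact hg2)
  rw [← cj_cj] at hag
  set g0 := a⁻¹ * g with hg0
  have hfix : cj g0 C = C := by
    rw [hg0, ← cj_cj, ← hag, cj_cj, inv_mul_cancel, cj_one]
  have hg0A : g0 ∉ A := fun e => hgA (by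
    have := mul_mem ha e
    rwa [hg0, mul_inv_cancel_left] at this)
  have hg0n : g0 ∈ normalizer (A : Set X) := mul_mem (inv_mem (Subgroup.le_normalizer ha)) hn
  -- a 2-element
  have hP : IsPGroup 2 ↥(A ⊔ zpowers g) := by
    refine IsPGroup.to_sup_of_normal_left' hA.two ?_ ((zpowers_le).2 hn)
    intro y
    obtain ⟨i, hi⟩ := Subgroup.mem_zpowers_iff.1 y.2
    refine ⟨k, Subtype.ext ?_⟩
    show (y : X) ^ 2 ^ k = 1
    rw [← hi, ← zpow_natCast, zpow_comm, zpow_natCast, hk, one_zpow]
  obtain ⟨j, hj⟩ := IsPGroup.iff_orderOf.1 hP ⟨g0, mul_mem (inv_mem (mem_sup_left ha))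
    (mem_sup_right (mem_zpowers g))⟩
  rw [Subgroup.orderOf_mk] at hj
  have hj0 : j ≠ 0 := by
    rintro rfl
    rw [pow_zero, orderOf_eq_one_iff] at hj
    exact hg0A (hj ▸ one_mem A)
  refine hA.no_invol_pair h (hA.conj x) hx (g := g0 ^ 2 ^ (j - 1)) ?_ (pow_mem hg0n _)
    (pow_mem (cj_eq_iff_mem_normalizer.1 hfix) _)
  rw [orderOf_pow, hj, Nat.gcd_eq_right (pow_dvd_pow 2 (Nat.sub_le j 1)),
    Nat.pow_div (Nat.sub_le j 1) two_pos, Nat.sub_sub_self (Nat.one_le_iff_ne_zero.2 hj0), pow_one]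

/-- An offender is a Sylow 2-subgroup. -/
theorem exists_sylow (hA : IsOffender V A) : ∃ S : Sylow 2 X, (S : Subgroup X) = A := by
  haveI : Fact (Nat.Prime 2) := ⟨Nat.prime_two⟩
  obtain ⟨S, hS⟩ := hA.two.exists_le_sylow
  refine ⟨S, le_antisymm ?_ hS⟩
  by_contra hnle
  haveI := S.2.isNilpotent
  have hlt : A.subgroupOf (S : Subgroup X) < ⊤ := by
    rw [lt_top_iff_ne_top, Ne, subgroupOf_eq_top]
    exact hnle
  obtain ⟨⟨g, hgS⟩, hgn, hgA⟩ :=
    SetLike.exists_of_lt (Group.normalizerCondition_of_isNilpotent _ hlt)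
  obtain ⟨k, hk⟩ := S.2 ⟨g, hgS⟩
  apply hgA
  rw [mem_subgroupOf]
  refine hA.mem_of_two_element h (congrArg Subtype.val hk) ?_
  refine Subgroup.mem_normalizer_fintype fun x hx => ?_
  have := (mem_normalizer_iff.1 hgn ⟨x, hS hx⟩).1 (by rw [mem_subgroupOf]; exact hx)
  rw [mem_subgroupOf] at this
  exact this

/-- The point stabiliser of two conjugates has odd order. -/
theorem odd_pair (hA : IsOffender V A) (hC : IsOffender V C) (hne : C ≠ A) {d : X}
    (hd : d ∈ normalizer (A : Set X) ⊓ normalizer (C : Set X)) : Odd (orderOf d) := by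
  rw [← Nat.not_even_iff_odd, even_iff_two_dvd]
  rintro ⟨i, hi⟩
  refine hA.no_invol_pair h hC hne (g := d ^ i) ?_ (pow_mem hd.1 _) (pow_mem hd.2 _)
  have hi0 : i ≠ 0 := by
    rintro rfl
    exact absurd hi (by rw [mul_zero]; exact (orderOf_pos d).ne')
  rw [orderOf_pow, hi, Nat.gcd_eq_right (dvd_mul_left i 2), Nat.mul_div_cancel _ (Nat.pos_of_ne_zero hi0)]

/-- The swapping involution attached to `a`. -/
theorem exists_swap (hA : IsOffender V A) {x : X} (hx : cj x A ≠ A) {a : X} (ha : a ∈ A)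
    (ha1 : a ≠ 1) :
    ∃ w : X, orderOf w = 2 ∧ cj w A = cj x A ∧ cj w (cj x A) = A ∧
      cj w (cj a (cj x A)) = cj a (cj x A) ∧ orderOf (a * w) = 3 := by
  set C := cj x A with hCdef
  have hC : IsOffender V C := hA.conj x
  set E := cj a C with hEdef
  have haa : a * a = 1 := hA.mul_self h ha
  have hCE : E ≠ C := fun e =>
    ha1 (hA.eq_one_of_normalizes h hC hx ha (cj_eq_iff_mem_normalizer.1 e))
  have hAE : E ≠ A := fun e => hx (by
    have := cj_inv_eq e
    rwa [cj_of_mem (inv_mem ha), eq_comm] at this)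
  have h1 : cj x⁻¹ C = A := cj_inv_eq rfl
  obtain ⟨c, hc, hcE⟩ : ∃ c ∈ C, cj c A = E := by
    have := hC.exists_cj_eq h (g := x⁻¹) (g' := a)
      (by rw [h1]; exact fun e => hx e.symm) hCE
    rwa [h1] at this
  have hcc : c * c = 1 := hC.mul_self h hc
  have hc1 : c ≠ 1 := fun e => hAE (by rw [← hcE, e, cj_one])
  have haE : cj a E = C := by rw [hEdef, cj_cj, haa, cj_one]
  have hcEA : cj c E = A := by rw [← hcE, cj_cj, hcc, cj_one]
  set w := a * c * a with hw
  have hwA : cj w A = C := by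
    rw [hw, ← cj_cj, ← cj_cj, cj_of_mem ha, hcE, haE]
  have hww : w * w = 1 := by
    calc w * w = a * c * (a * a) * c * a := by rw [hw]; group
      _ = 1 := by rw [haa, mul_one, mul_assoc a c c, hcc, mul_one, haa]
  have hwC : cj w C = A := by
    rw [← hwA, cj_cj, hww, cj_one]
  have hwE : cj w E = E := by
    calc cj w E = cj (a * c * a * a) C := by rw [hEdef, cj_cj, hw]
      _ = cj a (cj c C) := by rw [mul_assoc (a * c), haa, mul_one, ← cj_cj a c C]
      _ = E := by rw [cj_of_mem hc]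
  have hw1 : w ≠ 1 := fun e => hx (by rw [← hwA, e, cj_one])
  refine ⟨w, orderOf_eq_prime (by rw [pow_two]; exact hww) hw1, hwA, hwC, hwE, ?_⟩
  have hwcA : cj (c * w * c) A = A := by
    rw [← cj_cj, ← cj_cj, hcE, hwE, hcEA]
  have hwc2 : (c * w * c) ^ 2 ^ 1 = 1 := by
    calc (c * w * c) ^ 2 ^ 1 = c * w * (c * c) * w * c := by rw [pow_one, pow_two]; group
      _ = 1 := by rw [hcc, mul_one, mul_assoc c w w, hww, mul_one, hcc]
  have hmem : c * w * c ∈ A :=
    hA.mem_of_two_element h hwc2 (cj_eq_iff_mem_normalizer.1 hwcA)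
  have hval : c * w * c = a := hA.injective_cj h hC hx hmem ha (by
    rw [← cj_cj, ← cj_cj, cj_of_mem hc, hwC, hcE])
  have haw : a * w = c * a := by
    calc a * w = (a * a) * c * a := by rw [hw]; group
      _ = c * a := by rw [haa, one_mul]
  rw [haw]
  refine orderOf_eq_prime ?_ fun e => ?_
  · calc (c * a) ^ 3 = c * (a * c * a) * c * a := by rw [pow_succ, pow_two]; group
      _ = c * w * c * a := by rw [← hw]
      _ = 1 := by rw [hval, haa]
  · apply hCE
    rw [hEdef, ← inv_eq_of_mul_eq_one_right e, cj_of_mem (inv_mem hc)]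

/-- The stabiliser of two conjugates has order `q - 1` and is inverted by every swapping
involution. -/
theorem pair_data (hA : IsOffender V A) {x : X} (hx : cj x A ≠ A) :
    Nat.card ↥(normalizer (A : Set X) ⊓ normalizer (cj x A : Set X)) =
        Nat.card (fixS (V := V) A) - 1 ∧
      ∀ w : X, orderOf w = 2 → cj w A = cj x A → cj w (cj x A) = A →
        ∀ d ∈ normalizer (A : Set X) ⊓ normalizer (cj x A : Set X), w * d * w⁻¹ = d⁻¹ := by
  classical
  set C := cj x A with hCdef
  set D := normalizer (A : Set X) ⊓ normalizer (C : Set X) with hD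
  have hC : IsOffender V C := hA.conj x
  haveI : Fintype A := Fintype.ofFinite A
  haveI : Fintype (fixS (V := V) A) := Fintype.ofFinite _
  have hA1 : Nat.card {a : A // a ≠ 1} = Nat.card (fixS (V := V) A) - 1 := by
    rw [← hA.card_eq h, Nat.card_eq_fintype_card, Nat.card_eq_fintype_card,
      Fintype.card_subtype_compl, Fintype.card_subtype_eq]
  -- `D` is fixed-point-free on the fixed space
  have hupper : Nat.card D ≤ Nat.card (fixS (V := V) A) - 1 := by
    obtain ⟨z, hz⟩ := (fixS (V := V) A).ne_bot_iff_exists_ne_one.1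
      ((Subgroup.one_lt_card_iff_ne_bot _).1 (hA.one_lt h))
    have hdz : ∀ d : D, (d : X) • (z : V) ∈ fixS (V := V) A := fun d =>
      smul_mem_fixS d.2.1 z.2
    have hcard : Nat.card {u : fixS (V := V) A // u ≠ 1} = Nat.card (fixS (V := V) A) - 1 := by
      rw [Nat.card_eq_fintype_card, Nat.card_eq_fintype_card, Fintype.card_subtype_compl,
        Fintype.card_subtype_eq]
    rw [← hcard]
    refine Nat.card_le_card_of_injective (fun d : D =>
      (⟨⟨(d : X) • (z : V), hdz d⟩, fun e => hz (Subtype.ext (by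
        have := congrArg Subtype.val e
        exact smul_left_cancel (d : X) (this.trans (smul_one _).symm)))⟩ :
        {u : fixS (V := V) A // u ≠ 1})) ?_
    intro d d' he
    have e : (d : X) • (z : V) = (d' : X) • (z : V) := congrArg (fun u => ((u.1 : V))) he
    by_contra hne
    exact hz (Subtype.ext (h.fpf ((d' : X)⁻¹ * d)
      (hA.odd_pair h hC hx (mul_mem (inv_mem d'.2) d.2))
      (fun e' => hne (Subtype.ext (inv_mul_eq_one.1 e').symm)) z
      (by rw [mul_smul, e, inv_smul_smul])))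
  have hprod : ∀ w w' : X, cj w A = C → cj w C = A → cj w' A = C → cj w' C = A → w * w' ∈ D :=
    fun w w' h1 h2 h3 h4 => ⟨cj_eq_iff_mem_normalizer.1 (by rw [← cj_cj, h3, h2]),
      cj_eq_iff_mem_normalizer.1 (by rw [← cj_cj, h4, h1])⟩
  have hsw := fun a : {a : A // a ≠ 1} =>
    hA.exists_swap h hx a.1.2 fun e => a.2 (Subtype.ext e)
  choose sw hsw2 hswA hswC hswE hsw3 using hsw
  have hswinj : Function.Injective sw := by
    intro a b hab
    by_contra hne
    have hnab : (a.1 : X) ≠ b.1 := fun e => hne (Subtype.ext (Subtype.ext e))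
    have hEne : cj (b.1 : X) C ≠ cj (a.1 : X) C := fun e =>
      hnab (hA.injective_cj h hC hx a.1.2 b.1.2 e.symm)
    refine (hC.conj (a.1 : X)).no_invol_pair h (hC.conj (b.1 : X)) hEne (hsw2 a)
      (cj_eq_iff_mem_normalizer.1 (hswE a)) (cj_eq_iff_mem_normalizer.1 ?_)
    rw [hab]
    exact hswE b
  obtain ⟨a0, ha0, ha01⟩ := hA.exists_mem h
  let a0' : {a : A // a ≠ 1} := ⟨⟨a0, ha0⟩, fun e => ha01 (congrArg Subtype.val e)⟩
  let φ : {a : A // a ≠ 1} → D := fun a =>
    ⟨sw a * sw a0', hprod _ _ (hswA a) (hswC a) (hswA a0') (hswC a0')⟩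
  have hφ : Function.Injective φ := fun a b he =>
    hswinj (mul_right_cancel (congrArg Subtype.val he))
  have heq : Nat.card D = Nat.card (fixS (V := V) A) - 1 :=
    le_antisymm hupper (hA1 ▸ Nat.card_le_card_of_injective φ hφ)
  refine ⟨heq, ?_⟩
  have hsur : Function.Surjective φ :=
    (hφ.bijective_of_nat_card_le (by rw [hA1, heq])).2
  have hinv0 : ∀ d ∈ D, sw a0' * d * (sw a0')⁻¹ = d⁻¹ := fun d hd => by
    obtain ⟨a, ha⟩ := hsur ⟨d, hd⟩
    have ha' : sw a * sw a0' = d := congrArg Subtype.val ha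
    have e1 : sw a * sw a = 1 := by rw [← pow_two, ← hsw2 a, pow_orderOf_eq_one]
    rw [← ha', ← mul_assoc, mul_inv_cancel_right, mul_inv_rev, inv_eq_of_mul_eq_one_right e1,
      inv_eq_of_mul_eq_one_right (by rw [← pow_two, ← hsw2 a0', pow_orderOf_eq_one] :
        sw a0' * sw a0' = 1)]
  intro w hw hwA hwC d hd
  have hd0 : sw a0' * w ∈ D := hprod _ _ (hswA a0') (hswC a0') hwA hwC
  set e := sw a0' * w with he
  have hwe : w = (sw a0')⁻¹ * e := by rw [he, inv_mul_cancel_left]
  have hec : e * d = d * e := by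
    have h1 := hinv0 _ (mul_mem hd0 hd)
    have h2 : sw a0' * (e * d) * (sw a0')⁻¹ = e⁻¹ * d⁻¹ := by
      rw [← hinv0 e hd0, ← hinv0 d hd]; group
    rw [h2, ← mul_inv_rev, inv_inj] at h1
    exact h1.symm
  have e0 : sw a0' * sw a0' = 1 := by rw [← pow_two, ← hsw2 a0', pow_orderOf_eq_one]
  calc w * d * w⁻¹ = (sw a0')⁻¹ * (e * d * e⁻¹) * sw a0' := by rw [hwe]; group
    _ = sw a0' * d * (sw a0')⁻¹ := by
        rw [hec, mul_inv_cancel_right, inv_eq_of_mul_eq_one_right e0]
    _ = d⁻¹ := hinv0 d hd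

/-- In coordinates `Z × w • Z` the element `a` is the standard transvection. -/
theorem smul_swap (hA : IsOffender V A) {x : X} (hx : cj x A ≠ A) {a w : X} (ha : a ∈ A)
    (hw : orderOf w = 2) (hwA : cj w A = cj x A) (h3 : orderOf (a * w) = 3) {z : V}
    (hz : z ∈ fixS (V := V) A) : a • w • z = (w • z) * z := by
  have hww : ∀ u : V, w • w • u = u := fun u => by
    rw [smul_smul, ← pow_two, ← hw, pow_orderOf_eq_one, one_smul]
  set e := dlt a (w • z) with he
  have heZ : e ∈ fixS (V := V) A := hA.dlt_mem h ha _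
  set e' := dlt a (w • e) with he'
  have hy : (a * w) • z = e * w • z := by rw [mul_smul, smul_eq_dlt_mul]
  have hy2 : (a * w) • (a * w) • z = e' * w • e * z := by
    rw [hy, mul_smul, smul_mul', hww, smul_mul', mem_fixS.1 hz a ha, smul_eq_dlt_mul]
  set y := a * w with hydef
  set p := z * y • z * y • y • z with hp
  have hy3 : y • y • y • z = z := by
    rw [smul_smul, smul_smul, ← pow_three', ← h3, pow_orderOf_eq_one, one_smul]
  have hp1 : p = 1 := by
    refine h.fpf y ?_ (fun e => by rw [e, orderOf_one] at h3; exact absurd h3 (by norm_num)) p ?_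
    · rw [h3]; decide
    · rw [hp, smul_mul', smul_mul', hy3]
      ac_rfl
  have hp2 : p = (e * e') * w • (z * e) := by
    have hperm : ∀ P Q R S : V, z * (P * Q) * (R * S * z) = (P * R) * (Q * S) * (z * z) :=
      fun P Q R S => by ac_rfl
    rw [hp, hy2, hy, hperm, h.two, mul_one, smul_mul']
  have hmem : w • (z * e) ∈ fixS (V := V) A := by
    have h1 : w • (z * e) = (e * e')⁻¹ := eq_inv_of_mul_eq_one_right (hp2.symm.trans hp1)
    rw [h1]
    exact inv_mem (mul_mem heZ (hA.dlt_mem h ha _))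
  have hmem' : w • (z * e) ∈ fixS (V := V) (cj x A) := by
    rw [← hwA, mem_fixS_cj, inv_smul_smul]
    exact mul_mem hz heZ
  have hbot := hA.inf_fixS_eq_bot h (hA.conj x) hx
  have h0 : w • (z * e) = 1 := by
    rw [← Subgroup.mem_bot, ← hbot]
    exact ⟨hmem, hmem'⟩
  have hze : e = z := by
    have h1 : z * e = 1 := smul_left_cancel w (h0.trans (smul_one w).symm)
    rw [← h.inv_eq z, inv_eq_of_mul_eq_one_right h1]
  rw [smul_eq_dlt_mul, ← he, hze, mul_comm]

/-- The stabiliser of two conjugates is transitive on the non-trivial elements of `A`. -/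
theorem exists_torus_conj (hA : IsOffender V A) {x : X} (hx : cj x A ≠ A) {a b : X}
    (ha : a ∈ A) (ha1 : a ≠ 1) (hb : b ∈ A) (hb1 : b ≠ 1) :
    ∃ d ∈ normalizer (A : Set X) ⊓ normalizer (cj x A : Set X), d * a * d⁻¹ = b := by
  classical
  set D := normalizer (A : Set X) ⊓ normalizer (cj x A : Set X) with hD
  haveI : Fintype A := Fintype.ofFinite A
  let f : D → {u : A // u ≠ 1} := fun d =>
    ⟨⟨(d : X) * a * (d : X)⁻¹, (mem_normalizer_iff.1 d.2.1 a).1 ha⟩, fun e => ha1 (by
      have := congrArg Subtype.val e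
      exact conj_eq_one_iff.1 this)⟩
  have hf : Function.Injective f := by
    intro d d' he
    have e : (d : X) * a * (d : X)⁻¹ = (d' : X) * a * (d' : X)⁻¹ :=
      congrArg (fun u => ((u.1 : X))) he
    have hc : Commute a ((d' : X)⁻¹ * d) := by
      show a * ((d' : X)⁻¹ * d) = (d' : X)⁻¹ * d * a
      calc a * ((d' : X)⁻¹ * d) = (d' : X)⁻¹ * ((d' : X) * a * (d' : X)⁻¹) * d := by group
        _ = (d' : X)⁻¹ * ((d : X) * a * (d : X)⁻¹) * d := by rw [e]
        _ = _ := by group
    exact Subtype.ext (inv_mul_eq_one.1 (h.cit a _ (hA.invol h ha ha1)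
      (hA.odd_pair h (hA.conj x) hx (mul_mem (inv_mem d'.2) d.2)) hc)).symm
  have hb' := (hf.bijective_of_nat_card_le (by
    rw [(hA.pair_data h hx).1, ← hA.card_eq h, Nat.card_eq_fintype_card,
      Nat.card_eq_fintype_card, Fintype.card_subtype_compl, Fintype.card_subtype_eq])).2
    ⟨⟨b, hb⟩, fun e => hb1 (congrArg Subtype.val e)⟩
  obtain ⟨d, hd⟩ := hb'
  exact ⟨d, d.2, congrArg (fun u => ((u.1 : X))) hd⟩

/-- The action of the conjugates of `a` in the coordinates `Z × w • Z`. -/
theorem smul_torus_conj (hA : IsOffender V A) {x : X} (hx : cj x A ≠ A) {a w d : X} (ha : a ∈ A)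
    (hw : orderOf w = 2) (hwA : cj w A = cj x A) (hwC : cj w (cj x A) = A)
    (h3 : orderOf (a * w) = 3)
    (hd : d ∈ normalizer (A : Set X) ⊓ normalizer (cj x A : Set X)) {z : V}
    (hz : z ∈ fixS (V := V) A) : (d * a * d⁻¹) • w • z = (w • z) * d • d • z := by
  have hinv := (hA.pair_data h hx).2 w hw hwA hwC d hd
  have h1 : d⁻¹ * w = w * d := by rw [← hinv]; group
  have h2 : d * w * d = w := by rw [mul_assoc, ← h1, mul_inv_cancel_left]
  have hdz : d • z ∈ fixS (V := V) A := smul_mem_fixS hd.1 hz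
  rw [mul_smul, mul_smul, ← mul_smul d⁻¹ w, h1, mul_smul w d,
    hA.smul_swap h hx ha hw hwA h3 hdz, smul_mul', smul_smul d w, ← mul_smul (d * w) d, h2]

end IsOffender

end CfsgLib.CIT
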