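import Cfsg.Agent.Lib.SmallCent.Main
import Cfsg.Agent.Lib.CIT.CutTwo
import Cfsg.Agent.Lib.Linear.PSL2Nine
import Cfsg.Agent.S0252
import Cfsg.Agent.S0508

/-!
A simple group in which involution centralisers are `2`-groups and which has a self-centralising
four-group: the Sylow `2`-subgroup is dihedral or semidihedral, and the group is `PSL₂(q)` with
`q = 4`, `q = 9` or `q` a prime of the form `2 ^ k ± 1`.
-/

set_option autoImplicit false

open Subgroup

namespace CfsgLib.CIT

universe u

variable {G : Type u} [Group G]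

/-- The Sylow `2`-subgroup is dihedral, or an element of order four has centraliser of order four. -/
theorem shape_of_four [Finite G] [IsSimpleGroup G]
    (hCIT : ∀ t : G, orderOf t = 2 → IsPGroup 2 (centralizer ({t} : Set G)))
    (V : Subgroup G) (hV : Nat.card V = 4) (hV2 : ∀ v ∈ V, v * v = 1)
    (hC : centralizer (V : Set G) = V) :
    ∃ (S : Sylow 2 G) (z : G), orderOf z = 2 ∧ z ∈ (S : Subgroup G) ∧
      (∀ s ∈ (S : Subgroup G), s * z = z * s) ∧
      ((∃ m : ℕ, 2 ≤ m ∧ Nonempty ((S : Subgroup G) ≃* DihedralGroup m)) ∨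
        ∃ w : G, Nat.card (centralizer ({w} : Set G)) ≤ 4) := by
  classical
  have : Fact (Nat.Prime 2) := ⟨Nat.prime_two⟩
  obtain ⟨S, hVS⟩ := (IsPGroup.of_card (p := 2) (n := 2) (G := V) (by rw [hV]; norm_num)).exists_le_sylow
  haveI : Nontrivial (S : Subgroup G) := Finite.one_lt_card_iff_nontrivial.1 (by
    have := Subgroup.card_le_of_le hVS; omega)
  haveI := S.2.center_nontrivial
  obtain ⟨⟨⟨z, hzS⟩, hzc⟩, hz1⟩ := exists_ne (1 : center (S : Subgroup G))
  have hzcomm : ∀ s ∈ (S : Subgroup G), s * z = z * s := fun s hs =>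
    congrArg Subtype.val (mem_center_iff.1 hzc ⟨s, hs⟩)
  have hzV : z ∈ V := by
    rw [← hC, mem_centralizer_iff]
    exact fun v hv => hzcomm v (hVS hv)
  have hz : z ≠ 1 := fun e => hz1 (Subtype.ext (Subtype.ext e))
  have hzo : orderOf z = 2 := orderOf_eq_prime (by rw [sq]; exact hV2 z hzV) hz
  have hCz : centralizer ({z} : Set G) = (S : Subgroup G) :=
    S.3 (hCIT z hzo) fun s hs => mem_centralizer_singleton_iff.2 (hzcomm s hs)
  obtain ⟨n, hn⟩ := IsPGroup.iff_card.1 S.2
  refine ⟨S, z, hzo, hzS, hzcomm, ?_⟩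
  have hn2 : 2 ≤ n := by
    have := Subgroup.card_le_of_le hVS
    rw [hV, hn] at this
    by_contra h
    interval_cases n <;> omega
  rcases Nat.lt_or_ge n 3 with hn3 | hn3
  · obtain rfl : n = 2 := by omega
    have hSV : (S : Subgroup G) = V :=
      (Subgroup.eq_of_le_of_card_ge hVS (by rw [hn, hV]; norm_num)).symm
    haveI : Nontrivial V := Finite.one_lt_card_iff_nontrivial.1 (by omega)
    haveI : IsKleinFour V := ⟨hV, Monoid.exponent_eq_prime_iff (p := 2) Nat.prime_two |>.2 fun v hv =>
      orderOf_eq_prime (by rw [sq]; exact Subtype.ext (hV2 v v.2)) hv⟩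
    haveI : IsKleinFour (DihedralGroup 2) := inferInstance
    exact Or.inl ⟨2, le_rfl, ⟨(MulEquiv.subgroupCongr hSV).trans IsKleinFour.nonempty_mulEquiv.some⟩⟩
  set A := V.subgroupOf (S : Subgroup G) with hA
  have hAc : centralizer (A : Set (S : Subgroup G)) = A := by
    refine le_antisymm (fun x hx => ?_) fun x hx => mem_centralizer_iff.2 fun y hy => Subtype.ext ?_
    · rw [hA, mem_subgroupOf, ← hC, mem_centralizer_iff]
      exact fun v hv => congrArg Subtype.val (mem_centralizer_iff.1 hx ⟨v, hVS hv⟩ hv)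
    · exact mem_centralizer_iff.1 ((hC.symm ▸ hx : (x : G) ∈ centralizer (V : Set G))) y hy
  obtain ⟨a', t', z', ha, hi, ht, hz', hzo', hzc', hshape⟩ := CfsgLib.SmallCent.sylow_shape n hn3 hn A
    (by rw [hA, Nat.card_congr (Subgroup.subgroupOfEquivOfLe hVS).toEquiv, hV]; norm_num) hAc
  set m := 2 ^ (n - 1) with hm
  have hm4 : 4 ≤ m := by
    rw [hm]; exact (show 4 = 2 ^ 2 by norm_num) ▸ Nat.pow_le_pow_right two_pos (by omega)
  rcases hshape with ⟨htt, hconj⟩ | ⟨htt, hconj⟩ | ⟨hn4, htt, hconj⟩
  · left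
    haveI : NeZero m := ⟨by omega⟩
    let f := CfsgLib.Invol.dihedralHom (n := m) t' a' htt (by rw [← ha, pow_orderOf_eq_one]) hconj
    have hinj : Function.Injective f := by
      rw [injective_iff_map_eq_one]
      rintro (i | i) hi'
      · have h1 : a' ^ (i.val : ℤ) = 1 := hi'
        rw [zpow_natCast] at h1
        have h2 := Nat.eq_zero_of_dvd_of_lt (orderOf_dvd_of_pow_eq_one h1)
          (by rw [ha]; exact ZMod.val_lt i)
        rw [(ZMod.val_eq_zero i).1 h2]
        rfl
      · exfalso
        have h1 : t' * a' ^ (i.val : ℤ) = 1 := hi'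
        refine ht ?_
        rw [eq_inv_of_mul_eq_one_left h1]
        exact inv_mem (zpow_mem_zpowers a' _)
    have hbij := hinj.bijective_of_nat_card_le (by
      rw [DihedralGroup.nat_card, hn, hm, ← pow_succ', show n - 1 + 1 = n by omega])
    exact ⟨m, by omega, ⟨(MulEquiv.ofBijective f hbij).symm⟩⟩
  · -- generalised quaternion: impossible
    exfalso
    obtain ⟨v, hv, hvz, hv1⟩ : ∃ v ∈ V, v ≠ z ∧ v ≠ 1 := by
      by_contra hcon
      push Not at hcon
      have : Nat.card V ≤ Nat.card (Fin 2) := Nat.card_le_card_of_injective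
        (fun v : V => if (v : G) = z then (0 : Fin 2) else 1) (by
          intro u w huw
          apply Subtype.ext
          by_cases h1 : (u : G) = z <;> by_cases h2 : (w : G) = z <;> simp [h1, h2] at huw
          · rw [h1, h2]
          · rw [hcon u u.2 h1, hcon w w.2 h2])
      rw [hV, Nat.card_fin] at this
      omega
    set v' : (S : Subgroup G) := ⟨v, hVS hv⟩
    have hv'2 : v' * v' = 1 := Subtype.ext (hV2 v hv)
    have hzz : ∀ b : (S : Subgroup G), b ∈ zpowers a' → b * b = 1 → b = 1 ∨ b = z' := fun b hb hb2 => by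
      rcases eq_or_ne b 1 with e | e
      · exact Or.inl e
      · exact Or.inr (CfsgLib.Case.involution_eq_of_cyclic (inferInstance : IsCyclic (zpowers a'))
          hb (by rw [hz']; exact pow_mem (mem_zpowers a') _)
          (orderOf_eq_prime (by rw [sq]; exact hb2) e) hzo')
    by_cases hva : v' ∈ zpowers a'
    · rcases hzz v' hva hv'2 with e | e
      · exact hv1 (congrArg Subtype.val e)
      · by_cases hzv : (⟨z, hzS⟩ : (S : Subgroup G)) ∈ zpowers a'
        · rcases hzz _ hzv (Subtype.ext (hV2 z hzV)) with e' | e'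
          · exact hz (congrArg Subtype.val e')
          · exact hvz (congrArg Subtype.val (e.trans e'.symm))
        · have h1 : (⟨z, hzS⟩ : (S : Subgroup G)) * t'⁻¹ ∈ zpowers a' := by
            rw [mul_mem_iff_of_index_two hi, inv_mem_iff]; exact iff_of_false hzv ht
          obtain ⟨k, hk⟩ := mem_zpowers_iff.1 h1
          have hsq : (a' ^ k * t') * (a' ^ k * t') = z' := by
            calc (a' ^ k * t') * (a' ^ k * t') = a' ^ k * (t' * a' ^ k * t'⁻¹) * (t' * t') := by group
              _ = z' := by rw [← conj_zpow, hconj, htt, inv_zpow, mul_inv_cancel, one_mul]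
          rw [hk, inv_mul_cancel_right] at hsq
          exact (orderOf_eq_one_iff.not.1 (by rw [hzo']; omega))
            (hsq.symm.trans (Subtype.ext (hV2 z hzV)))
    · have h1 : v' * t'⁻¹ ∈ zpowers a' := by
        rw [mul_mem_iff_of_index_two hi, inv_mem_iff]; exact iff_of_false hva ht
      obtain ⟨k, hk⟩ := mem_zpowers_iff.1 h1
      have hsq : (a' ^ k * t') * (a' ^ k * t') = z' := by
        calc (a' ^ k * t') * (a' ^ k * t') = a' ^ k * (t' * a' ^ k * t'⁻¹) * (t' * t') := by group
          _ = z' := by rw [← conj_zpow, hconj, htt, inv_zpow, mul_inv_cancel, one_mul]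
      rw [hk, inv_mul_cancel_right, hv'2] at hsq
      exact (orderOf_eq_one_iff.not.1 (by rw [hzo']; omega)) hsq.symm
  · -- semidihedral
    right
    refine ⟨(a' * t' : (S : Subgroup G)), ?_⟩
    set w' := a' * t' with hw'
    have hw2 : w' * w' = z' := by
      calc a' * t' * (a' * t') = a' * (t' * a' * t'⁻¹) * (t' * t') := by group
        _ = z' := by rw [hconj, htt, mul_inv_cancel_left, mul_one]
    have hzz' : (z' : G) = z := by
      have hmem : (z' : G) ∈ V := by
        rw [← hC, mem_centralizer_iff]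
        exact fun v hv => (congrArg Subtype.val (hzc' ⟨v, hVS hv⟩))
      by_contra hne
      have hVc : ∀ s : (S : Subgroup G), (s : G) ∈ centralizer (V : Set G) := fun s => by
        rw [mem_centralizer_iff]
        intro v hv
        have h1 : Commute (s : G) z := hzcomm s s.2
        have h2 : Commute (s : G) z' := congrArg Subtype.val (hzc' s)
        have hz'1 : (z' : G) ≠ 1 := fun e => by
          have : z' = 1 := Subtype.ext e
          rw [this, orderOf_one] at hzo'; omega
        set U := V ⊓ centralizer ({(s : G)} : Set G) with hU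
        have hzU : z ∈ U := ⟨hzV, mem_centralizer_singleton_iff.2 h1.eq.symm⟩
        have hz'U : (z' : G) ∈ U := ⟨hmem, mem_centralizer_singleton_iff.2 h2.eq.symm⟩
        have h3 : Nat.card (Fin 3) ≤ Nat.card U := Nat.card_le_card_of_injective
          ![1, ⟨z, hzU⟩, ⟨z', hz'U⟩] (by
            intro i j hij
            have hij' := congrArg Subtype.val hij
            fin_cases i <;> fin_cases j <;>
              simp [hz, hz'1, hne, Ne.symm hz, Ne.symm hz'1, Ne.symm hne] at hij' ⊢)
        have h4 : Nat.card U ∣ 4 := hV ▸ Subgroup.card_dvd_of_le inf_le_left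
        have h5 : U = V := Subgroup.eq_of_le_of_card_ge inf_le_left (by
          rw [Nat.card_fin] at h3
          have := Nat.le_of_dvd (by omega) h4
          interval_cases h : Nat.card U <;> omega)
        have hvU : v ∈ U := by rw [h5]; exact hv
        exact mem_centralizer_singleton_iff.1 hvU.2
      have hle : (S : Subgroup G) ≤ V := fun s hs => by rw [← hC]; exact hVc ⟨s, hs⟩
      have := Subgroup.card_le_of_le hle
      rw [hn, hV] at this
      have : 2 ^ 3 ≤ 2 ^ n := Nat.pow_le_pow_right two_pos hn3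
      omega
    have hCle : centralizer ({(w' : G)} : Set G) ≤ (S : Subgroup G) := fun c hc => by
      rw [← hCz, mem_centralizer_singleton_iff, ← hzz', ← hw2, Subgroup.coe_mul]
      exact ((show Commute c (w' : G) from mem_centralizer_singleton_iff.1 hc).mul_right
        (mem_centralizer_singleton_iff.1 hc)).eq
    set C := (centralizer ({(w' : G)} : Set G)).subgroupOf (S : Subgroup G) with hCdef
    rw [← Nat.card_congr (Subgroup.subgroupOfEquivOfLe hCle).toEquiv]
    have hcyc : ∀ c ∈ C ⊓ zpowers a', c = 1 ∨ c = z' := by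
      rintro c ⟨hc1, hc2⟩
      obtain ⟨k, rfl⟩ := mem_zpowers_iff.1 hc2
      have hcw : Commute (a' ^ k) w' := Subtype.ext (mem_centralizer_singleton_iff.1 hc1)
      have hct : Commute (a' ^ k) t' := by
        have h := ((Commute.zpow_self a' k).inv_right).mul_right hcw
        rwa [hw', inv_mul_cancel_left] at h
      have h1 : (a' ^ k)⁻¹ * z' ^ k = a' ^ k := by
        rw [← inv_zpow, ← Commute.mul_zpow (hzc' a'⁻¹), ← hconj, conj_zpow, ← hct.eq,
          mul_inv_cancel_right]
      have hz'a : z' = a' ^ ((2 ^ (n - 2) : ℕ) : ℤ) := by rw [zpow_natCast]; exact hz'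
      rw [hz'a, ← zpow_neg, ← zpow_mul, ← zpow_add] at h1
      rw [← orderOf_dvd_sub_iff_zpow_eq_zpow, ha] at h1
      set M := 2 ^ (n - 3) with hM
      have e2 : 2 ^ (n - 2) = 2 * M := by rw [hM, ← pow_succ']; congr 1; omega
      have e1 : m = 4 * M := by
        rw [hM, hm, show n - 1 = n - 3 + 2 by omega, pow_add]; ring
      rw [e1, e2] at h1
      obtain ⟨j, hj⟩ := h1
      push_cast at hj
      obtain ⟨M', hM'⟩ : 2 ∣ M := dvd_pow_self 2 (by omega)
      have hk : (2 * M : ℤ) ∣ k := by
        have hk' : k * ((M : ℤ) - 1) = 2 * M * j := by linarith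
        have hcop : IsCoprime (2 * (M : ℤ)) ((M : ℤ) - 1) := by
          refine ⟨1 - (M' : ℤ), (M : ℤ) - 1, ?_⟩
          rw [hM']; push_cast; ring
        exact hcop.dvd_of_dvd_mul_right ⟨j, hk'⟩
      obtain ⟨i, rfl⟩ := hk
      rw [show (2 * (M : ℤ)) * i = ((2 ^ (n - 2) : ℕ) : ℤ) * i by rw [e2]; push_cast; ring,
        zpow_mul, zpow_natCast, ← hz', ← zpow_mod_orderOf, hzo']
      rcases Int.emod_two_eq_zero_or_one i with h | h <;> simp [h]
    have hwa : w' ∉ zpowers a' := fun h' => ht ((Subgroup.mul_mem_cancel_left _ (mem_zpowers a')).1 h')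
    have hwC : w' ∈ C := mem_centralizer_singleton_iff.2 rfl
    have key : ∀ e : (S : Subgroup G), e ∈ C → (e = 1 ∨ e = z' ∨ e = w' ∨ e = z' * w') := by
      intro e he
      by_cases hea : e ∈ zpowers a'
      · rcases hcyc e ⟨he, hea⟩ with h | h
        · exact Or.inl h
        · exact Or.inr (Or.inl h)
      · have h' : e * w'⁻¹ ∈ zpowers a' := by
          rw [mul_mem_iff_of_index_two hi, inv_mem_iff]; exact iff_of_false hea hwa
        rcases hcyc (e * w'⁻¹) ⟨C.mul_mem he (C.inv_mem hwC), h'⟩ with h | h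
        · exact Or.inr (Or.inr (Or.inl (mul_inv_eq_one.1 h)))
        · exact Or.inr (Or.inr (Or.inr (mul_inv_eq_iff_eq_mul.1 h)))
    refine le_trans ?_ (Finset.card_le_four (a := (1 : (S : Subgroup G))) (b := z') (c := w')
      (d := z' * w'))
    rw [← Nat.card_eq_finsetCard]
    exact Nat.card_le_card_of_injective (fun c : C => ⟨c, by simpa using key c c.2⟩) fun c d hcd =>
      Subtype.ext (by simpa using hcd)

/-- The endgame for a self-centralising four-group. -/
theorem psl_of_four [Finite G] [IsSimpleGroup G] (hG : ∃ a b : G, a * b ≠ b * a)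
    (hCIT : ∀ t : G, orderOf t = 2 → IsPGroup 2 (centralizer ({t} : Set G)))
    (V : Subgroup G) (hV : Nat.card V = 4) (hV2 : ∀ v ∈ V, v * v = 1)
    (hC : centralizer (V : Set G) = V) :
    ∃ (F : Type) (_ : Field F) (_ : Fintype F),
      (Fintype.card F = 9 ∨ (∃ n : ℕ, Fintype.card F = 2 ^ n) ∨
        ((Fintype.card F).Prime ∧ ∃ k : ℕ, Fintype.card F = 2 ^ k + 1 ∨ Fintype.card F + 1 = 2 ^ k)) ∧
      Nonempty (G ≃* Matrix.ProjectiveSpecialLinearGroup (Fin 2) F) := by
  classical
  have : Fact (Nat.Prime 2) := ⟨Nat.prime_two⟩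
  have hnc : ¬ IsCyclic G := fun hc => by
    obtain ⟨a, b, hab⟩ := hG
    exact hab ((IsCyclic.commGroup (α := G)).mul_comm a b)
  obtain ⟨S, z, hzo, hzS, hzc, hd | ⟨w, hw⟩⟩ := shape_of_four hCIT V hV hV2 hC
  · obtain ⟨m, hm, hSm⟩ := hd
    have hO : Cfsg.oddCore (centralizer ({z} : Set G)) = ⊥ := by
      obtain ⟨hpg⟩ := (⟨hCIT z hzo⟩ : Nonempty (IsPGroup 2 (centralizer ({z} : Set G))))
      obtain ⟨k, hk⟩ := IsPGroup.iff_card.1
        (hpg.to_subgroup (Cfsg.oddCore (centralizer ({z} : Set G))))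
      rw [← Subgroup.card_eq_one, hk]
      have hodd : Nat.Coprime (Nat.card (Cfsg.oddCore (centralizer ({z} : Set G)))) 2 :=
        CfsgLib.Solvable.pPrimeCore_card_coprime 2 _
      rw [hk] at hodd
      rcases Nat.eq_zero_or_pos k with rfl | hk0
      · simp
      · exact absurd ((Nat.coprime_pow_left_iff hk0 2 2).1 hodd) (by norm_num)
    obtain ⟨F, iF, fF, -, he⟩ := Cfsg.Agent.S0508.result S m hm hSm z hzo hzS hzc ⊥
      (by rw [hO, Subgroup.map_bot]) (fun h => absurd rfl h)
      (fun s _ hs => absurd (mem_centralizer_iff.2 fun x hx => by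
        simp [Subgroup.mem_bot.1 hx]) hs)
      (fun Y hY hY1 => absurd (le_bot_iff.1 hY) hY1)
    exact ⟨F, iF, fF, psl_two_card hCIT F he, he⟩
  · rcases CfsgLib.SmallCent.main hnc w hw with ⟨⟨e⟩⟩ | ⟨⟨e⟩⟩ | ⟨⟨e⟩⟩ | ⟨F, iF, fF, h7, ⟨e⟩⟩
    · letI : Fintype (GaloisField 2 2) := Fintype.ofFinite _
      obtain ⟨i⟩ := Cfsg.Agent.S0252.result (F := GaloisField 2 2)
        (by rw [← Nat.card_eq_fintype_card, GaloisField.card 2 2 two_ne_zero]; norm_num)
      exact ⟨GaloisField 2 2, inferInstance, inferInstance,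
        psl_two_card hCIT _ ⟨e.trans i.symm⟩, ⟨e.trans i.symm⟩⟩
    · haveI : Fact (Nat.Prime 3) := ⟨Nat.prime_three⟩
      letI : Fintype (GaloisField 3 2) := Fintype.ofFinite _
      obtain ⟨i⟩ := CfsgLib.Linear.PSL2Nine.exists_PSL2_equiv_A6 (F := GaloisField 3 2)
        (by rw [← Nat.card_eq_fintype_card, GaloisField.card 3 2 two_ne_zero]; norm_num)
      exact ⟨GaloisField 3 2, inferInstance, inferInstance,
        psl_two_card hCIT _ ⟨e.trans i.symm⟩, ⟨e.trans i.symm⟩⟩
    · -- `A₇` has an involution centralising a three-cycle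
      exfalso
      let t : alternatingGroup (Fin 7) :=
        ⟨Equiv.swap 0 1 * Equiv.swap 2 3, by rw [Equiv.Perm.mem_alternatingGroup]; decide⟩
      let c : alternatingGroup (Fin 7) :=
        ⟨Equiv.swap 4 5 * Equiv.swap 5 6, by rw [Equiv.Perm.mem_alternatingGroup]; decide⟩
      have ht : orderOf t = 2 := orderOf_eq_prime (by apply Subtype.ext; decide) (by decide)
      have hc3 : orderOf c = 3 :=
        haveI : Fact (Nat.Prime 3) := ⟨Nat.prime_three⟩
        orderOf_eq_prime (by apply Subtype.ext; decide) (by decide)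
      have hcomm : c * t = t * c := by apply Subtype.ext; decide
      have h2 := hCIT (e.symm t) (by
        rw [← ht]; exact orderOf_injective e.symm.toMonoidHom e.symm.injective t)
      obtain ⟨k, hk⟩ := IsPGroup.iff_orderOf.1 h2
        ⟨e.symm c, mem_centralizer_singleton_iff.2 (by rw [← map_mul, hcomm, map_mul])⟩
      rw [Subgroup.orderOf_mk] at hk
      have hk' : orderOf c = 2 ^ k := by
        rw [← hk]; exact (orderOf_injective e.symm.toMonoidHom e.symm.injective c).symm
      rw [hc3] at hk'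
      rcases Nat.eq_zero_or_pos k with rfl | hk0
      · norm_num at hk'
      · have : 2 ∣ 3 := hk' ▸ dvd_pow_self 2 (by omega)
        omega
    · exact ⟨F, iF, fF, psl_two_card hCIT F ⟨e⟩, ⟨e⟩⟩

/-- The branch `q = 2` of the classification. -/
theorem nonTI_of_naturalLocal_two [Finite G] [IsSimpleGroup G] (hab : ∃ a b : G, a * b ≠ b * a)
    (hC : IsCIT G) {V A : Subgroup G} (h : NaturalLocal V A 2) : NonTI G :=
  Or.inl (psl_of_four hab hC V (by rw [h.card_V]; norm_num) h.sq_V h.centralizer_eq)

end CfsgLib.CIT
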