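import Cfsg.Agent.Lib.CIT.FFOffender
import Cfsg.Agent.Lib.CIT.TISylow

/-!
# The module of a 2-local in a CIT group

An elementary abelian subgroup `V ≠ 1` normalised by `N` gives a pair `(X, V)` satisfying
`FFSetting`, where `X` is the automiser of `N` on `V`, provided `C_N(V)` is a 2-group containing
every normal 2-subgroup of `N`.
-/

set_option autoImplicit false

namespace CfsgLib.CIT

open scoped IsMulCommutative

variable {G : Type*} [Group G]

/-- The action of `N` on the subgroup `V` it normalises. -/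
def rep {N V : Subgroup G} (hN : N ≤ Subgroup.normalizer (V : Set G)) : N →* MulAut V where
  toFun n :=
    { toFun := fun v => ⟨(n : G) * v * (n : G)⁻¹, (Subgroup.mem_normalizer_iff.1 (hN n.2) _).1 v.2⟩
      invFun := fun v => ⟨(n : G)⁻¹ * v * n, (Subgroup.mem_normalizer_iff''.1 (hN n.2) _).1 v.2⟩
      left_inv := fun v => Subtype.ext (show (n : G)⁻¹ * ((n : G) * v * (n : G)⁻¹) * n = v by group)
      right_inv := fun v => Subtype.ext (show (n : G) * ((n : G)⁻¹ * v * n) * (n : G)⁻¹ = v by group)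
      map_mul' := fun v w => Subtype.ext
        (show (n : G) * (v * w : G) * (n : G)⁻¹ =
          (n : G) * v * (n : G)⁻¹ * ((n : G) * w * (n : G)⁻¹) by group) }
  map_one' := MulEquiv.ext fun v => Subtype.ext
    (show (1 : G) * v * (1 : G)⁻¹ = v by group)
  map_mul' m n := MulEquiv.ext fun v => Subtype.ext
    (show (m * n : G) * v * (m * n : G)⁻¹ = (m : G) * ((n : G) * v * (n : G)⁻¹) * (m : G)⁻¹ by group)

variable {N V : Subgroup G} (hN : N ≤ Subgroup.normalizer (V : Set G))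

theorem rep_apply (n : N) (v : V) : ((rep hN n v : V) : G) = (n : G) * v * (n : G)⁻¹ := rfl

theorem rep_eq_one_iff (n : N) :
    rep hN n = 1 ↔ (n : G) ∈ Subgroup.centralizer (V : Set G) := by
  rw [Subgroup.mem_centralizer_iff]
  constructor
  · intro h v hv
    have := congrArg Subtype.val (DFunLike.congr_fun h ⟨v, hv⟩)
    rw [rep_apply] at this
    exact (mul_inv_eq_iff_eq_mul.1 this).symm
  · intro h
    refine MulEquiv.ext fun v => Subtype.ext ?_
    rw [rep_apply]
    exact mul_inv_eq_iff_eq_mul.2 (h v v.2).symm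

theorem smul_coe [IsMulCommutative V] (n : N) (v : V) :
    (((rep hN).rangeRestrict n • v : V) : G) = (n : G) * v * (n : G)⁻¹ := rfl

theorem smul_eq_iff [IsMulCommutative V] (n : N) (v : V) :
    (rep hN).rangeRestrict n • v = v ↔ Commute (n : G) v := by
  rw [← Subtype.coe_inj, smul_coe, mul_inv_eq_iff_eq_mul]
  rfl

theorem coe_dlt [IsMulCommutative V] (n : N) (v : V) :
    ((dlt ((rep hN).rangeRestrict n) v : V) : G) = (n : G) * v * (n : G)⁻¹ * (v : G)⁻¹ := by
  rw [dlt_apply, Subgroup.coe_div, smul_coe, div_eq_mul_inv]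

/-- The image of a subgroup in the automiser. -/
def img (A : Subgroup G) : Subgroup (rep hN).range :=
  (A.subgroupOf N).map (rep hN).rangeRestrict

theorem mem_img {A : Subgroup G} (hA : A ≤ N) {x : (rep hN).range} :
    x ∈ img hN A ↔ ∃ (a : G) (ha : a ∈ A), (rep hN).rangeRestrict ⟨a, hA ha⟩ = x := by
  constructor
  · rintro ⟨⟨a, haN⟩, ha, rfl⟩
    exact ⟨a, ha, rfl⟩
  · rintro ⟨a, ha, rfl⟩
    exact ⟨⟨a, hA ha⟩, ha, rfl⟩

theorem card_img_mul [Finite G] {A : Subgroup G} (hA : A ≤ N) :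
    Nat.card (img hN A) * Nat.card ↥(A ⊓ Subgroup.centralizer (V : Set G)) = Nat.card A := by
  let f : A →* (rep hN).range := (rep hN).rangeRestrict.comp (Subgroup.inclusion hA)
  have hr : f.range = img hN A := by
    ext x
    rw [mem_img hN hA]
    exact ⟨fun ⟨a, ha⟩ => ⟨a, a.2, ha⟩, fun ⟨a, ha, e⟩ => ⟨⟨a, ha⟩, e⟩⟩
  have hk : f.ker = (A ⊓ Subgroup.centralizer (V : Set G)).subgroupOf A := by
    ext a
    rw [MonoidHom.mem_ker, Subgroup.mem_subgroupOf]
    show (rep hN).rangeRestrict ⟨a, hA a.2⟩ = 1 ↔ _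
    rw [← Subtype.coe_inj]
    exact (rep_eq_one_iff hN _).trans ⟨fun h => ⟨a.2, h⟩, fun h => h.2⟩
  rw [← hr, ← Subgroup.index_ker, ← Nat.card_congr (Subgroup.subgroupOfEquivOfLe
    (inf_le_left : A ⊓ Subgroup.centralizer (V : Set G) ≤ A)).toEquiv, ← hk, mul_comm]
  exact Subgroup.card_mul_index _

/-- In a coset normalised by a prime power element of coprime order some element commutes with it. -/
theorem exists_commute_coset [Finite G] {y g : G} {C : Subgroup G} (hC : IsPGroup 2 C)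
    {r i : ℕ} (hr : r.Prime) (hr2 : r ≠ 2) (hy : y ^ r ^ i = 1)
    (hinv : ∀ c ∈ C, y * c * y⁻¹ ∈ C) (hg : g⁻¹ * (y * g * y⁻¹) ∈ C) :
    ∃ c ∈ C, Commute y (g * c) := by
  haveI : Fact r.Prime := ⟨hr⟩
  haveI : Fact (Nat.Prime 2) := ⟨Nat.prime_two⟩
  let e : G → G := fun x => g⁻¹ * (y * (g * x) * y⁻¹)
  have he : ∀ c ∈ C, e c ∈ C := fun c hc => by
    have : e c = g⁻¹ * (y * g * y⁻¹) * (y * c * y⁻¹) := by simp only [e]; group
    rw [this]
    exact mul_mem hg (hinv c hc)
  let σ : Equiv.Perm C := Equiv.ofBijective (fun c => ⟨e c, he c c.2⟩)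
    (Finite.injective_iff_bijective.1 fun a b h => by
      have := congrArg Subtype.val h
      simp only [e, mul_left_cancel_iff, mul_right_cancel_iff] at this
      exact Subtype.ext this)
  have hiter : ∀ (k : ℕ) (c : C), (((σ ^ k) c : C) : G) = g⁻¹ * (y ^ k * (g * c) * (y ^ k)⁻¹) := by
    intro k
    induction k with
    | zero => intro c; simp
    | succ k ih =>
      intro c
      rw [pow_succ', Equiv.Perm.mul_apply]
      show e _ = _
      simp only [e, ih, pow_succ']
      group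
  have hσ : σ ^ r ^ i = 1 := by
    ext c
    rw [hiter, hy]
    simp
  have hP : IsPGroup r (Subgroup.zpowers σ) := by
    intro x
    obtain ⟨j, hj⟩ := Subgroup.mem_zpowers_iff.1 x.2
    refine ⟨i, Subtype.ext ?_⟩
    show (x : Equiv.Perm C) ^ r ^ i = 1
    rw [← hj, ← zpow_natCast, zpow_comm, zpow_natCast, hσ, one_zpow]
  obtain ⟨n, hn⟩ := IsPGroup.iff_card.1 hC
  have hmod := hP.card_modEq_card_fixedPoints C
  obtain ⟨c, hc⟩ : (MulAction.fixedPoints (Subgroup.zpowers σ) C).Nonempty := by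
    by_contra hne
    rw [Set.not_nonempty_iff_eq_empty] at hne
    rw [hne, Nat.card_eq_fintype_card (α := (∅ : Set C)), Set.card_empty,
      Nat.modEq_zero_iff_dvd, hn] at hmod
    exact hr2 ((Nat.prime_dvd_prime_iff_eq hr Nat.prime_two).1 (hr.dvd_of_dvd_pow hmod))
  refine ⟨c, c.2, ?_⟩
  have := congrArg Subtype.val (hc ⟨σ, Subgroup.mem_zpowers σ⟩)
  show y * (g * c) = g * c * y
  rw [← mul_inv_eq_iff_eq_mul, ← inv_mul_eq_iff_eq_mul (a := g)]
  exact this

variable [Finite G]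

/-- The automiser of a 2-local of a CIT group on an elementary abelian normal subgroup. -/
theorem setting [IsMulCommutative V] (hC : IsCIT G) (hne : V ≠ ⊥) (hsq : ∀ v ∈ V, v * v = 1)
    (hker : IsPGroup 2 ↥(N ⊓ Subgroup.centralizer (V : Set G)))
    (hcore : ∀ P : Subgroup G, P ≤ N → IsPGroup 2 P → N ≤ Subgroup.normalizer (P : Set G) →
      P ≤ Subgroup.centralizer (V : Set G)) :
    FFSetting (rep hN).range V := by
  haveI : Fact (Nat.Prime 2) := ⟨Nat.prime_two⟩
  refine ⟨fun x hx => Subtype.ext (MulEquiv.ext fun v => hx v), fun v => Subtype.ext (hsq v v.2),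
    ?_, ?_, ?_⟩
  · rintro x hx hx1 v hv
    obtain ⟨n, rfl⟩ := (rep hN).rangeRestrict_surjective x
    by_contra hv1
    obtain ⟨k, m, hm, hkm⟩ := Nat.exists_eq_two_pow_mul_odd (orderOf_pos (n : G)).ne'
    have ho : Odd (orderOf ((n : G) ^ 2 ^ k)) := by
      rw [orderOf_pow, hkm, Nat.gcd_mul_right_left, Nat.mul_div_cancel_left _ (Nat.two_pow_pos k)]
      exact hm
    have hvo : orderOf (v : G) = 2 := orderOf_eq_prime (by rw [pow_two]; exact hsq v v.2)
      fun e => hv1 (Subtype.ext e)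
    have h1 : (n : G) ^ 2 ^ k = 1 :=
      eq_one_of_commute_invol hC hvo (((smul_eq_iff hN n v).1 hv).symm.pow_right _) ho
    have h2 : (rep hN).rangeRestrict n ^ 2 ^ k = 1 := by
      rw [← map_pow, show n ^ 2 ^ k = 1 from Subtype.ext h1, map_one]
    have h3 : orderOf ((rep hN).rangeRestrict n) ∣ 1 := by
      have hcop : Nat.Coprime (orderOf ((rep hN).rangeRestrict n)) (2 ^ k) :=
        (Nat.coprime_two_right.2 hx).pow_right k
      exact hcop.dvd_of_dvd_mul_right (by rw [one_mul]; exact orderOf_dvd_of_pow_eq_one h2)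
    exact hx1 (orderOf_eq_one_iff.1 (Nat.dvd_one.1 h3))
  · intro t x ht hx hc
    obtain ⟨g, rfl⟩ := (rep hN).rangeRestrict_surjective t
    by_contra hx1
    obtain ⟨r, hr, hrd⟩ := Nat.exists_prime_and_dvd (mt orderOf_eq_one_iff.1 hx1)
    haveI : Fact r.Prime := ⟨hr⟩
    have hr2 : r ≠ 2 := fun e => (Nat.not_even_iff_odd.2 hx) (even_iff_two_dvd.2 (e ▸ hrd))
    set x0 := x ^ (orderOf x / r) with hx0
    have hx0o : orderOf x0 = r := orderOf_pow_orderOf_div (orderOf_pos x).ne' hrd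
    obtain ⟨n, hn⟩ := (rep hN).rangeRestrict_surjective x0
    obtain ⟨i, m, hm, him⟩ := Nat.exists_eq_pow_mul_and_not_dvd (orderOf_pos n).ne' r hr.ne_one
    set y := n ^ m with hy
    have hy1 : (rep hN).rangeRestrict y ≠ 1 := by
      rw [hy, map_pow, hn, Ne, ← orderOf_dvd_iff_pow_eq_one, hx0o]
      exact hm
    have hyp : (y : G) ^ r ^ i = 1 := by
      rw [← Subgroup.coe_pow, hy, ← pow_mul, mul_comm, ← him, pow_orderOf_eq_one, Subgroup.coe_one]
    have hcom : Commute ((rep hN).rangeRestrict y) ((rep hN).rangeRestrict g) := by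
      rw [hy, map_pow, hn, hx0]
      exact ((hc.symm).pow_left _).pow_left _
    have hmem : (g : G)⁻¹ * ((y : G) * g * (y : G)⁻¹) ∈ N ⊓ Subgroup.centralizer (V : Set G) := by
      refine ⟨N.mul_mem (N.inv_mem g.2) (N.mul_mem (N.mul_mem y.2 g.2) (N.inv_mem y.2)), ?_⟩
      have : (rep hN).rangeRestrict (g⁻¹ * (y * g * y⁻¹)) = 1 := by
        rw [map_mul, map_mul, map_mul, map_inv, map_inv, hcom.eq, mul_inv_cancel_right,
          inv_mul_cancel]
      exact (rep_eq_one_iff hN _).1 (congrArg Subtype.val this)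
    obtain ⟨c, hc', hcy⟩ := exists_commute_coset hker hr hr2 hyp (fun c hc => by
      refine ⟨N.mul_mem (N.mul_mem y.2 hc.1) (N.inv_mem y.2), ?_⟩
      have h1 : rep hN ⟨c, hc.1⟩ = 1 := (rep_eq_one_iff hN _).2 hc.2
      have : rep hN (y * ⟨c, hc.1⟩ * y⁻¹) = 1 := by
        rw [map_mul, map_mul, h1, mul_one, ← map_mul, mul_inv_cancel, map_one]
      exact (rep_eq_one_iff hN _).1 this) hmem
    set g' : N := g * ⟨c, hc'.1⟩ with hg'
    have hg'r : (rep hN).rangeRestrict g' = (rep hN).rangeRestrict g := by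
      rw [hg', map_mul, show (rep hN).rangeRestrict ⟨c, hc'.1⟩ = 1 from
        Subtype.ext ((rep_eq_one_iff hN _).2 hc'.2), mul_one]
    have heven : 2 ∣ orderOf (g' : G) := by
      rw [Subgroup.orderOf_coe, ← ht, ← hg'r]
      exact orderOf_map_dvd _ g'
    have hyodd : Odd (orderOf (y : G)) :=
      (hr.odd_of_ne_two hr2).pow.of_dvd_nat (orderOf_dvd_of_pow_eq_one hyp)
    have := eq_one_of_commute_invol hC
      (orderOf_pow_orderOf_div (orderOf_pos (g' : G)).ne' heven)
      (((show Commute (y : G) (g' : G) from hcy).symm).pow_left _) hyodd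
    exact hy1 (by rw [show y = 1 from Subtype.ext this, map_one])
  · intro M hM hM2
    rw [eq_bot_iff]
    intro x hx
    set M0 := M.comap (rep hN).rangeRestrict with hM0
    have hM02 : IsPGroup 2 M0 := by
      intro n
      obtain ⟨k, hk⟩ := hM2 ⟨_, n.2⟩
      have hk' : (rep hN).rangeRestrict ((n : N) ^ 2 ^ k) = 1 := by
        rw [map_pow]; exact congrArg Subtype.val hk
      obtain ⟨l, hl⟩ := hker ⟨(((n : N) ^ 2 ^ k : N) : G),
        ⟨((n : N) ^ 2 ^ k).2, (rep_eq_one_iff hN _).1 (congrArg Subtype.val hk')⟩⟩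
      refine ⟨k + l, Subtype.ext (Subtype.ext ?_)⟩
      show ((n : N) : G) ^ 2 ^ (k + l) = 1
      rw [pow_add, pow_mul]
      simpa using congrArg Subtype.val hl
    obtain ⟨n, rfl⟩ := (rep hN).rangeRestrict_surjective x
    have hle : M0.map N.subtype ≤ Subgroup.centralizer (V : Set G) := by
      refine hcore _ (Subgroup.map_subtype_le _) (hM02.map _) fun g hg => ?_
      have hMn : M0.Normal := hM.comap _
      refine Subgroup.mem_normalizer_fintype fun x hx => ?_
      obtain ⟨u, hu, rfl⟩ := hx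
      exact ⟨⟨g, hg⟩ * u * ⟨g, hg⟩⁻¹, hMn.conj_mem u hu _, rfl⟩
    exact Subtype.ext ((rep_eq_one_iff hN n).2 (hle ⟨n, hx, rfl⟩))

theorem card_fix_img [IsMulCommutative V] {A : Subgroup G} (hA : A ≤ N) :
    Nat.card (fixS (V := V) (img hN A)) =
      Nat.card ↥(V ⊓ Subgroup.centralizer (A : Set G)) := by
  have hiff : ∀ v : V, v ∈ fixS (V := V) (img hN A) ↔
      (v : G) ∈ Subgroup.centralizer (A : Set G) := by
    intro v
    rw [mem_fixS, Subgroup.mem_centralizer_iff]
    constructor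
    · intro h a ha
      exact (smul_eq_iff hN ⟨a, hA ha⟩ v).1 (h _ ((mem_img hN hA).2 ⟨a, ha, rfl⟩))
    · intro h x hx
      obtain ⟨a, ha, rfl⟩ := (mem_img hN hA).1 hx
      exact (smul_eq_iff hN _ v).2 (h a ha)
  exact Nat.card_congr
    { toFun := fun v => ⟨(v.1 : G), v.1.2, (hiff _).1 v.2⟩
      invFun := fun v => ⟨⟨v.1, v.2.1⟩, (hiff ⟨v.1, v.2.1⟩).2 v.2.2⟩
      left_inv := fun v => rfl
      right_inv := fun v => rfl }

/-- A quadratic abelian subgroup gives an offender. -/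
theorem isOffender_img [IsMulCommutative V] {A : Subgroup G} (hA : A ≤ N) (hA2 : IsPGroup 2 A)
    (hAc : ∀ a ∈ A, ∀ b ∈ A, a * b = b * a)
    (hAne : ¬ A ≤ Subgroup.centralizer (V : Set G))
    (hquad : ∀ a ∈ A, ∀ b ∈ A, ∀ v ∈ V, Commute b (a * v * a⁻¹ * v⁻¹))
    (hlarge : Nat.card V * Nat.card ↥(A ⊓ Subgroup.centralizer (V : Set G)) ≤
      Nat.card A * Nat.card ↥(V ⊓ Subgroup.centralizer (A : Set G))) :
    IsOffender V (img hN A) := by
  refine ⟨(hA2.comap_of_injective N.subtype N.subtype_injective).map _, ?_, ?_, ?_, ?_⟩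
  · intro e
    apply hAne
    intro a ha
    have : (rep hN).rangeRestrict ⟨a, hA ha⟩ ∈ (⊥ : Subgroup (rep hN).range) :=
      e ▸ (mem_img hN hA).2 ⟨a, ha, rfl⟩
    exact (rep_eq_one_iff hN _).1 (congrArg Subtype.val (Subgroup.mem_bot.1 this))
  · intro x hx y hy
    obtain ⟨a, ha, rfl⟩ := (mem_img hN hA).1 hx
    obtain ⟨b, hb, rfl⟩ := (mem_img hN hA).1 hy
    rw [← map_mul, ← map_mul]
    exact congrArg _ (Subtype.ext (hAc a ha b hb))
  · intro x hx y hy v
    obtain ⟨a, ha, rfl⟩ := (mem_img hN hA).1 hx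
    obtain ⟨b, hb, rfl⟩ := (mem_img hN hA).1 hy
    rw [smul_eq_iff, coe_dlt]
    exact hquad a ha b hb v v.2
  · rw [card_fix_img hN hA]
    refine Nat.le_of_mul_le_mul_right ?_
      (Nat.card_pos (α := ↥(A ⊓ Subgroup.centralizer (V : Set G))))
    calc _ ≤ Nat.card A * Nat.card ↥(V ⊓ Subgroup.centralizer (A : Set G)) := hlarge
      _ = _ := by rw [← card_img_mul hN hA]; ring

end CfsgLib.CIT
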